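import Mathlib
import Cfsg.Prelude.Def_Solvable
import Cfsg.Agent.Lib.Cores.Fitting

/-!
The second term of the upper Fitting chain: functoriality and the consequences of membership for a
`p`-element.
-/

set_option autoImplicit false
set_option linter.style.haveILetI false

namespace Cfsg.Agent.SecondFitting

open Subgroup
open scoped commutatorElement

variable {G : Type*} [Group G]

/-- The second term of the upper Fitting chain. -/
def F2 (G : Type*) [Group G] : Subgroup G :=
  (Cfsg.fittingSubgroup (G ⧸ Cfsg.fittingSubgroup G)).comap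
    (QuotientGroup.mk' (Cfsg.fittingSubgroup G))

instance F2_normal : (F2 G).Normal :=
  Subgroup.Normal.comap inferInstance _

theorem mem_F2 {g : G} : g ∈ F2 G ↔ QuotientGroup.mk' (Cfsg.fittingSubgroup G) g ∈
    Cfsg.fittingSubgroup (G ⧸ Cfsg.fittingSubgroup G) := Iff.rfl

theorem map_F2_le {H : Type*} [Group H] {f : G →* H} (hf : Function.Surjective f) :
    (F2 G).map f ≤ F2 H := by
  rw [Subgroup.map_le_iff_le_comap]
  intro g hg
  have hle : Cfsg.fittingSubgroup G ≤ (Cfsg.fittingSubgroup H).comap f :=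
    Subgroup.map_le_iff_le_comap.mp (Cores.map_fittingSubgroup_le hf)
  set φ := QuotientGroup.map (Cfsg.fittingSubgroup G) (Cfsg.fittingSubgroup H) f hle with hφ
  have hφs : Function.Surjective φ := by
    intro h
    obtain ⟨h, rfl⟩ := QuotientGroup.mk'_surjective _ h
    obtain ⟨a, rfl⟩ := hf h
    exact ⟨QuotientGroup.mk' _ a, rfl⟩
  exact Cores.map_fittingSubgroup_le hφs ⟨_, hg, rfl⟩

theorem comap_fitting_le [Finite G] {K : Type*} [Group K] [Finite K] {f : K →* G}
    (hf : Function.Injective f) :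
    (Cfsg.fittingSubgroup G).comap f ≤ Cfsg.fittingSubgroup K := by
  refine Cores.le_fittingSubgroup ?_
  haveI := Cores.fittingSubgroup_isNilpotent (G := G)
  let g : (Cfsg.fittingSubgroup G).comap f →* Cfsg.fittingSubgroup G :=
    { toFun := fun a => ⟨f (a : K), a.2⟩
      map_one' := Subtype.ext (map_one f)
      map_mul' := fun a b => Subtype.ext (map_mul f (a : K) b) }
  have hg : Function.Injective g := fun a b h => Subtype.ext (hf (congrArg Subtype.val h))
  exact Group.nilpotent_of_mulEquiv (MonoidHom.ofInjective hg).symm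

theorem comap_F2_le [Finite G] {K : Type*} [Group K] [Finite K] {f : K →* G}
    (hf : Function.Injective f) : (F2 G).comap f ≤ F2 K := by
  set M := (F2 G).comap f
  haveI : M.Normal := Subgroup.Normal.comap inferInstance f
  haveI : (M.map (QuotientGroup.mk' (Cfsg.fittingSubgroup K))).Normal :=
    Subgroup.Normal.map inferInstance _ (QuotientGroup.mk'_surjective _)
  haveI := Cores.fittingSubgroup_isNilpotent (G := G ⧸ Cfsg.fittingSubgroup G)
  let g : M →* Cfsg.fittingSubgroup (G ⧸ Cfsg.fittingSubgroup G) :=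
    { toFun := fun a => ⟨QuotientGroup.mk' _ (f (a : K)), a.2⟩
      map_one' := Subtype.ext (by simp)
      map_mul' := fun a b => Subtype.ext (by simp) }
  let q := (QuotientGroup.mk' (Cfsg.fittingSubgroup K)).subgroupMap M
  have hker : g.ker ≤ q.ker := by
    intro a ha
    have h1 : f (a : K) ∈ Cfsg.fittingSubgroup G :=
      (QuotientGroup.eq_one_iff _).mp (congrArg Subtype.val (MonoidHom.mem_ker.mp ha))
    exact MonoidHom.mem_ker.mpr (Subtype.ext ((QuotientGroup.eq_one_iff _).mpr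
      (comap_fitting_le hf h1)))
  haveI : Group.IsNilpotent (M ⧸ g.ker) :=
    Group.nilpotent_of_mulEquiv (QuotientGroup.quotientKerEquivRange g).symm
  have hn : Group.IsNilpotent (M.map (QuotientGroup.mk' (Cfsg.fittingSubgroup K))) := by
    refine Group.nilpotent_of_surjective (QuotientGroup.lift g.ker q hker) ?_
    intro b
    obtain ⟨a, rfl⟩ := (QuotientGroup.mk' _).subgroupMap_surjective M b
    exact ⟨QuotientGroup.mk' _ a, rfl⟩
  exact Subgroup.map_le_iff_le_comap.mp (Cores.le_fittingSubgroup hn)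

/-- Membership in the second Fitting subgroup of a subgroup. -/
def InF2 (H : Subgroup G) (x : G) : Prop := ∃ hx : x ∈ H, (⟨x, hx⟩ : H) ∈ F2 H

theorem InF2.mem {H : Subgroup G} {x : G} (h : InF2 H x) : x ∈ H := h.1

theorem InF2.anti [Finite G] {H K : Subgroup G} {x : G} (h : InF2 H x) (hKH : K ≤ H)
    (hx : x ∈ K) : InF2 K x :=
  ⟨hx, comap_F2_le (Subgroup.inclusion_injective hKH) (show Subgroup.inclusion hKH ⟨x, hx⟩ ∈ F2 H from h.2)⟩

theorem InF2.pow {H : Subgroup G} {x : G} (h : InF2 H x) (k : ℕ) : InF2 H (x ^ k) :=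
  ⟨pow_mem h.1 k, pow_mem h.2 k⟩

theorem inF2_map {G' : Type*} [Group G'] (f : G →* G') {H : Subgroup G} {x : G} (h : InF2 H x) :
    InF2 (H.map f) (f x) :=
  ⟨Subgroup.mem_map_of_mem f h.1,
    map_F2_le (f.subgroupMap_surjective H) ⟨⟨x, h.1⟩, h.2, rfl⟩⟩

theorem inF2_of_mem [Finite G] {x : G} (h : x ∈ F2 G) (H : Subgroup G) (hx : x ∈ H) : InF2 H x :=
  ⟨hx, comap_F2_le H.subtype_injective h⟩

/-- A `p`-subgroup of the Fitting subgroup lies in the `p`-core. -/
theorem le_pCore_of_le_fitting [Finite G] {p : ℕ} [Fact p.Prime] {K : Subgroup G}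
    (hK : IsPGroup p K) (hKF : K ≤ Cfsg.fittingSubgroup G) : K ≤ Cfsg.pCore p G := by
  obtain ⟨P, hP⟩ := (hK.comap_subtype (K := Cfsg.fittingSubgroup G)).exists_le_sylow
  intro k hk
  rw [← Cores.sylow_fitting_map P]
  exact ⟨⟨k, hKF hk⟩, hP hk, rfl⟩

theorem isPGroup_zpowers {p : ℕ} [Fact p.Prime] {x : G} {a : ℕ} (hx : orderOf x = p ^ a) :
    IsPGroup p (zpowers x) :=
  IsPGroup.of_card (by rw [Nat.card_zpowers, hx])

section Element

variable [Finite G] {p : ℕ} [Fact p.Prime] {x : G}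

theorem mk_mem_pCore (hx : IsPGroup p (zpowers x)) (hF : x ∈ F2 G) :
    QuotientGroup.mk' (Cfsg.fittingSubgroup G) x ∈
      Cfsg.pCore p (G ⧸ Cfsg.fittingSubgroup G) := by
  have h1 : IsPGroup p (zpowers (QuotientGroup.mk' (Cfsg.fittingSubgroup G) x)) := by
    rw [← MonoidHom.map_zpowers]; exact hx.map _
  exact le_pCore_of_le_fitting h1 (zpowers_le.mpr (mem_F2.mp hF)) (mem_zpowers _)

/-- A `q`-group which is its own commutator with a `p`-element of the second Fitting subgroup lies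
in the `q`-core. -/
theorem le_pCore_of_commutator (hx : IsPGroup p (zpowers x)) (hF : x ∈ F2 G) {q : ℕ} [Fact q.Prime]
    (hqp : q ≠ p) {R : Subgroup G} (hR : IsPGroup q R) (hRx : ⁅R, zpowers x⁆ = R) :
    R ≤ Cfsg.pCore q G := by
  refine le_pCore_of_le_fitting hR ?_
  set φ := QuotientGroup.mk' (Cfsg.fittingSubgroup G) with hφ
  have h1 : R.map φ ≤ Cfsg.pCore p (G ⧸ Cfsg.fittingSubgroup G) := by
    conv_lhs => rw [← hRx]
    rw [Subgroup.map_commutator, MonoidHom.map_zpowers]
    refine (Subgroup.commutator_mono le_rfl (zpowers_le.mpr (mk_mem_pCore hx hF))).trans ?_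
    exact Subgroup.commutator_le_right _ _
  have h2 : R.map φ ≤ ⊥ := fun a ha => (IsPGroup.disjoint_of_ne q p hqp _ _ (hR.map φ)
    (Cores.pCore_isPGroup p)).le_bot ⟨ha, h1 ha⟩
  intro r hr
  exact (QuotientGroup.eq_one_iff r).mp (mem_bot.mp (h2 ⟨r, hr, rfl⟩))

/-- Criterion for nilpotency. -/
theorem isNilpotent_of_cores {r : ℕ} [Fact r.Prime] {M : Subgroup G}
    (h : ∀ s : ℕ, s.Prime → s ≠ r → ∀ S : Subgroup G, S ≤ M → IsPGroup s S →
      S ≤ Cfsg.pCore s G ∧ ∀ R : Subgroup G, R ≤ M → IsPGroup r R →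
        S ≤ Subgroup.centralizer (R : Set G)) :
    Group.IsNilpotent M := by
  refine (Group.isNilpotent_of_finite_tfae (G := M)).out 0 3 |>.mpr ?_
  intro s hs P
  by_cases hsr : s = r
  · subst hsr
    rw [← normalizer_eq_top_iff]
    refine Cores.eq_top_of_sylow_le fun t ht _ => ?_
    haveI := Fact.mk ht
    by_cases hts : t = s
    · subst hts
      exact ⟨P, le_normalizer⟩
    · obtain ⟨S⟩ : Nonempty (Sylow t M) := inferInstance
      refine ⟨S, fun a ha => Subgroup.centralizer_le_normalizer _ ?_⟩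
      refine mem_centralizer_iff.mpr fun b hb => Subtype.ext ?_
      exact mem_centralizer_iff.mp (((h t ht hts _ (map_subtype_le (S : Subgroup M))
        (S.2.map _)).2 _ (map_subtype_le (P : Subgroup M)) (P.2.map _)) ⟨a, ha, rfl⟩) _ ⟨b, hb, rfl⟩
  · have h1 : (P : Subgroup M) ≤ (Cfsg.pCore s G).subgroupOf M := fun a ha =>
      (h s hs.out hsr _ (map_subtype_le (P : Subgroup M)) (P.2.map _)).1 ⟨a, ha, rfl⟩
    have h2 : ((Cfsg.pCore s G).subgroupOf M) ≤ (P : Subgroup M) :=
      IsPGroup.le_sylow_of_normal ((Cores.pCore_isPGroup s).comap_subtype) P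
    rw [le_antisymm h1 h2]
    infer_instance

/-- A `p`-element of the second Fitting subgroup centralising all `q`-cores, `q ≠ p`, lies in the
`p`-core. -/
theorem mem_pCore_of_centralize (hx : IsPGroup p (zpowers x)) (hF : x ∈ F2 G)
    (hc : ∀ q : ℕ, q.Prime → q ≠ p → x ∈ Subgroup.centralizer (Cfsg.pCore q G : Set G)) :
    x ∈ Cfsg.pCore p G := by
  set M := Subgroup.normalClosure {x}
  set φ := QuotientGroup.mk' (Cfsg.fittingSubgroup G) with hφ
  have hM : M ≤ (Cfsg.pCore p (G ⧸ Cfsg.fittingSubgroup G)).comap φ := by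
    haveI : ((Cfsg.pCore p (G ⧸ Cfsg.fittingSubgroup G)).comap φ).Normal :=
      Subgroup.Normal.comap inferInstance _
    exact Subgroup.normalClosure_le_normal (Set.singleton_subset_iff.mpr (mk_mem_pCore hx hF))
  have hn : Group.IsNilpotent M := by
    refine isNilpotent_of_cores (r := p) fun s hs hsp S hSM hS => ?_
    haveI := Fact.mk hs
    have hSF : S ≤ Cfsg.fittingSubgroup G := by
      intro a ha
      have := (IsPGroup.disjoint_of_ne s p hsp _ _ (hS.map φ) (Cores.pCore_isPGroup p)).le_bot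
        ⟨⟨a, ha, rfl⟩, hM (hSM ha)⟩
      exact (QuotientGroup.eq_one_iff a).mp (mem_bot.mp this)
    have hSc := le_pCore_of_le_fitting hS hSF
    refine ⟨hSc, fun R hRM _ => ?_⟩
    haveI : (Subgroup.centralizer (Cfsg.pCore s G : Set G)).Normal :=
      Subgroup.normal_centralizer
    have hMc : M ≤ Subgroup.centralizer (Cfsg.pCore s G : Set G) :=
      Subgroup.normalClosure_le_normal (Set.singleton_subset_iff.mpr (hc s hs hsp))
    exact Subgroup.le_centralizer_iff.mp ((hRM.trans hMc).trans (Subgroup.centralizer_le hSc))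
  exact le_pCore_of_le_fitting hx (zpowers_le.mpr
    (Cores.le_fittingSubgroup hn (Subgroup.subset_normalClosure rfl))) (mem_zpowers x)

/-- The join of the `q`-cores for the primes `q` different from `p`. -/
def primeCores (p : ℕ) (G : Type*) [Group G] : Subgroup G :=
  ⨆ q : {q : ℕ // q.Prime ∧ q ≠ p}, Cfsg.pCore (q : ℕ) G

instance primeCores_normal : (primeCores p G).Normal := by
  unfold primeCores
  exact Subgroup.iSup_normal (fun q : {q : ℕ // q.Prime ∧ q ≠ p} => Cfsg.pCore (q : ℕ) G)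

theorem exists_conj_mem_sylow {y : G} (hy : IsPGroup p (zpowers y))
    (hQ : IsPGroup p (G ⧸ Cfsg.fittingSubgroup G)) (P : Sylow p G) :
    ∃ f ∈ primeCores p G, f⁻¹ * y * f ∈ (P : Subgroup G) := by
  obtain ⟨P', hP'⟩ := hy.exists_le_sylow
  obtain ⟨g, rfl⟩ := MulAction.exists_smul_eq G P P'
  have htop : primeCores p G ⊔ (P : Subgroup G) = ⊤ := by
    refine Cores.eq_top_of_sylow_le fun s hs _ => ?_
    haveI := Fact.mk hs
    by_cases hsp : s = p
    · subst hsp; exact ⟨P, le_sup_right⟩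
    · obtain ⟨S⟩ : Nonempty (Sylow s G) := inferInstance
      refine ⟨S, fun a ha => mem_sup_left ?_⟩
      have hSF : (S : Subgroup G) ≤ Cfsg.fittingSubgroup G := by
        intro b hb
        have := (IsPGroup.disjoint_of_ne s p hsp _ _
          (S.2.map (QuotientGroup.mk' (Cfsg.fittingSubgroup G))) (hQ.to_subgroup ⊤)).le_bot
          ⟨⟨b, hb, rfl⟩, mem_top _⟩
        exact (QuotientGroup.eq_one_iff b).mp (mem_bot.mp this)
      exact le_iSup (fun q : {q : ℕ // q.Prime ∧ q ≠ p} => Cfsg.pCore (q : ℕ) G) ⟨s, hs, hsp⟩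
        (le_pCore_of_le_fitting S.2 hSF ha)
  obtain ⟨f, hf, π, hπ, rfl⟩ := Subgroup.mem_sup_of_normal_left.mp
    (htop ▸ mem_top g : g ∈ primeCores p G ⊔ (P : Subgroup G))
  refine ⟨f, hf, ?_⟩
  have h := hP' (mem_zpowers y)
  rw [Sylow.coe_subgroup_smul, Subgroup.mem_pointwise_smul_iff_inv_smul_mem] at h
  have h' : π⁻¹ * (f⁻¹ * y * f) * π ∈ (P : Subgroup G) := by
    simpa [MulAut.smul_def, mul_assoc] using h
  simpa [mul_assoc] using mul_mem (mul_mem hπ h') (inv_mem hπ)

theorem isPGroup_quotient_fitting (S : Set G) (hS : Subgroup.closure S = ⊤)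
    (h : ∀ s ∈ S, IsPGroup p (zpowers s) ∧ s ∈ F2 G) :
    IsPGroup p (G ⧸ Cfsg.fittingSubgroup G) := by
  refine (Cores.pCore_eq_top_iff p).mp (eq_top_iff.mpr fun a _ => ?_)
  obtain ⟨g, rfl⟩ := QuotientGroup.mk'_surjective _ a
  have : g ∈ Subgroup.closure S := hS ▸ mem_top g
  exact (Subgroup.closure_le (K := (Cfsg.pCore p (G ⧸ Cfsg.fittingSubgroup G)).comap
    (QuotientGroup.mk' _))).mpr (fun s hs => mk_mem_pCore (h s hs).1 (h s hs).2) this

end Element

end Cfsg.Agent.SecondFitting
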