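import Cfsg.Agent.Lib.SecondFitting.Local
import Cfsg.Agent.Lib.Involutions.BaerSuzuki
import Cfsg.Agent.LocalFlavell.CommutatorFixedCentral

/-!
Uniqueness of maximal members.
-/

set_option autoImplicit false
set_option linter.style.haveILetI false
set_option linter.unusedSectionVars false

namespace Cfsg.Agent.SecondFitting

open Subgroup
open scoped Pointwise commutatorElement

universe u

variable {G : Type u} [Group G] [Finite G] {p q : ℕ} [Fact p.Prime] [Fact q.Prime] {x : G}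

/-- A subgroup of a nilpotent group containing the part of its normalizer in it is everything. -/
theorem eq_of_normalizer_inf_le {Q T : Subgroup G} (hQ : Group.IsNilpotent Q) (hT : T ≤ Q)
    (h : Q ⊓ normalizer (T : Set G) ≤ T) : T = Q := by
  refine le_antisymm hT (subgroupOf_eq_top.mp ?_)
  by_contra hne
  have hlt : T.subgroupOf Q < normalizer (T.subgroupOf Q : Set Q) :=
    Group.normalizerCondition_of_isNilpotent (h := hQ) _ (lt_top_iff_ne_top.mpr hne)
  obtain ⟨a, ha, haT⟩ := SetLike.exists_of_lt hlt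
  refine haT (mem_subgroupOf.mpr (h ⟨a.2, ?_⟩))
  refine mem_normalizer_fintype fun t ht => ?_
  have := (mem_normalizer_iff.mp ha ⟨t, hT ht⟩).mp (mem_subgroupOf.mpr ht)
  exact mem_subgroupOf.mp this

/-- A `q`-subgroup of `C(x)` absorbs the fixed points of all members. -/
def Fix (x : G) (A : Subgroup G) (q : ℕ) : Prop :=
  ∃ Q₀ : Subgroup G, IsPGroup q Q₀ ∧ Q₀ ≤ Cx x ∧ A ≤ normalizer (Q₀ : Set G) ∧
    ∀ R : Subgroup G, Member x q R → A ≤ normalizer (R : Set G) → R ⊓ Cx x ≤ Q₀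

theorem exists_acolour {A R : Subgroup G} (hR : Member x q R) (hA : A ≤ normalizer (R : Set G))
    (h0 : R ≠ ⊥) : ∃ W, AColour x A q W ∧ R ≤ W := by
  obtain ⟨W, hRW, hW, hmax⟩ := Set.Finite.exists_le_maximal
    (Set.toFinite {W : Subgroup G | Member x q W ∧ A ≤ normalizer (W : Set G)}) (a := R) ⟨hR, hA⟩
  exact ⟨W, ⟨hW.1, hW.2, fun h => h0 (le_bot_iff.mp (h ▸ hRW)),
    fun S hS hSA hle => le_antisymm (hmax ⟨hS, hSA⟩ hle) hle⟩, hRW⟩

theorem exists_colour {R : Subgroup G} (hR : Member x q R) (h0 : R ≠ ⊥) :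
    ∃ W, Colour x q W ∧ R ≤ W := exists_acolour hR hR.norm h0

theorem AColour.eq_of_le (s : Setting p x) (hqp : q ≠ p) {A : Subgroup G}
    (hxA : x ∈ A) (hA : A ≤ Cx x) (hfix : Fix x A q) :
    ∀ {W₁ W₂ R : Subgroup G}, AColour x A q W₁ → AColour x A q W₂ → Member x q R →
      A ≤ normalizer (R : Set G) → R ≠ ⊥ → R ≤ W₁ → R ≤ W₂ → W₁ = W₂ := by
  obtain ⟨Q₀, hQ₀, hQ₀x, hAQ₀, hQfix⟩ := hfix
  suffices H : ∀ k : ℕ, ∀ W₁ W₂ R : Subgroup G, Nat.card G - Nat.card R = k →
      AColour x A q W₁ → AColour x A q W₂ → Member x q R →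
      A ≤ normalizer (R : Set G) → R ≠ ⊥ → R ≤ W₁ → R ≤ W₂ → W₁ = W₂ from
    fun {W₁ W₂ R} => H _ W₁ W₂ R rfl
  intro k
  induction k using Nat.strong_induction_on with
  | _ k ih =>
  intro W₁ W₂ R hk hW₁ hW₂ hR hRA hR0 hR1 hR2
  have key : ∀ S : Subgroup G, Member x q S → A ≤ normalizer (S : Set G) → R < S →
      ∀ W W' : Subgroup G, AColour x A q W → AColour x A q W' → S ≤ W → S ≤ W' → W = W' := by
    intro S hS hSA hlt W W' hW hW' hSW hSW'
    have h1 : Nat.card R < Nat.card S := by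
      by_contra hc
      exact hlt.ne (eq_of_le_of_card_ge hlt.le (not_lt.mp hc))
    have h2 := Subgroup.card_le_card_group S
    exact ih _ (by omega) W W' S rfl hW hW' hS hSA (ne_bot_of_gt hlt) hSW hSW'
  set T' := R ⊔ (Q₀ ⊓ normalizer (R : Set G)) with hT'
  have hCR : Q₀ ⊓ normalizer (R : Set G) ≤ normalizer (R : Set G) := inf_le_right
  have hT'p : IsPGroup q T' := hR.isP.to_sup_of_normal_left' (hQ₀.to_le inf_le_left) hCR
  have hAT' : A ≤ normalizer (T' : Set G) :=
    le_normalizer_sup hRA (le_normalizer_inf hAQ₀ (hRA.trans le_normalizer))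
  have hxT' : zpowers x ≤ normalizer (T' : Set G) := (zpowers_le.mpr hxA).trans hAT'
  have hT'el : ∀ t ∈ T', ∃ d ∈ R, ∃ c ∈ Q₀ ⊓ normalizer (R : Set G), t = d * c := by
    intro t ht
    obtain ⟨d, hd, c, hc, rfl⟩ := (Coprime.mem_sup_of_le_normalizer hCR).mp ht
    exact ⟨d, hd, c, hc, rfl⟩
  have hT'R : ⁅T', zpowers x⁆ ≤ R := by
    refine (Coprime.commutator_le_of_forall_eq_mul fun t ht => ?_).trans hR.comm.le
    obtain ⟨d, hd, c, hc, rfl⟩ := hT'el t ht
    exact ⟨d, hd, c, hQ₀x hc.1, rfl⟩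
  have hstep : ∀ W, AColour x A q W → R ≤ W → R ≠ W →
      R < ecore x q (normalizer (T' : Set G)) ∧ ecore x q (normalizer (T' : Set G)) ≤ W := by
    intro W hW hRW hne
    have hWp := hW.member.isP
    let P : Subgroup G → Prop := fun T => R ≤ T ∧ T ≤ T' ∧ A ≤ normalizer (T : Set G) ∧
      ∃ S, Member x q S ∧ A ≤ normalizer (S : Set G) ∧ R < S ∧ S ≤ W ∧ T ≤ normalizer (S : Set G)
    obtain ⟨T, -, ⟨hRT, hTT', hAT, S, hS, hSA, hRS, hSW, hTS⟩, hmax⟩ :=
      Set.Finite.exists_le_maximal (Set.toFinite {T : Subgroup G | P T}) (a := R)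
        ⟨le_rfl, le_sup_left, hRA, W, hW.member, hW.inv, lt_of_le_of_ne hRW hne, le_rfl,
          hRW.trans le_normalizer⟩
    have hTp : IsPGroup q T := hT'p.to_le hTT'
    set Q := S ⊔ T
    have hQp : IsPGroup q Q := hS.isP.to_sup_of_normal_left' hTp hTS
    have hQel : ∀ k ∈ Q, ∃ a ∈ S, ∃ c ∈ Q₀ ⊓ normalizer (R : Set G), k = a * c := by
      intro k hk
      obtain ⟨a, ha, t, ht, rfl⟩ := (Coprime.mem_sup_of_le_normalizer hTS).mp hk
      obtain ⟨d, hd, c, hc, rfl⟩ := hT'el t (hTT' ht)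
      exact ⟨a * d, mul_mem ha (hRS.le hd), c, hc, (mul_assoc _ _ _).symm⟩
    have hQS : ⁅Q, zpowers x⁆ ≤ S := by
      refine (Coprime.commutator_le_of_forall_eq_mul fun k hk => ?_).trans hS.comm.le
      obtain ⟨a, ha, c, hc, rfl⟩ := hQel k hk
      exact ⟨a, ha, c, hQ₀x hc.1, rfl⟩
    have hQc : Q ⊓ Cx x ≤ Q₀ := by
      intro k hk
      obtain ⟨a, ha, c, hc, rfl⟩ := hQel k hk.1
      have hax : a ∈ Cx x := by
        have := mul_mem (mem_inf.mp hk).2 (inv_mem (hQ₀x hc.1))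
        rwa [mul_inv_cancel_right] at this
      exact mul_mem (hQfix S hS hSA ⟨ha, hax⟩) hc.1
    have hTR : ⁅T, zpowers x⁆ = R :=
      le_antisymm ((commutator_mono hTT' le_rfl).trans hT'R)
        (hR.comm.ge.trans (commutator_mono hRT le_rfl))
    have hAQ : A ≤ normalizer (Q : Set G) := le_normalizer_sup hSA hAT
    set M := Q ⊓ normalizer (T : Set G)
    have hMp : IsPGroup q M := hQp.to_le inf_le_left
    have hAM : A ≤ normalizer (M : Set G) := le_normalizer_inf hAQ (hAT.trans le_normalizer)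
    have hxM : zpowers x ≤ normalizer (M : Set G) := (zpowers_le.mpr hxA).trans hAM
    have hTM : T ≤ M := le_inf le_sup_right le_normalizer
    set S' := ⁅M, zpowers x⁆ with hS'
    have hMc : M ⊓ Cx x ≤ normalizer (R : Set G) := by
      rw [← hTR]
      exact le_normalizer_commutator (inf_le_left.trans inf_le_right)
        (inf_le_right.trans (Cx_le_normalizer_zpowers x))
    have hS'R : ¬ S' ≤ R := by
      intro hle
      have hMT' : M ≤ T' := by
        refine (Coprime.commutator_sup_inf_centralizer hxM (coprime_card s.order hqp hMp)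
          (Or.inl (LocalFlavell.CommutatorFixed.solvable_zpowers x))).ge.trans
          (sup_le (hle.trans le_sup_left) ?_)
        exact (le_inf ((inf_le_inf_right _ inf_le_left).trans hQc) hMc).trans le_sup_right
      have hMT : M = T := le_antisymm (hmax ⟨hRT.trans hTM, hMT', hAM, S, hS, hSA, hRS, hSW,
        (inf_le_left : M ≤ Q).trans (sup_le le_normalizer hTS)⟩ hTM) hTM
      have hTQ : T = Q := eq_of_normalizer_inf_le hQp.isNilpotent le_sup_right hMT.le
      have hST : S ≤ R :=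
        hS.comm.ge.trans ((commutator_mono (le_sup_left.trans hTQ.ge) le_rfl).trans hTR.le)
      exact hRS.not_ge hST
    have hS'm : Member x q S' := member_commutator s.order hqp hMp hxM
    have hS'A : A ≤ normalizer (S' : Set G) :=
      le_normalizer_commutator hAM (hA.trans (Cx_le_normalizer_zpowers x))
    have hRS' : R < S' := lt_of_le_of_ne (hTR.ge.trans (commutator_mono hTM le_rfl))
      fun h => hS'R h.ge
    have hT0 : T ≠ ⊥ := fun h => hR0 (le_bot_iff.mp (h ▸ hRT))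
    set L := normalizer (T : Set G)
    have hLne : L ≠ ⊤ := s.normalizer_ne_top_of_isPGroup hT0 hTp
    have hxL : x ∈ L := hAT hxA
    have hS'L : S' ≤ L :=
      (Coprime.commutator_le_of_le_normalizer hxM).trans inf_le_right
    set E := ecore x q L
    have hS'E : S' ≤ E := s.le_ecore hqp hLne hxL hS'm hS'L
    have hEm : Member x q E := member_ecore s.order hqp hxL
    have hEA : A ≤ normalizer (E : Set G) := le_normalizer_ecore hAT hA
    obtain ⟨W₃, hW₃, hEW₃⟩ := exists_acolour hEm hEA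
      (fun h => hR0 (le_bot_iff.mp (h ▸ hRS'.le.trans hS'E)))
    have hW3 : W₃ = W := key S' hS'm hS'A hRS' W₃ W hW₃ hW (hS'E.trans hEW₃)
      (((commutator_mono inf_le_left le_rfl).trans hQS).trans hSW)
    subst hW3
    have hTT : T' ⊓ L ≤ T := by
      refine hmax ⟨le_inf le_sup_left (hRT.trans le_normalizer), inf_le_left,
        le_normalizer_inf hAT' (hAT.trans le_normalizer), E, hEm, hEA, hRS'.trans_le hS'E,
        hEW₃, ?_⟩ (le_inf hTT' le_normalizer)
      intro t ht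
      obtain ⟨d, hd, c, hc, rfl⟩ := hT'el t ht.1
      refine mul_mem (le_normalizer (hRS'.le.trans hS'E hd)) ?_
      have hcL : c ∈ L := by
        have := mul_mem (inv_mem ((hRT.trans le_normalizer) hd)) ht.2
        rwa [inv_mul_cancel_left] at this
      exact le_normalizer_ecore (q := q) (A := L ⊓ Cx x) inf_le_left inf_le_right
        ⟨hcL, hQ₀x hc.1⟩
    have hTeq : T = T' := eq_of_normalizer_inf_le hT'p.isNilpotent hTT' hTT
    subst hTeq
    exact ⟨hRS'.trans_le hS'E, hEW₃⟩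
  by_contra hne
  have h1 : R ≠ W₁ := fun h => hne (hW₁.max W₂ hW₂.member hW₂.inv (h ▸ hR2)).symm
  have h2 : R ≠ W₂ := fun h => hne (hW₂.max W₁ hW₁.member hW₁.inv (h ▸ hR1))
  obtain ⟨hlt, hE1⟩ := hstep W₁ hW₁ hR1 h1
  obtain ⟨-, hE2⟩ := hstep W₂ hW₂ hR2 h2
  have hxN : x ∈ normalizer (T' : Set G) := hAT' hxA
  exact hne (key _ (member_ecore s.order hqp hxN)
    (le_normalizer_ecore hAT' hA) hlt W₁ W₂ hW₁ hW₂ hE1 hE2)

theorem Colour.eq_of_le (s : Setting p x) (hqp : q ≠ p) (hfix : Fix x (zpowers x) q)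
    {W₁ W₂ R : Subgroup G} (h₁ : Colour x q W₁) (h₂ : Colour x q W₂) (hR : Member x q R)
    (hR0 : R ≠ ⊥) (hR1 : R ≤ W₁) (hR2 : R ≤ W₂) : W₁ = W₂ :=
  AColour.eq_of_le s hqp (mem_zpowers x)
    (zpowers_le.mpr (mem_Cx.mpr rfl)) hfix h₁ h₂ hR hR.norm hR0 hR1 hR2

/-- For odd `p` the fixed points of members lie in `O_q(C(x))`. -/
theorem fix_of_odd (s : Setting p x) (hp : p ≠ 2) (hqp : q ≠ p) : Fix x (zpowers x) q := by
  have hxC : zpowers x ≤ Cx x := zpowers_le.mpr (mem_Cx.mpr rfl)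
  refine ⟨core q (Cx x), core_isPGroup q _, core_le q _, hxC.trans (le_normalizer_core q _),
    fun R hR _ => ?_⟩
  have hRc : ¬ p ∣ Nat.card R := fun hd => by
    obtain ⟨n, hn⟩ := hR.isP.exists_card_eq
    exact hqp ((Nat.prime_dvd_prime_iff_eq Fact.out Fact.out).mp
      ((Fact.out : p.Prime).dvd_of_dvd_pow (hn ▸ hd))).symm
  have h1 := LocalFlavell.CommutatorFixed.commutator_inf_centralizer_le (p := p) (Nat.card R) x R
    le_rfl s.order hp (hR.norm (mem_zpowers x))
    (haveI := hR.isP.isNilpotent; inferInstance) hRc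
  rw [hR.comm] at h1
  refine h1.trans (iSup₂_le fun h hh => ?_)
  obtain ⟨d, hd, hDd, hdR⟩ := exists_selfC s.order hqp hR.isP hR.norm hh
  intro a ha
  obtain ⟨haD, haC⟩ := mem_inf.mp ha
  replace haD : a ∈ Dx x d := hDd.ge haD
  have hDm : Member x q (Dx x d) := member_Dx s.order hqp (hR.isP.to_le hdR)
  let a' : ↥(Cx x) := ⟨a, haC⟩
  have hap : IsPGroup q (zpowers a') := by
    obtain ⟨n, hn⟩ := IsPGroup.iff_orderOf.mp hR.isP ⟨a, hdR haD⟩
    refine isPGroup_zpowers (a := n) ?_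
    rw [← hn, ← Subgroup.orderOf_coe, ← Subgroup.orderOf_coe]
  obtain ⟨N, hN, hNp, hle⟩ := Involutions.BaerSuzuki.baer_suzuki (zpowers a') hap (fun c => by
    obtain ⟨hDL, hdL, hcL⟩ := selfC_mem_closure hd c.2
    set L := Subgroup.closure ({x, d * (c : G)} : Set G)
    have hxL : x ∈ L := subset_closure (Set.mem_insert _ _)
    have hE : Dx x d ≤ ecore x q L := s.le_ecore hqp (s.two _) hxL hDm hDL
    have hcE : (c : G) ∈ normalizer (ecore x q L : Set G) :=
      le_normalizer_ecore (q := q) (A := L ⊓ Cx x) inf_le_left inf_le_right ⟨hcL, c.2⟩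
    refine (((core_isPGroup q L).to_le (Coprime.commutator_le_of_le_normalizer
      ((zpowers_le.mpr hxL).trans (le_normalizer_core q L)))).comap_subtype
      (K := Cx x)).to_le (sup_le ?_ ?_)
    · exact zpowers_le.mpr (hE haD)
    · rw [MonoidHom.map_zpowers]
      exact zpowers_le.mpr ((mem_normalizer_iff.mp hcE a).mp (hE haD)))
  exact ⟨a', Cores.le_pCore (hN := hN) hNp (hle (mem_zpowers _)), rfl⟩

/-- `C(x)` fixes every colour. -/
theorem Colour.Cx_le_normalizer (s : Setting p x) (hqp : q ≠ p) (hfix : Fix x (zpowers x) q)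
    {W : Subgroup G} (hW : Colour x q W) : Cx x ≤ normalizer (W : Set G) := by
  intro c hc
  obtain ⟨h, hh, hD⟩ : ∃ h ∈ W, Dx x h ≠ ⊥ := by
    by_contra hall
    push Not at hall
    exact hW.ne_bot (le_bot_iff.mp (hW.member.comm ▸
      LocalFlavell.CommutatorFixed.commutator_le_of_D fun h hh => (hall h hh).le))
  obtain ⟨d, hd, hDd, hdW⟩ := exists_selfC s.order hqp hW.member.isP hW.member.norm hh
  have hDm : Member x q (Dx x d) := member_Dx s.order hqp (hW.member.isP.to_le hdW)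
  have hD0 : Dx x d ≠ ⊥ := hDd ▸ hD
  obtain ⟨hDL, -, hcL⟩ := selfC_mem_closure hd hc
  set L := Subgroup.closure ({x, d * c} : Set G)
  have hxL : x ∈ L := subset_closure (Set.mem_insert _ _)
  set E := ecore x q L
  have hE : Dx x d ≤ E := s.le_ecore hqp (s.two _) hxL hDm hDL
  have hE0 : E ≠ ⊥ := fun h0 => hD0 (le_bot_iff.mp (h0 ▸ hE))
  obtain ⟨W₃, hW₃, hEW₃⟩ := exists_colour (member_ecore s.order hqp hxL) hE0
  have e3 : W₃ = W := Colour.eq_of_le s hqp hfix hW₃ hW hDm hD0 (hE.trans hEW₃) hdW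
  subst e3
  have hcE : MulAut.conj c • E = E := Coprime.conj_smul_eq_self_iff.mpr
    (le_normalizer_ecore (q := q) (A := L ⊓ Cx x) inf_le_left inf_le_right ⟨hcL, hc⟩)
  have hWc := hW.conj c
  rw [mem_Cx'.mp hc] at hWc
  refine Coprime.conj_smul_eq_self_iff.mp (Colour.eq_of_le s hqp hfix hWc hW
    (member_ecore s.order hqp hxL) hE0 ?_ hEW₃)
  exact hcE.ge.trans (Subgroup.pointwise_smul_le_pointwise_smul_iff.mpr hEW₃)

/-- If `q` divides `|C(x)|` there is at most one colour for `q`. -/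
theorem Colour.unique_of_dvd (s : Setting p x) (hqp : q ≠ p) (hfix : Fix x (zpowers x) q)
    (hd : q ∣ Nat.card (Cx x)) {W₁ W₂ : Subgroup G} (h₁ : Colour x q W₁) (h₂ : Colour x q W₂) :
    W₁ = W₂ := by
  obtain ⟨⟨h, hh⟩, ho⟩ := exists_prime_orderOf_dvd_card' q hd
  rw [orderOf_mk] at ho
  have hh1 : h ≠ 1 := fun e => (Fact.out : q.Prime).ne_one (by rw [← ho, e, orderOf_one])
  set L := Subgroup.centralizer ({h} : Set G)
  have hLne : L ≠ ⊤ := s.centralizer_ne_top hh1
  have hxL : x ∈ L := mem_centralizer_singleton_iff.mpr (mem_Cx.mp hh)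
  have hPx : zpowers h ≤ Cx x := zpowers_le.mpr hh
  have hcL : Subgroup.centralizer (zpowers h : Set G) = L := Cx_le_centralizer_singleton h
  have hpart : ∀ W, Colour x q W → ⁅W ⊓ L, zpowers x⁆ ≠ ⊥ := by
    intro W hW hbot
    refine hW.ne_bot (le_bot_iff.mp (hW.member.comm ▸ le_of_eq ?_))
    refine Coprime.commutator_eq_bot_iff_le_centralizer'.mpr ?_
    refine Coprime.le_centralizer_of_pxq (p := q) (P := zpowers h) (Q := zpowers x) (U := W)
      (isPGroup_zpowers (a := 1) (by rw [pow_one, ho]))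
      (by rw [Nat.card_zpowers, s.order]; exact (Nat.coprime_primes Fact.out Fact.out).mpr hqp.symm)
      hW.member.isP hPx (hPx.trans (Colour.Cx_le_normalizer s hqp hfix hW)) hW.member.norm ?_
    rw [hcL]
    exact Subgroup.le_centralizer_iff.mp (Coprime.commutator_eq_bot_iff_le_centralizer'.mp hbot)
  have hm : ∀ W, Colour x q W → Member x q ⁅W ⊓ L, zpowers x⁆ ∧ ⁅W ⊓ L, zpowers x⁆ ≤ W ⊓ L := by
    intro W hW
    have hn : zpowers x ≤ normalizer ((W ⊓ L : Subgroup G) : Set G) :=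
      le_normalizer_inf hW.member.norm ((zpowers_le.mpr hxL).trans le_normalizer)
    exact ⟨member_commutator s.order hqp (hW.member.isP.to_le inf_le_left) hn,
      Coprime.commutator_le_of_le_normalizer hn⟩
  obtain ⟨hm1, hm1'⟩ := hm W₁ h₁
  obtain ⟨hm2, hm2'⟩ := hm W₂ h₂
  have hE1 := s.le_ecore hqp hLne hxL hm1 (hm1'.trans inf_le_right)
  have hE2 := s.le_ecore hqp hLne hxL hm2 (hm2'.trans inf_le_right)
  obtain ⟨W₃, hW₃, hEW₃⟩ := exists_colour (member_ecore s.order hqp hxL)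
    (fun h0 => hpart W₁ h₁ (le_bot_iff.mp (h0 ▸ hE1)))
  rw [← Colour.eq_of_le s hqp hfix hW₃ h₁ hm1 (hpart W₁ h₁) (hE1.trans hEW₃) (hm1'.trans inf_le_left)]
  exact Colour.eq_of_le s hqp hfix hW₃ h₂ hm2 (hpart W₂ h₂) (hE2.trans hEW₃) (hm2'.trans inf_le_left)

end Cfsg.Agent.SecondFitting
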