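import Cfsg.Agent.Lib.SecondFitting.Residual

/-!
Odd primes: counting the conjugates of `x`.
-/

set_option autoImplicit false
set_option linter.style.haveILetI false
set_option linter.unusedSectionVars false

namespace Cfsg.Agent.SecondFitting

open Subgroup
open scoped Pointwise commutatorElement

universe u

variable {G : Type u} [Group G] [Finite G] {p : ℕ} [Fact p.Prime] {x : G}

/-- The commutators of the elements of `U` with `x`. -/
def Kset (x : G) (U : Subgroup G) : Set G := (fun a => a * x * a⁻¹ * x⁻¹) '' (U : Set G)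

theorem one_mem_Kset (x : G) (U : Subgroup G) : (1 : G) ∈ Kset x U := ⟨1, one_mem _, by simp⟩

theorem card_Kset (x : G) (U : Subgroup G) : Nat.card (Kset x U) = (Cx x).relIndex U := by
  let f : U ⧸ (Cx x).subgroupOf U → Kset x U := Quotient.lift
    (fun a : U => (⟨(a : G) * x * (a : G)⁻¹ * x⁻¹, a, a.2, rfl⟩ : Kset x U)) (fun a b hab =>
      Subtype.ext (by
        have h : (a : G)⁻¹ * b ∈ Cx x := mem_subgroupOf.mp (QuotientGroup.leftRel_apply.mp hab)
        have e := mem_Cx'.mp h
        show (a : G) * x * (a : G)⁻¹ * x⁻¹ = b * x * (b : G)⁻¹ * x⁻¹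
        have e' : (a : G) * x * (a : G)⁻¹ = b * x * (b : G)⁻¹ := by
          calc (a : G) * x * (a : G)⁻¹
              = a * ((a : G)⁻¹ * b * x * ((a : G)⁻¹ * b)⁻¹) * (a : G)⁻¹ := by rw [e]
            _ = _ := by group
        rw [e']))
  refine (Nat.card_congr (Equiv.ofBijective f ⟨?_, ?_⟩)).symm
  · intro a b
    induction a using Quotient.inductionOn with
    | h a =>
    induction b using Quotient.inductionOn with
    | h b =>
      intro hab
      have h : (a : G) * x * (a : G)⁻¹ = b * x * (b : G)⁻¹ :=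
        mul_right_cancel (congrArg Subtype.val hab :)
      refine Quotient.sound (QuotientGroup.leftRel_apply.mpr (mem_subgroupOf.mpr (mem_Cx'.mpr ?_)))
      show (a : G)⁻¹ * b * x * ((a : G)⁻¹ * b)⁻¹ = x
      calc (a : G)⁻¹ * b * x * ((a : G)⁻¹ * b)⁻¹ = (a : G)⁻¹ * (b * x * (b : G)⁻¹) * a := by group
        _ = x := by rw [← h]; group
  · rintro ⟨_, a, ha, rfl⟩
    exact ⟨QuotientGroup.mk ⟨a, ha⟩, rfl⟩

/-- Pointwise products along a list. -/
def prodSet (C : ℕ → Subgroup G) (x : G) : List ℕ → Set G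
  | [] => {1}
  | i :: l => Kset x (C i) * prodSet C x l

theorem one_mem_prodSet (C : ℕ → Subgroup G) (x : G) : ∀ l, (1 : G) ∈ prodSet C x l
  | [] => rfl
  | i :: l => ⟨1, one_mem_Kset x (C i), 1, one_mem_prodSet C x l, one_mul 1⟩

theorem natCard_mul_le' (S T : Set G) : Nat.card ↥(S * T) ≤ Nat.card S * Nat.card T := by
  rw [← Nat.card_prod]
  refine Nat.card_le_card_of_surjective
    (fun a : S × T => (⟨a.1 * a.2, Set.mul_mem_mul a.1.2 a.2.2⟩ : ↥(S * T))) ?_
  rintro ⟨_, a, ha, b, hb, rfl⟩
  exact ⟨(⟨a, ha⟩, ⟨b, hb⟩), rfl⟩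

theorem card_prodSet_le (C : ℕ → Subgroup G) (x : G) :
    ∀ l, Nat.card (prodSet C x l) ≤ (l.map fun i => (Cx x).relIndex (C i)).prod
  | [] => by simp [prodSet]
  | i :: l => by
    rw [prodSet, List.map_cons, List.prod_cons, ← card_Kset]
    exact (natCard_mul_le' _ _).trans (Nat.mul_le_mul_left _ (card_prodSet_le C x l))

/-- The commutator of a product of commuting parts is a product of commutators. -/
theorem mem_prodSet {C R : ℕ → Subgroup G} :
    ∀ l : List ℕ, l.Nodup → (∀ i ∈ l, R i ≤ C i ∧ zpowers x ≤ normalizer (R i : Set G)) →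
      (∀ i ∈ l, ∀ j ∈ l, i ≠ j → R i ≤ Subgroup.centralizer (R j : Set G)) →
      ∀ e ∈ l.foldr (fun i H => R i ⊔ H) ⊥,
        e * x * e⁻¹ * x⁻¹ ∈ prodSet C x l ∧
          e * x * e⁻¹ * x⁻¹ ∈ l.foldr (fun i H => R i ⊔ H) ⊥
  | [], _, _, _, e, he => by
    rw [List.foldr_nil, mem_bot] at he
    simp [he, prodSet]
  | i :: l, hnd, hR, hc, e, he => by
    rw [List.nodup_cons] at hnd
    set E := l.foldr (fun i H => R i ⊔ H) ⊥
    have hE : E ≤ Subgroup.centralizer (R i : Set G) := by
      have key : ∀ l' : List ℕ, (∀ j ∈ l', j ∈ l) →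
          l'.foldr (fun i H => R i ⊔ H) ⊥ ≤ Subgroup.centralizer (R i : Set G) := by
        intro l'
        induction l' with
        | nil => exact fun _ => bot_le
        | cons j l' ih =>
          intro h
          refine sup_le ?_ (ih fun k hk => h k (List.mem_cons_of_mem _ hk))
          have hj := h j List.mem_cons_self
          exact hc j (List.mem_cons_of_mem _ hj) i List.mem_cons_self fun e => hnd.1 (e ▸ hj)
      exact key l fun j hj => hj
    rw [List.foldr_cons] at he ⊢
    obtain ⟨a, ha, e', he', rfl⟩ := (Coprime.mem_sup_of_le_normalizer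
      (hE.trans (centralizer_le_normalizer _))).mp he
    obtain ⟨ih1, ih2⟩ := mem_prodSet l hnd.2 (fun j hj => hR j (List.mem_cons_of_mem _ hj))
      (fun j hj k hk => hc j (List.mem_cons_of_mem _ hj) k (List.mem_cons_of_mem _ hk)) e' he'
    set z := e' * x * e'⁻¹ * x⁻¹
    obtain ⟨hRC, hxR⟩ := hR i List.mem_cons_self
    have hk : a * x * a⁻¹ * x⁻¹ ∈ R i := by
      have := mul_mem ha
        ((mem_normalizer_iff.mp (hxR (mem_zpowers x)) a⁻¹).mp (inv_mem ha))
      simpa [mul_assoc] using this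
    have hza : a * z = z * a := mem_centralizer_iff.mp (hE ih2) a ha
    have hzk : a * x * a⁻¹ * x⁻¹ * z = z * (a * x * a⁻¹ * x⁻¹) :=
      mem_centralizer_iff.mp (hE ih2) _ hk
    have e1 : a * e' * x * (a * e')⁻¹ * x⁻¹ = a * x * a⁻¹ * x⁻¹ * z := by
      rw [hzk]
      calc a * e' * x * (a * e')⁻¹ * x⁻¹ = (a * z) * x * a⁻¹ * x⁻¹ := by simp [z, mul_assoc]
        _ = _ := by rw [hza]; group
    rw [e1]
    exact ⟨⟨_, ⟨a, hRC ha, rfl⟩, z, ih1, rfl⟩, mul_mem (mem_sup_left hk) (mem_sup_right ih2)⟩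

theorem coprime_prod {l : List ℕ} {w : ℕ → ℕ} {b : ℕ} (h : ∀ i ∈ l, b.Coprime (w i)) :
    b.Coprime (l.map w).prod := by
  induction l with
  | nil => simp
  | cons i l ih =>
    rw [List.map_cons, List.prod_cons]
    exact Nat.Coprime.mul_right (h i List.mem_cons_self)
      (ih fun j hj => h j (List.mem_cons_of_mem _ hj))

theorem prod_dvd {l : List ℕ} {w : ℕ → ℕ} {n : ℕ} (hnd : l.Nodup)
    (hw : ∀ i ∈ l, w i ∣ n) (hc : ∀ i ∈ l, ∀ j ∈ l, i ≠ j → (w i).Coprime (w j)) :
    (l.map w).prod ∣ n := by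
  induction l with
  | nil => simp
  | cons i l ih =>
    rw [List.nodup_cons] at hnd
    rw [List.map_cons, List.prod_cons]
    refine Nat.Coprime.mul_dvd_of_dvd_of_dvd (coprime_prod fun j hj =>
      hc i List.mem_cons_self j (List.mem_cons_of_mem _ hj) fun e => hnd.1 (e ▸ hj))
      (hw i List.mem_cons_self) (ih hnd.2 (fun j hj => hw j (List.mem_cons_of_mem _ hj))
        fun j hj k hk => hc j (List.mem_cons_of_mem _ hj) k (List.mem_cons_of_mem _ hk))

theorem dvd_card_group {q : ℕ} [Fact q.Prime] {U : Subgroup G} (hU : Colour x q U) :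
    q ∣ Nat.card G :=
  (dvd_card_of_ne_bot hU.member.isP hU.ne_bot).trans (Subgroup.card_subgroup_dvd_card U)

namespace Setting

variable (s : Setting p x)
include s

/-- The orbit of a colour under the fixed points divides the index of the stabilizer. -/
theorem relIndex_Cx_dvd (hp : p ≠ 2) {q : ℕ} [Fact q.Prime] (hqp : q ≠ p) {U : Subgroup G}
    (hU : Colour x q U) :
    (Cx x).relIndex U ∣ (fixer p x).index ∧ ∃ n, (Cx x).relIndex U = q ^ n := by
  set H := fixer p x
  obtain ⟨P⟩ : Nonempty (Sylow q H) := inferInstance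
  set R := (P : Subgroup H).map H.subtype
  have hRH : R ≤ H := map_subtype_le _
  have hR : IsPGroup q R := P.2.map _
  have hj : ¬ q ∣ R.relIndex H := by
    have e : R.relIndex H = (P : Subgroup H).index := by
      rw [Subgroup.relIndex, ← comap_subtype, comap_map_eq_self_of_injective (subtype_injective _)]
    rw [e]
    exact P.not_dvd_index
  have hRU : R ≤ normalizer (U : Set G) := hRH.trans (fixer_le hqp hU)
  have hUR : U ⊓ R ≤ U ⊓ Cx x := le_inf inf_le_left
    ((inf_le_inf_left U hRH).trans (s.inf_fixer_le hp hqp hU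
      (SecondFitting.zpowers_le_normalizer (s.Cx_le_fixer hp (mem_Cx.mpr rfl)))
      fun r hr hrp V hV => haveI := Fact.mk hr; fixer_le hrp hV))
  set w := (Cx x).relIndex U
  have h1 : Nat.card ↥(U ⊓ Cx x) * w = Nat.card U := by
    rw [← relIndex_bot_left, ← relIndex_bot_left,
      show w = (U ⊓ Cx x).relIndex U from (inf_relIndex_left U (Cx x)).symm,
      relIndex_mul_relIndex ⊥ _ U bot_le inf_le_left]
  obtain ⟨n, hn⟩ := hU.member.isP.exists_card_eq
  obtain ⟨k, -, hk⟩ := (Nat.dvd_prime_pow Fact.out).mp (hn ▸ h1 ▸ dvd_mul_left _ _ : w ∣ q ^ n)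
  refine ⟨?_, k, hk⟩
  set L := U ⊔ R
  have hL : Nat.card L * Nat.card ↥(U ⊓ R) = Nat.card U * Nat.card R := by
    haveI : (U.subgroupOf L).Normal :=
      normal_subgroupOf_of_le_normalizer (sup_le le_normalizer hRU)
    have htop : R.subgroupOf L ⊔ U.subgroupOf L = ⊤ := by
      rw [← subgroupOf_sup le_sup_right le_sup_left, sup_comm R U, subgroupOf_self]
    have e1 : U.relIndex L = U.relIndex R := by
      rw [← relIndex_subgroupOf (H := U) (le_refl L), subgroupOf_self, ← htop,
        relIndex_sup_right, relIndex_subgroupOf (le_sup_right : R ≤ L)]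
    have e2 : Nat.card U * U.relIndex L = Nat.card L := by
      rw [← relIndex_bot_left, ← relIndex_bot_left, relIndex_mul_relIndex ⊥ _ _ bot_le le_sup_left]
    have e3 : Nat.card ↥(U ⊓ R) * U.relIndex R = Nat.card R := by
      rw [← inf_relIndex_right U R, ← relIndex_bot_left, ← relIndex_bot_left,
        relIndex_mul_relIndex ⊥ _ _ bot_le inf_le_right]
    rw [← e2, ← e3, e1]
    ring
  have hG : Nat.card G = Nat.card R * R.relIndex H * H.index := by
    have e : Nat.card R * R.relIndex H = Nat.card H := by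
      rw [← relIndex_bot_left, ← relIndex_bot_left, relIndex_mul_relIndex ⊥ R H bot_le hRH]
    rw [e, card_mul_index]
  have h2 : Nat.card U * Nat.card R ∣
      Nat.card R * R.relIndex H * H.index * Nat.card ↥(U ⊓ Cx x) := by
    rw [← hL, ← hG]
    exact mul_dvd_mul (Subgroup.card_subgroup_dvd_card L) (card_dvd_of_le hUR)
  rw [← h1] at h2
  have h3 : w ∣ R.relIndex H * H.index := by
    refine Nat.dvd_of_mul_dvd_mul_left
      (Nat.mul_pos (Nat.card_pos (α := ↥(U ⊓ Cx x))) (Nat.card_pos (α := R))) ?_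
    refine (dvd_of_eq ?_).trans (h2.trans (dvd_of_eq ?_)) <;> ring
  rw [hk] at h3 ⊢
  exact (Nat.Coprime.pow_left k ((Fact.out : q.Prime).coprime_iff_not_dvd.mpr hj)).dvd_of_dvd_mul_left
    h3

/-- There is no minimal counterexample for an odd prime. -/
theorem false_of_odd (hp : p ≠ 2) : False := by
  classical
  have hpp : p.Prime := Fact.out
  set H := fixer p x
  have hn0 : H.index ≠ 0 := index_ne_zero_of_finite
  -- the bad primes
  set bad : List ℕ := (Finset.filter (fun q : ℕ => q ≠ p ∧ (∃ U, Colour x q U) ∧ ¬ Good p x q)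
    (Nat.card G).primeFactors).toList with hbaddef
  have hbad : ∀ q, q ∈ bad → q.Prime ∧ q ≠ p ∧ (∃ U, Colour x q U) ∧ ¬ Good p x q := fun q hq => by
    rw [hbaddef, Finset.mem_toList, Finset.mem_filter] at hq
    exact ⟨Nat.prime_of_mem_primeFactors hq.1, hq.2⟩
  have hbad' : ∀ q : ℕ, q.Prime → q ≠ p → (∃ U, Colour x q U) → ¬ Good p x q → q ∈ bad :=
    fun q hq hqp hU hg => by
      haveI := Fact.mk hq
      rw [hbaddef, Finset.mem_toList, Finset.mem_filter]
      obtain ⟨U, hU'⟩ := hU
      exact ⟨Nat.mem_primeFactors.mpr ⟨hq, dvd_card_group hU', Nat.card_pos.ne'⟩, hqp,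
        ⟨U, hU'⟩, hg⟩
  have hnd : bad.Nodup := Finset.nodup_toList _
  set C : ℕ → Subgroup G := fun q => if h : ∃ U, Colour x q U then h.choose else ⊥
  have hC : ∀ q ∈ bad, Colour x q (C q) := fun q hq => by
    simp only [C, dif_pos (hbad q hq).2.2.1]
    exact (hbad q hq).2.2.1.choose_spec
  have huniq : ∀ q ∈ bad, ∀ U, Colour x q U → U = C q := fun q hq U hU => by
    by_contra hne
    obtain ⟨h1, h2, -, h4⟩ := hbad q hq
    exact h4 ⟨h1, h2, U, C q, hU, hC q hq, hne⟩
  set w : ℕ → ℕ := fun q => (Cx x).relIndex (C q)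
  set P := (bad.map w).prod
  have hw : ∀ q ∈ bad, w q ∣ H.index ∧ ∃ n, w q = q ^ n := fun q hq => by
    haveI := Fact.mk (hbad q hq).1
    exact s.relIndex_Cx_dvd hp (hbad q hq).2.1 (hC q hq)
  have hwc : ∀ q ∈ bad, ∀ r ∈ bad, q ≠ r → (w q).Coprime (w r) := fun q hq r hr hne => by
    obtain ⟨a, ha⟩ := (hw q hq).2
    obtain ⟨b, hb⟩ := (hw r hr).2
    rw [ha, hb]
    exact ((Nat.coprime_primes (hbad q hq).1 (hbad r hr).1).mpr hne).pow _ _
  have hP : P ∣ H.index := prod_dvd hnd (fun q hq => (hw q hq).1) hwc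
  -- the parts in the bad case
  let Rk : Subgroup G → ℕ → Subgroup G := fun K q => ecore x q K
  have hR : ∀ K : Subgroup G, K ≠ ⊤ → x ∈ K → ∀ q ∈ bad,
      Rk K q ≤ C q ∧ zpowers x ≤ normalizer (Rk K q : Set G) := by
    intro K hK hxK q hq
    haveI := Fact.mk (hbad q hq).1
    have hm : Member x q (ecore x q K) := member_ecore s.order (hbad q hq).2.1 hxK
    refine ⟨?_, hm.norm⟩
    by_cases h0 : ecore x q K = ⊥
    · exact h0.le.trans bot_le
    obtain ⟨W, hW, hle⟩ := exists_colour hm h0
    exact hle.trans (huniq q hq W hW).le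
  have hRc : ∀ K : Subgroup G, K ≠ ⊤ → x ∈ K → ∀ q ∈ bad, ∀ r ∈ bad, q ≠ r →
      Rk K q ≤ Subgroup.centralizer (Rk K r : Set G) := by
    intro K hK hxK q hq r hr hne
    haveI := Fact.mk (hbad q hq).1
    haveI := Fact.mk (hbad r hr).1
    exact s.commute (hbad q hq).2.1 (hbad r hr).2.1 hne hK hxK
      (member_ecore s.order (hbad q hq).2.1 hxK) (ecore_le hxK)
      (member_ecore s.order (hbad r hr).2.1 hxK) (ecore_le hxK)
  -- every coset is in a good normalizer or comes from bad parts
  have hcov : ∀ g : G, (∃ N ∈ goodNorms p x, g ∈ N) ∨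
      ∃ K : Subgroup G, K ≠ ⊤ ∧ x ∈ K ∧ ∃ e ∈ bad.foldr (fun i M => Rk K i ⊔ M) ⊥,
        (QuotientGroup.mk e : G ⧸ H) = QuotientGroup.mk g := by
    intro g
    obtain ⟨K, hK, hxK, hyK, hKc, e, he, h, hh, rfl⟩ := s.decompose_parts hp g
    by_cases hgood : ∃ q : ℕ, Good p x q ∧ ecore x q K ≠ ⊥
    · obtain ⟨q, hq, h0⟩ := hgood
      haveI := Fact.mk hq.prime
      have hm : Member x q (ecore x q K) := member_ecore s.order hq.ne hxK
      obtain ⟨U, hU, hle⟩ := exists_colour hm h0
      refine Or.inl ⟨_, ⟨q, U, hq, hU, rfl⟩, mul_mem ((iSup_le fun l => ?_ :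
        (⨆ l : {l : ℕ // l.Prime ∧ l ≠ p}, ecore x (l : ℕ) K) ≤ _) he) (fixer_le hq.ne hU hh)⟩
      obtain ⟨l, hl, hlp⟩ := l
      haveI := Fact.mk hl
      by_cases hlq : l = q
      · subst hlq
        exact hle.trans le_normalizer
      have hR : Member x l (ecore x l K) := member_ecore s.order hlp hxK
      refine (s.commute_of_part hp hq hlp (Ne.symm hlq) hU hR fun h1 => h0 ?_).trans
        (centralizer_le_normalizer _)
      exact le_bot_iff.mp (h1 ▸ le_inf hle (s.commute hq.ne hlp (Ne.symm hlq) hK hxK hm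
        (ecore_le hxK) hR (ecore_le hxK)))
    · push Not at hgood
      refine Or.inr ⟨K, hK, hxK, e, (iSup_le fun l => ?_ :
        (⨆ l : {l : ℕ // l.Prime ∧ l ≠ p}, ecore x (l : ℕ) K) ≤ _) he,
        QuotientGroup.eq.mpr (by rw [inv_mul_cancel_left]; exact hh)⟩
      obtain ⟨l, hl, hlp⟩ := l
      haveI := Fact.mk hl
      by_cases h0 : ecore x l K = ⊥
      · exact h0.le.trans bot_le
      obtain ⟨U, hU, -⟩ := exists_colour (member_ecore s.order hlp hxK) h0
      have hlb : l ∈ bad := hbad' l hl hlp ⟨U, hU⟩ fun hg => h0 (hgood l hg)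
      have key : ∀ L : List ℕ, l ∈ L → Rk K l ≤ L.foldr (fun i M => Rk K i ⊔ M) ⊥ := by
        intro L
        induction L with
        | nil => intro h; cases h
        | cons i L ih =>
          intro h
          rcases List.mem_cons.mp h with rfl | h
          · exact le_sup_left
          · exact (ih h).trans le_sup_right
      exact key bad hlb
  -- the bad cosets
  set Z : Set (G ⧸ H) := {c | c = QuotientGroup.mk 1 ∨
    ∀ g : G, QuotientGroup.mk g = c → ∀ N ∈ goodNorms p x, g ∉ N}
  have hz : ∀ c : Z, ∃ K : Subgroup G, K ≠ ⊤ ∧ x ∈ K ∧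
      ∃ e ∈ bad.foldr (fun i M => Rk K i ⊔ M) ⊥, (QuotientGroup.mk e : G ⧸ H) = c := by
    rintro ⟨c, hc⟩
    rcases hc with rfl | hc
    · exact ⟨Cx x, s.Cx_ne_top, mem_Cx.mpr rfl, 1, one_mem _, rfl⟩
    obtain ⟨g, rfl⟩ := QuotientGroup.mk_surjective c
    rcases hcov g with ⟨N, hN, hgN⟩ | h
    · exact absurd hgN (hc g rfl N hN)
    · exact h
  choose Kf hKf hxKf ef hef hmk using hz
  have hinj : Function.Injective (fun c : Z => ef c * x * (ef c)⁻¹ * x⁻¹) := by
    intro c d hcd
    have h : ef c * x * (ef c)⁻¹ = ef d * x * (ef d)⁻¹ := mul_right_cancel hcd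
    refine Subtype.ext ?_
    rw [← hmk c, ← hmk d]
    refine QuotientGroup.eq.mpr (s.Cx_le_fixer hp (mem_Cx'.mpr ?_))
    calc (ef c)⁻¹ * ef d * x * ((ef c)⁻¹ * ef d)⁻¹
        = (ef c)⁻¹ * (ef d * x * (ef d)⁻¹) * ef c := by group
      _ = x := by rw [← h]; group
  have hZle : ∀ l : List ℕ, l.Perm bad → Nat.card Z ≤ Nat.card (prodSet C x l) := by
    intro l hl
    refine Nat.card_le_card_of_injective (fun c => ⟨ef c * x * (ef c)⁻¹ * x⁻¹, ?_⟩)
      fun c d hcd => hinj (congrArg Subtype.val hcd)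
    refine (mem_prodSet (R := Rk (Kf c)) l (hl.nodup_iff.mpr hnd)
      (fun i hi => hR _ (hKf c) (hxKf c) i (hl.mem_iff.mp hi))
      (fun i hi j hj => hRc _ (hKf c) (hxKf c) i (hl.mem_iff.mp hi) j (hl.mem_iff.mp hj))
      (ef c) ?_).1
    have hperm : ∀ (L L' : List ℕ), L.Perm L' →
        L.foldr (fun i M => Rk (Kf c) i ⊔ M) ⊥ = L'.foldr (fun i M => Rk (Kf c) i ⊔ M) ⊥ := by
      intro L L' h
      induction h with
      | nil => rfl
      | cons i _ ih => rw [List.foldr_cons, List.foldr_cons, ih]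
      | swap i j L => simp only [List.foldr_cons]; exact sup_left_comm _ _ _
      | trans _ _ ih1 ih2 => exact ih1.trans ih2
    rw [hperm l bad hl]
    exact hef c
  by_cases hgood : ∃ q, Good p x q
  · -- counting
    haveI : Finite (goodNorms p x) := Subtype.finite
    have hK : Nat.card (goodNorms p x) ≤ p - 1 := by
      by_cases hc : ∃ g : G, Commute x (g * x * g⁻¹) ∧ g * x * g⁻¹ ∉ zpowers x
      · obtain ⟨g, h1, h2⟩ := hc
        exact s.card_goodNorms_of_commuting hp h1 h2
      · push Not at hc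
        exact s.card_goodNorms_of_isolated hp hc
    -- each normalizer is large
    have hbig : ∀ N ∈ goodNorms p x, p + 1 ≤ H.relIndex N ∧ H ≤ N := by
      rintro N ⟨q, U, hq, hU, rfl⟩
      haveI := Fact.mk hq.prime
      refine ⟨?_, fixer_le hq.ne hU⟩
      have h1 : H.relIndex U = Nat.card U := by
        rw [← inf_relIndex_left, s.inf_fixer_eq_bot hp hq hU, relIndex_bot_left]
      have h2 : H.relIndex U ≤ H.relIndex (normalizer (U : Set G)) :=
        relIndex_le_of_le_right le_normalizer index_ne_zero_of_finite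
      rw [h1] at h2
      refine le_trans ?_ h2
      have hmod := s.card_modEq_one hU.member.norm (s.inf_Cx_eq_bot hp hq hU.member.isP)
      have hne : Nat.card U ≠ 1 := fun e => hU.ne_bot (Subgroup.eq_bot_of_card_eq _ e)
      have hpos := Nat.card_pos (α := U)
      have hd : p ∣ Nat.card U - 1 := (Nat.modEq_iff_dvd' hpos).mp hmod.symm
      have := Nat.le_of_dvd (by omega) hd
      omega
    have hother : ∀ N ∈ goodNorms p x, ∃ N' ∈ goodNorms p x, N' ≠ N ∧ N ⊓ N' ≤ H := by
      rintro N ⟨q, U, hq, hU, rfl⟩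
      haveI := Fact.mk hq.prime
      obtain ⟨U', hU', hne⟩ : ∃ U', Colour x q U' ∧ U' ≠ U := by
        obtain ⟨U₁, U₂, h1, h2, h12⟩ := hq.two
        by_cases e : U₁ = U
        · exact ⟨U₂, h2, fun e' => h12 (e.trans e'.symm)⟩
        · exact ⟨U₁, h1, e⟩
      have hN : normalizer (U' : Set G) ≠ normalizer (U : Set G) := fun e => hne
        (s.colour_eq_of_common hp hq.ne (s.normalizer_ne_top_of_isPGroup hU.ne_bot hU.member.isP)
          (hU.member.norm (mem_zpowers x)) hU' hU hU'.member hU'.ne_bot le_rfl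
          (e ▸ le_normalizer) hU.member hU.ne_bot le_rfl le_normalizer)
      exact ⟨_, ⟨q, U', hq, hU', rfl⟩, hN, s.inter_le_fixer hp hq hq hU hU' (Ne.symm hN)⟩
    have hprod : ∀ N ∈ goodNorms p x, (p + 1) * H.relIndex N ≤ H.index := by
      intro N hN
      obtain ⟨N', hN', -, hint⟩ := hother N hN
      obtain ⟨hb, hHN⟩ := hbig N hN
      obtain ⟨hb', hHN'⟩ := hbig N' hN'
      have e : H.relIndex N = N'.relIndex N := by
        rw [← inf_relIndex_left N N', le_antisymm hint (le_inf hHN hHN')]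
      have hle : H.relIndex N ≤ N'.index := by
        rw [e, ← relIndex_top_right]
        exact relIndex_le_of_le_right le_top index_ne_zero_of_finite
      rw [← relIndex_mul_index hHN']
      exact Nat.mul_le_mul hb' hle
    -- lower bound
    obtain ⟨q, hq⟩ := hgood
    haveI := Fact.mk hq.prime
    obtain ⟨U, -, hU, -, -⟩ := hq.two
    have hnP : (p + 1) * P ≤ H.index := by
      obtain ⟨hd, -⟩ := s.relIndex_Cx_dvd hp hq.ne hU
      have hUx : (Cx x).relIndex U = Nat.card U := by
        rw [← inf_relIndex_left, s.inf_Cx_eq_bot hp hq hU.member.isP, relIndex_bot_left]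
      rw [hUx] at hd
      have hcop : (Nat.card U).Coprime P := by
        obtain ⟨n, hn⟩ := hU.member.isP.exists_card_eq
        rw [hn]
        refine coprime_prod fun i hi => ?_
        obtain ⟨b, hb⟩ := (hw i hi).2
        rw [hb]
        have hne : q ≠ i := by rintro rfl; exact (hbad q hi).2.2.2 hq
        exact ((Nat.coprime_primes hq.prime (hbad i hi).1).mpr hne).pow _ _
      have h := Nat.le_of_dvd (Nat.pos_of_ne_zero hn0) (hcop.mul_dvd_of_dvd_of_dvd hd hP)
      refine le_trans (Nat.mul_le_mul_right _ ?_) h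
      have hmod := s.card_modEq_one hU.member.norm (s.inf_Cx_eq_bot hp hq hU.member.isP)
      have hne : Nat.card U ≠ 1 := fun e => hU.ne_bot (Subgroup.eq_bot_of_card_eq _ e)
      have hpos := Nat.card_pos (α := U)
      have hd' : p ∣ Nat.card U - 1 := (Nat.modEq_iff_dvd' hpos).mp hmod.symm
      have := Nat.le_of_dvd (by omega) hd'
      omega
    -- upper bound
    letI := Fintype.ofFinite (G ⧸ H)
    letI := Fintype.ofFinite (goodNorms p x)
    set img : goodNorms p x → Finset (G ⧸ H) := fun N =>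
      (Finset.univ.filter fun c => ∃ g ∈ (N : Subgroup G), QuotientGroup.mk g = c).erase
        (QuotientGroup.mk 1)
    have hcard : ∀ N : goodNorms p x, (p + 1) * (img N).card + (p + 1) ≤ H.index := by
      intro N
      refine le_trans ?_ (hprod N N.2)
      rw [← Nat.mul_succ]
      refine Nat.mul_le_mul_left _ ?_
      set F := Finset.univ.filter fun c : G ⧸ H => ∃ g ∈ (N : Subgroup G), QuotientGroup.mk g = c
      have h1 : (QuotientGroup.mk 1 : G ⧸ H) ∈ F :=
        Finset.mem_filter.mpr ⟨Finset.mem_univ _, 1, one_mem _, rfl⟩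
      show (F.erase _).card + 1 ≤ _
      rw [Finset.card_erase_add_one h1, Subgroup.relIndex, index_eq_card,
        ← Nat.card_eq_finsetCard]
      refine Nat.card_le_card_of_surjective (Quotient.lift
        (fun a : (N : Subgroup G) => (⟨QuotientGroup.mk (a : G),
          Finset.mem_filter.mpr ⟨Finset.mem_univ _, a, a.2, rfl⟩⟩ : F))
        (fun a b hab => Subtype.ext (QuotientGroup.eq.mpr
          (mem_subgroupOf.mp (QuotientGroup.leftRel_apply.mp hab))))) ?_
      rintro ⟨c, hc⟩
      obtain ⟨-, g, hg, rfl⟩ := Finset.mem_filter.mp hc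
      exact ⟨QuotientGroup.mk ⟨g, hg⟩, rfl⟩
    have hsub : (Finset.univ : Finset (G ⧸ H)) ⊆
        (Finset.univ.filter fun c => c ∈ Z) ∪ Finset.univ.biUnion img := by
      intro c _
      by_cases hc : c ∈ Z
      · exact Finset.mem_union_left _ (Finset.mem_filter.mpr ⟨Finset.mem_univ _, hc⟩)
      refine Finset.mem_union_right _ ?_
      simp only [Z, Set.mem_ofPred_eq, not_or] at hc
      obtain ⟨hc1, hc2⟩ := hc
      push Not at hc2
      obtain ⟨g, rfl, N, hN, hgN⟩ := hc2
      exact Finset.mem_biUnion.mpr ⟨⟨N, hN⟩, Finset.mem_univ _,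
        Finset.mem_erase.mpr ⟨hc1, Finset.mem_filter.mpr ⟨Finset.mem_univ _, g, hgN, rfl⟩⟩⟩
    have hmain := (Finset.card_le_card hsub).trans ((Finset.card_union_le _ _).trans
      (Nat.add_le_add_left (Finset.card_biUnion_le) _))
    rw [Finset.card_univ, ← Nat.card_eq_fintype_card, ← index_eq_card] at hmain
    have hZ : (Finset.univ.filter fun c => c ∈ Z).card ≤ P := by
      refine le_trans (le_of_eq ?_) ((hZle bad List.Perm.rfl).trans (card_prodSet_le C x bad))
      rw [← Nat.card_eq_finsetCard]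
      exact Nat.card_congr (Equiv.subtypeEquivRight fun c => by simp)
    have hsum : (p + 1) * (∑ N : goodNorms p x, (img N).card) + (p + 1) * Nat.card (goodNorms p x)
        ≤ Nat.card (goodNorms p x) * H.index := by
      rw [Nat.card_eq_fintype_card, Finset.mul_sum, ← Finset.card_univ]
      have := Finset.sum_le_sum (s := Finset.univ) (fun N (_ : N ∈ Finset.univ) => hcard N)
      rw [Finset.sum_add_distrib, Finset.sum_const, Finset.sum_const, smul_eq_mul, smul_eq_mul,
        mul_comm _ (p + 1)] at this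
      exact this
    have hK1 : 1 ≤ Nat.card (goodNorms p x) :=
      Nat.one_le_iff_ne_zero.mpr fun e => (Nat.card_eq_zero.mp e).elim
        (fun h => h.false ⟨_, q, U, hq, hU, rfl⟩) (fun h => not_finite (goodNorms p x))
    have hK' : Nat.card (goodNorms p x) * H.index ≤ (p - 1) * H.index :=
      Nat.mul_le_mul_right _ hK
    have hp2 := hpp.two_le
    obtain ⟨m, rfl⟩ : ∃ m, p = m + 2 := ⟨p - 2, by omega⟩
    rw [show m + 2 - 1 = m + 1 from rfl] at hK'
    nlinarith
  · -- all primes have one colour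
    push Not at hgood
    have hunique : ∀ (l : ℕ), l.Prime → l ≠ p → ∀ V, Colour x l V → l ∈ bad ∧ V = C l :=
      fun l hl hlp V hV =>
        have h := hbad' l hl hlp ⟨V, hV⟩ (hgood l)
        ⟨h, huniq l h V hV⟩
    by_cases hcomm : ∀ q ∈ bad, ∀ r ∈ bad, q ≠ r →
        ∀ a ∈ Kset x (C q), ∀ b ∈ Kset x (C r), Commute a b
    · refine s.false_of_colours fun q r hq hr hqp hrp U V hU hV => ?_
      haveI := Fact.mk hq
      haveI := Fact.mk hr
      obtain ⟨hqb, rfl⟩ := hunique q hq hqp U hU
      obtain ⟨hrb, rfl⟩ := hunique r hr hrp V hV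
      by_cases hqr : q = r
      · rw [hqr]; exact le_normalizer
      refine le_trans ?_ (centralizer_le_normalizer _)
      have hgen : ∀ l ∈ bad, C l ≤ Subgroup.closure (Kset x (C l)) := by
        intro l hl
        refine (hC l hl).member.comm.ge.trans
          (LocalFlavell.CommutatorFixed.commutator_le_of_D fun v hv => ?_)
        refine (closure_le _).mpr ?_
        rintro _ ⟨i, rfl⟩
        have key : ∀ i : ℕ, ∀ v ∈ C l,
            v⁻¹ * x ^ i * v * (x ^ i)⁻¹ ∈ Subgroup.closure (Kset x (C l)) := by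
          intro i
          induction i with
          | zero => intro v hv; simp
          | succ i ih =>
            intro v hv
            have hv' : x * v⁻¹ * x⁻¹ ∈ C l :=
              (mem_normalizer_iff.mp ((hC l hl).member.norm (mem_zpowers x)) _).mp (inv_mem hv)
            have e : v⁻¹ * x ^ (i + 1) * v * (x ^ (i + 1))⁻¹ = (v⁻¹ * x * v * x⁻¹) *
                ((x * v⁻¹ * x⁻¹)) * x ^ i * (x * v⁻¹ * x⁻¹)⁻¹ * (x ^ i)⁻¹ := by
              rw [pow_succ']; group
            rw [e]
            have h1 := ih _ (inv_mem hv')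
            rw [inv_inv] at h1
            simpa [mul_assoc] using mul_mem (Subgroup.subset_closure (k := Kset x (C l))
              (show v⁻¹ * x * v * x⁻¹ ∈ Kset x (C l) from ⟨v⁻¹, inv_mem hv, by simp⟩)) h1
        exact key i v hv
      refine (hgen q hqb).trans ((closure_le _).mpr fun a ha => ?_)
      refine mem_centralizer_iff.mpr fun b hb => ?_
      have hle : C r ≤ Subgroup.centralizer ({a} : Set G) := (hgen r hrb).trans
        ((closure_le _).mpr fun c hc => mem_centralizer_singleton_iff.mpr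
          (hcomm q hqb r hrb hqr a ha c hc).symm)
      exact mem_centralizer_singleton_iff.mp (hle hb)
    · push Not at hcomm
      obtain ⟨q, hq, r, hr, hqr, a, ha, b, hb, hab⟩ := hcomm
      set rest := (bad.erase q).erase r
      have hrq : r ∈ bad.erase q := (List.mem_erase_of_ne (Ne.symm hqr)).mpr hr
      have hperm : (q :: r :: rest).Perm bad :=
        ((List.Perm.cons q (List.perm_cons_erase hrq).symm).trans (List.perm_cons_erase hq).symm)
      have hndl := hperm.nodup_iff.mpr hnd
      -- commuting products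
      set F := (fun a : G × G => a.1 * a.2) ''
        {a | a.1 ∈ Kset x (C q) ∧ a.2 ∈ Kset x (C r) ∧ Commute a.1 a.2} with hF
      have hall : ∀ c : Z, ef c * x * (ef c)⁻¹ * x⁻¹ ∈ F * prodSet C x rest := by
        intro c
        have hR' := hR _ (hKf c) (hxKf c)
        have hRc' := hRc _ (hKf c) (hxKf c)
        have he : ef c ∈ (q :: r :: rest).foldr (fun i M => Rk (Kf c) i ⊔ M) ⊥ := by
          have hperm' : ∀ (L L' : List ℕ), L.Perm L' →
              L.foldr (fun i M => Rk (Kf c) i ⊔ M) ⊥ = L'.foldr (fun i M => Rk (Kf c) i ⊔ M) ⊥ := by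
            intro L L' h
            induction h with
            | nil => rfl
            | cons i _ ih => rw [List.foldr_cons, List.foldr_cons, ih]
            | swap i j L => simp only [List.foldr_cons]; exact sup_left_comm _ _ _
            | trans _ _ ih1 ih2 => exact ih1.trans ih2
          rw [hperm' _ bad hperm]
          exact hef c
        obtain ⟨h1, -⟩ := mem_prodSet (C := Rk (Kf c)) (R := Rk (Kf c)) _ hndl
          (fun i hi => ⟨le_rfl, (hR' i (hperm.mem_iff.mp hi)).2⟩)
          (fun i hi j hj => hRc' i (hperm.mem_iff.mp hi) j (hperm.mem_iff.mp hj)) _ he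
        obtain ⟨k, hk, z, ⟨k', hk', z', hz', rfl⟩, hkz⟩ := h1
        have hmono : ∀ L : List ℕ, (∀ i ∈ L, i ∈ bad) →
            prodSet (Rk (Kf c)) x L ⊆ prodSet C x L := by
          intro L
          induction L with
          | nil => intro _; exact subset_rfl
          | cons i L ih =>
            intro h
            exact Set.mul_subset_mul (Set.image_mono (hR' i (h i List.mem_cons_self)).1)
              (ih fun j hj => h j (List.mem_cons_of_mem _ hj))
        have hmemR : ∀ (i : ℕ), i ∈ bad → ∀ d ∈ Kset x (Rk (Kf c) i), d ∈ Rk (Kf c) i := by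
          rintro i hi _ ⟨v, hv, rfl⟩
          have := mul_mem hv
            ((mem_normalizer_iff.mp ((hR' i hi).2 (mem_zpowers x)) v⁻¹).mp (inv_mem hv))
          simpa [mul_assoc] using this
        refine ⟨k * k', ⟨(k, k'), ⟨Set.image_mono (hR' q hq).1 hk, Set.image_mono (hR' r hr).1 hk',
          ?_⟩, rfl⟩, z', hmono rest (fun i hi => hperm.mem_iff.mp
            (List.mem_cons_of_mem _ (List.mem_cons_of_mem _ hi))) hz', ?_⟩
        · exact (mem_centralizer_iff.mp (hRc' r hr q hq (Ne.symm hqr) (hmemR r hr k' hk')) k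
            (hmemR q hq k hk))
        · exact (mul_assoc _ _ _).trans hkz
      have hZF : Nat.card Z ≤ Nat.card ↥(F * prodSet C x rest) :=
        Nat.card_le_card_of_injective (fun c => ⟨_, hall c⟩)
          fun c d hcd => hinj (congrArg Subtype.val hcd)
      have hFlt : Nat.card F < w q * w r := by
        set S : Set (G × G) := {a | a.1 ∈ Kset x (C q) ∧ a.2 ∈ Kset x (C r) ∧ Commute a.1 a.2}
        refine lt_of_le_of_lt (Nat.card_le_card_of_surjective
          (fun a : S => (⟨a.1.1 * a.1.2, a.1, a.2, rfl⟩ : F)) ?_) ?_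
        · rintro ⟨_, a, ha, rfl⟩; exact ⟨⟨a, ha⟩, rfl⟩
        rw [show w q = Nat.card (Kset x (C q)) from (card_Kset x _).symm,
          show w r = Nat.card (Kset x (C r)) from (card_Kset x _).symm, ← Nat.card_prod]
        set φ : S → Kset x (C q) × Kset x (C r) :=
          fun a => ((⟨a.1.1, a.2.1⟩ : Kset x (C q)), (⟨a.1.2, a.2.2.1⟩ : Kset x (C r)))
        have hφ : Function.Injective φ := fun a a' h => Subtype.ext
          (Prod.ext (congrArg (fun t => (t.1 : G)) h) (congrArg (fun t => (t.2 : G)) h))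
        refine lt_of_le_of_ne (Nat.card_le_card_of_injective φ hφ) fun heq => ?_
        obtain ⟨d, hd⟩ := ((Nat.bijective_iff_injective_and_card φ).mpr ⟨hφ, heq⟩).2
          (⟨a, ha⟩, ⟨b, hb⟩)
        refine hab ?_
        have e1 : d.1.1 = a := congrArg (fun t => (t.1 : G)) hd
        have e2 : d.1.2 = b := congrArg (fun t => (t.2 : G)) hd
        exact e1 ▸ e2 ▸ d.2.2.2
      have hPeq : P = w q * w r * (rest.map w).prod := by
        rw [mul_assoc, ← List.prod_cons, ← List.prod_cons, ← List.map_cons, ← List.map_cons]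
        exact ((hperm.map w).prod_eq).symm
      have hwpos : 0 < (rest.map w).prod := by
        refine Nat.pos_of_ne_zero (List.prod_ne_zero fun h0 => ?_)
        obtain ⟨i, hi, h⟩ := List.mem_map.mp h0
        exact index_ne_zero_of_finite h
      have hlt : Nat.card Z < P := by
        rw [hPeq]
        exact lt_of_le_of_lt (hZF.trans ((natCard_mul_le' _ _).trans
          (Nat.mul_le_mul_left _ (card_prodSet_le C x rest)))) (Nat.mul_lt_mul_of_pos_right hFlt hwpos)
      have hZtop : Nat.card Z = H.index := by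
        rw [index_eq_card]
        refine Nat.card_congr (Equiv.subtypeUnivEquiv fun c => Or.inr fun g _ N hN => ?_)
        obtain ⟨l, U, hl, -, -⟩ := hN
        exact absurd hl (hgood l)
      have := Nat.le_of_dvd (Nat.pos_of_ne_zero hn0) hP
      omega

end Setting

end Cfsg.Agent.SecondFitting
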