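import Cfsg.Agent.Lib.SecondFitting.Single
import Cfsg.Agent.Lib.SecondFitting.Colour

/-!
Colours normalising each other.
-/

set_option autoImplicit false
set_option linter.style.haveILetI false
set_option linter.unusedSectionVars false

namespace Cfsg.Agent.SecondFitting

open Subgroup
open scoped Pointwise commutatorElement

universe u

variable {G : Type u} [Group G] [Finite G] {p : ℕ} [Fact p.Prime] {x : G}

theorem coprime_of_isPGroup {q : ℕ} [Fact q.Prime] (hqp : q ≠ p) {K : Subgroup G}
    (hK : IsPGroup q K) : (Nat.card K).Coprime p := by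
  obtain ⟨n, hn⟩ := hK.exists_card_eq
  rw [hn]
  exact ((Nat.coprime_primes Fact.out Fact.out).mpr hqp).pow_left n

/-- A mutually normalising family of members covering all members is impossible. -/
theorem Setting.false_of_cover (s : Setting p x) {ι : Type u} (S : ι → Subgroup G)
    (hS : ∀ i, ∃ q : ℕ, q.Prime ∧ q ≠ p ∧ Member x q (S i))
    (hm : ∀ i j, S i ≤ normalizer (S j : Set G))
    (hcov : ∀ q : ℕ, q.Prime → q ≠ p → ∀ R : Subgroup G, Member x q R → R ≤ ⨆ i, S i) : False := by
  refine s.false_of_wall_nilpotent ?_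
  have e : wall p x = ⨆ i, S i := le_antisymm (wall_le hcov) (iSup_le fun i => by
    obtain ⟨q, hq, hqp, hR⟩ := hS i
    exact member_le_wall hq hqp hR)
  rw [e]
  refine (nilpotent_join (p := p) S (fun i => ?_) (fun i => ?_) hm).1
  all_goals
    obtain ⟨q, hq, hqp, hR⟩ := hS i
    haveI := Fact.mk hq
  · exact hR.isP.isNilpotent
  · exact coprime_of_isPGroup hqp hR.isP

/-- If all colours normalise each other there is no minimal counterexample. -/
theorem Setting.false_of_colours (s : Setting p x)
    (h : ∀ q r : ℕ, q.Prime → r.Prime → q ≠ p → r ≠ p → ∀ U V : Subgroup G,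
      Colour x q U → Colour x r V → U ≤ normalizer (V : Set G)) : False := by
  refine s.false_of_cover
    (fun U : {U : Subgroup G // ∃ q : ℕ, q.Prime ∧ q ≠ p ∧ Colour x q U} => (U : Subgroup G))
    (fun U => ?_) (fun U V => ?_) ?_
  · obtain ⟨q, hq, hqp, hU⟩ := U.2
    exact ⟨q, hq, hqp, hU.member⟩
  · obtain ⟨q, hq, hqp, hU⟩ := U.2
    obtain ⟨r, hr, hrp, hV⟩ := V.2
    exact h q r hq hr hqp hrp _ _ hU hV
  · intro q hq hqp R hR
    haveI := Fact.mk hq
    by_cases h0 : R = ⊥
    · rw [h0]; exact bot_le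
    obtain ⟨W, hW, hRW⟩ := exists_colour hR h0
    exact hRW.trans (le_iSup
      (fun U : {U : Subgroup G // ∃ q : ℕ, q.Prime ∧ q ≠ p ∧ Colour x q U} => (U : Subgroup G))
      ⟨W, q, hq, hqp, hW⟩)

end Cfsg.Agent.SecondFitting
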