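import Cfsg.Agent.Lib.Coprime.PGroup

/-!
Self-centralising four-subgroups of a two-group.
-/

set_option autoImplicit false
set_option linter.style.haveILetI false

namespace Cfsg.Agent.SecondFitting

open Subgroup
open scoped Pointwise commutatorElement

variable {T : Type*} [Group T] [Finite T]

/-- A self-centralising elementary abelian subgroup of order four. -/
structure SelfFour (W : Subgroup T) : Prop where
  card : Nat.card W = 4
  comm : W ≤ Subgroup.centralizer (W : Set T)
  sq : ∀ a ∈ W, a ^ 2 = 1
  self : Subgroup.centralizer (W : Set T) ≤ W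

namespace SelfFour

variable {W : Subgroup T} (hW : SelfFour W)
include hW

theorem ne_center (h8 : 4 < Nat.card T) : ¬ W ≤ Subgroup.center T := by
  intro h
  have : (⊤ : Subgroup T) ≤ W := le_trans (fun a _ => mem_centralizer_iff.mpr fun b hb =>
    (mem_center_iff.mp (h hb) a).symm) hW.self
  have h2 := Subgroup.card_le_of_le this
  rw [Subgroup.card_top, hW.card] at h2
  omega

/-- The class of a noncentral element of a self-centralising four-group is a coset. -/
theorem class_coset (hT : IsPGroup 2 T) (h8 : 4 < Nat.card T) {t : T} (ht : t ∈ W)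
    (htc : t ∉ Subgroup.center T) :
    Subgroup.centralizer ({t} : Set T) = W ∧ Nat.card (commutator T) * 4 = Nat.card T ∧
      t ∉ commutator T ∧ ∀ c ∈ commutator T, ∃ g : T, g * t * g⁻¹ = t * c := by
  haveI : Fact (Nat.Prime 2) := ⟨Nat.prime_two⟩
  have hZW : Subgroup.center T ≤ W := fun a ha =>
    hW.self (Subgroup.center_le_centralizer _ ha)
  haveI : Nontrivial T := Finite.one_lt_card_iff_nontrivial.mp (by omega)
  haveI := hT.center_nontrivial
  obtain ⟨⟨z, hz⟩, hz1⟩ := exists_ne (1 : Subgroup.center T)
  have hC : Subgroup.centralizer ({t} : Set T) = W := by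
    refine le_antisymm (fun g hg => hW.self ?_) fun a ha =>
      mem_centralizer_singleton_iff.mpr (mem_centralizer_iff.mp (hW.comm ha) t ht).symm
    have hWgen : Subgroup.closure ({z, t} : Set T) = W := by
      have hle : Subgroup.closure ({z, t} : Set T) ≤ W := (closure_le _).mpr (by
        intro a ha
        rcases ha with rfl | rfl
        · exact hZW hz
        · exact ht)
      refine eq_of_le_of_card_ge hle ?_
      rw [hW.card]
      by_contra hlt
      have hd := card_dvd_of_le hle
      rw [hW.card] at hd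
      have hcard : Nat.card (Subgroup.closure ({z, t} : Set T)) ∈ Nat.divisors 4 :=
        Nat.mem_divisors.mpr ⟨hd, by norm_num⟩
      rw [show Nat.divisors 4 = {1, 2, 4} by decide] at hcard
      have h2 : Nat.card (Subgroup.closure ({z, t} : Set T)) ≤ 2 := by
        simp only [Finset.mem_insert, Finset.mem_singleton] at hcard
        omega
      have hzo : Nat.card (zpowers z) = 2 := by
        rw [Nat.card_zpowers]
        exact orderOf_eq_prime (hW.sq z (hZW hz)) (fun e => hz1 (Subtype.ext e))
      have := eq_of_le_of_card_ge (zpowers_le.mpr (subset_closure (Set.mem_insert z {t})))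
        (by rw [hzo]; exact h2)
      refine htc ((zpowers_le.mpr hz) ?_)
      rw [this]
      exact subset_closure (Set.mem_insert_of_mem _ rfl)
    refine mem_centralizer_iff.mpr fun a ha => ?_
    have hle : W ≤ Subgroup.centralizer ({g} : Set T) := by
      rw [← hWgen]
      refine (closure_le _).mpr ?_
      intro b hb
      rcases hb with rfl | rfl
      · exact mem_centralizer_singleton_iff.mpr (mem_center_iff.mp hz g).symm
      · exact mem_centralizer_singleton_iff.mpr (mem_centralizer_singleton_iff.mp hg).symm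
    exact mem_centralizer_singleton_iff.mp (hle ha)
  -- the index of the commutator subgroup is at least four
  have hidx : 4 ≤ (commutator T).index := by
    haveI := hT.isNilpotent
    obtain ⟨n, hn⟩ := hT.exists_card_eq
    obtain ⟨k, -, hk⟩ := (Nat.dvd_prime_pow Nat.prime_two).mp
      (hn ▸ (commutator T).index_dvd_card : (commutator T).index ∣ 2 ^ n)
    rcases Nat.lt_or_ge k 2 with hk2 | hk2
    swap
    · rw [hk]
      exact le_trans (by norm_num) (Nat.pow_le_pow_right (by norm_num) hk2)
    exfalso
    obtain ⟨g, hg⟩ : ∃ g : T, zpowers g ⊔ commutator T = ⊤ := by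
      rcases Nat.eq_zero_or_pos k with rfl | hk0
      · exact ⟨1, by rw [(index_eq_one (H := commutator T)).mp (by rw [hk, pow_zero]), sup_top_eq]⟩
      obtain rfl : k = 1 := by omega
      obtain ⟨g, hg⟩ : ∃ g : T, g ∉ commutator T := by
        by_contra hall
        push Not at hall
        rw [show commutator T = ⊤ from eq_top_iff.mpr fun a _ => hall a, index_top] at hk
        omega
      refine ⟨g, ?_⟩
      have hlt : commutator T < zpowers g ⊔ commutator T :=
        lt_of_le_of_ne le_sup_right fun e => hg (e ▸ mem_sup_left (mem_zpowers g))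
      have hd := index_dvd_of_le hlt.le
      rw [hk, pow_one, Nat.dvd_prime Nat.prime_two] at hd
      rcases hd with h | h
      · exact index_eq_one.mp h
      · exact absurd (eq_of_le_of_card_ge hlt.le (le_of_eq (Nat.eq_of_mul_eq_mul_right
          (show 0 < 2 by norm_num) ((show Nat.card ↥(zpowers g ⊔ commutator T) * 2 =
            Nat.card ↥(commutator T) * 2 by
              conv_lhs => rw [← h, card_mul_index]
              conv_rhs => rw [← pow_one 2, ← hk, card_mul_index]))))) hlt.ne
    haveI : Group.IsNilpotent (⊤ : Subgroup T) :=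
      (hT.to_subgroup ⊤).isNilpotent
    have htop : zpowers g = ⊤ := Coprime.eq_of_le_of_sup_commutator_eq le_top (by
      rwa [← _root_.commutator_def])
    refine htc (mem_center_iff.mpr fun b => ?_)
    have hb : b ∈ zpowers g := htop ▸ mem_top b
    have ht' : t ∈ zpowers g := htop ▸ mem_top t
    obtain ⟨i, rfl⟩ := mem_zpowers_iff.mp hb
    obtain ⟨j, rfl⟩ := mem_zpowers_iff.mp ht'
    exact (Commute.zpow_zpow_self g i j).eq
  -- the class map
  let f : T ⧸ W → commutator T := Quotient.lift
    (fun g : T => (⟨t⁻¹ * (g * t * g⁻¹), by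
      have : ⁅t⁻¹, g⁆ ∈ commutator T := commutator_mem_commutator (mem_top _) (mem_top _)
      simpa [commutatorElement_def, mul_assoc] using this⟩ : commutator T))
    (fun a b hab => Subtype.ext (by
      have hm : a⁻¹ * b ∈ Subgroup.centralizer ({t} : Set T) :=
        hC.ge (QuotientGroup.leftRel_apply.mp hab)
      have he : a⁻¹ * b * t = t * (a⁻¹ * b) := mem_centralizer_singleton_iff.mp hm
      show t⁻¹ * (a * t * a⁻¹) = t⁻¹ * (b * t * b⁻¹)
      congr 1
      calc a * t * a⁻¹ = a * (t * (a⁻¹ * b)) * b⁻¹ := by group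
        _ = a * (a⁻¹ * b * t) * b⁻¹ := by rw [he]
        _ = _ := by group))
  have hf : Function.Injective f := by
    intro a b
    induction a using Quotient.inductionOn with
    | h a =>
    induction b using Quotient.inductionOn with
    | h b =>
      intro hab
      refine Quotient.sound (QuotientGroup.leftRel_apply.mpr (hC.le
        (mem_centralizer_singleton_iff.mpr ?_)))
      have he : a * t * a⁻¹ = b * t * b⁻¹ := mul_left_cancel (congrArg Subtype.val hab)
      calc a⁻¹ * b * t = a⁻¹ * (b * t * b⁻¹) * b := by group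
        _ = a⁻¹ * (a * t * a⁻¹) * b := by rw [he]
        _ = _ := by group
  have hle := Nat.card_le_card_of_injective f hf
  have hidxW : Nat.card W * Nat.card (T ⧸ W) = Nat.card T := by
    rw [← Subgroup.index_eq_card, card_mul_index]
  rw [hW.card] at hidxW
  have hci := card_mul_index (commutator T)
  have hcard : Nat.card (commutator T) * 4 = Nat.card T := by
    refine le_antisymm ?_ ?_
    · exact (Nat.mul_le_mul_left _ hidx).trans_eq hci
    · calc Nat.card T = 4 * Nat.card (T ⧸ W) := hidxW.symm
        _ ≤ 4 * Nat.card (commutator T) := Nat.mul_le_mul_left _ hle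
        _ = _ := mul_comm _ _
  have hbij : Function.Bijective f := (Nat.bijective_iff_injective_and_card f).mpr
    ⟨hf, by omega⟩
  have hcoset : ∀ c ∈ commutator T, ∃ g : T, g * t * g⁻¹ = t * c := by
    intro c hc
    obtain ⟨a, ha⟩ := hbij.2 ⟨c, hc⟩
    obtain ⟨g, rfl⟩ := QuotientGroup.mk_surjective a
    refine ⟨g, ?_⟩
    have h : t⁻¹ * (g * t * g⁻¹) = c := congrArg Subtype.val ha
    rw [← h, mul_inv_cancel_left]
  refine ⟨hC, hcard, fun hmem => ?_, hcoset⟩
  obtain ⟨g, hg⟩ := hcoset t⁻¹ (inv_mem hmem)
  rw [mul_inv_cancel, conj_eq_one_iff] at hg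
  exact htc (hg ▸ one_mem _)

end SelfFour

/-- Among three self-centralising four-groups two are conjugate. -/
theorem exists_conj_of_three (hT : IsPGroup 2 T) (h8 : 4 < Nat.card T) (W : Fin 3 → Subgroup T)
    (hW : ∀ i, SelfFour (W i)) : ∃ i j, i ≠ j ∧ ∃ g : T, MulAut.conj g • W i = W j := by
  by_contra hcon
  push Not at hcon
  have hex : ∀ i, ∃ t ∈ W i, t ∉ Subgroup.center T := fun i => by
    by_contra h
    push Not at h
    exact (hW i).ne_center h8 h
  choose t ht htc using hex
  have hcl := fun i => (hW i).class_coset hT h8 (ht i) (htc i)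
  set φ := QuotientGroup.mk' (commutator T)
  have hne : ∀ i j, i ≠ j → φ (t i) ≠ φ (t j) := by
    intro i j hij he
    obtain ⟨g, hg⟩ := (hcl i).2.2.2 ((t i)⁻¹ * t j) (QuotientGroup.eq.mp he)
    rw [mul_inv_cancel_left] at hg
    refine hcon i j hij g ?_
    rw [← (hcl i).1, ← (hcl j).1, ← hg]
    ext a
    rw [Subgroup.mem_pointwise_smul_iff_inv_smul_mem, mem_centralizer_singleton_iff,
      mem_centralizer_singleton_iff]
    simp only [MulAut.smul_def, MulAut.conj_inv_apply]
    constructor
    · intro h
      calc a * (g * t i * g⁻¹) = g * (g⁻¹ * a * g * t i) * g⁻¹ := by group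
        _ = g * (t i * (g⁻¹ * a * g)) * g⁻¹ := by rw [h]
        _ = _ := by group
    · intro h
      calc g⁻¹ * a * g * t i = g⁻¹ * (a * (g * t i * g⁻¹)) * g := by group
        _ = g⁻¹ * (g * t i * g⁻¹ * a) * g := by rw [h]
        _ = _ := by group
  have h1 : ∀ i, φ (t i) ≠ 1 := fun i h => (hcl i).2.2.1 ((QuotientGroup.eq_one_iff _).mp h)
  have hsq : ∀ i, φ (t i) * φ (t i) = 1 := fun i => by
    rw [← map_mul, ← sq, (hW i).sq _ (ht i), map_one]
  have hQ : Nat.card (T ⧸ commutator T) = 4 := by
    have h := card_mul_index (commutator T)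
    rw [← (hcl 0).2.1, index_eq_card] at h
    exact Nat.eq_of_mul_eq_mul_left Nat.card_pos h
  -- the quotient consists of the images
  have hprod : φ (t 0) * φ (t 1) = φ (t 2) := by
    by_contra hx
    have hinj : Function.Injective
        (![1, φ (t 0), φ (t 1), φ (t 2), φ (t 0) * φ (t 1)] : Fin 5 → T ⧸ commutator T) := by
      have a01 := hne 0 1 (by decide)
      have a02 := hne 0 2 (by decide)
      have a12 := hne 1 2 (by decide)
      have b0 : φ (t 0) * φ (t 1) ≠ 1 := fun h => a01 (by
        have := congrArg (φ (t 0) * ·) h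
        simp only [← mul_assoc, hsq 0, one_mul, mul_one] at this
        exact this.symm)
      have b1 : φ (t 0) * φ (t 1) ≠ φ (t 0) := fun h => h1 1 (mul_eq_left.mp h)
      have b2 : φ (t 0) * φ (t 1) ≠ φ (t 1) := fun h => h1 0 (mul_eq_right.mp h)
      intro i j hij
      fin_cases i <;> fin_cases j <;>
        simp [h1, (h1 _).symm, a01, a02, a12, a01.symm, a02.symm, a12.symm, b0, b1, b2, b0.symm,
          b1.symm, b2.symm, hx, Ne.symm hx] at hij ⊢
    have := Nat.card_le_card_of_injective _ hinj
    simp [hQ] at this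
  -- hence the second coset centralises `t 0`
  have hmem : ∀ c ∈ commutator T, t 1 * c ∈ W 0 := by
    intro c hc
    rw [← (hcl 0).1, mem_centralizer_singleton_iff]
    set b := t 1 * c
    have hb : φ b = φ (t 1) := by
      rw [map_mul, show φ c = 1 from (QuotientGroup.eq_one_iff _).mpr hc, mul_one]
    have hb2 : b * b = 1 := by
      obtain ⟨g, hg⟩ := (hcl 1).2.2.2 c hc
      rw [show b = g * t 1 * g⁻¹ from hg.symm, ← sq, conj_pow, (hW 1).sq _ (ht 1), mul_one, mul_inv_cancel]
    have hab : (t 0 * b) * (t 0 * b) = 1 := by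
      have : φ (t 0 * b) = φ (t 2) := by rw [map_mul, hb, hprod]
      obtain ⟨g, hg⟩ := (hcl 2).2.2.2 ((t 2)⁻¹ * (t 0 * b)) (QuotientGroup.eq.mp this.symm)
      rw [mul_inv_cancel_left] at hg
      rw [← hg, ← sq, conj_pow, (hW 2).sq _ (ht 2), mul_one, mul_inv_cancel]
    have ha2 : t 0 * t 0 = 1 := by rw [← sq]; exact (hW 0).sq _ (ht 0)
    calc b * t 0 = (t 0 * t 0) * (b * t 0) * (b * b) := by rw [ha2, hb2, one_mul, mul_one]
      _ = t 0 * ((t 0 * b) * (t 0 * b)) * b := by group
      _ = t 0 * b := by rw [hab, mul_one]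
  let F : Fin 3 × commutator T → W 0 := fun a =>
    ![⟨t 0 * (a.2 : T), by
        rw [← (hcl 0).1, mem_centralizer_singleton_iff]
        have h := hmem a.2 a.2.2
        have h' := hmem 1 (one_mem _)
        rw [mul_one] at h'
        have hc : (a.2 : T) ∈ W 0 := by simpa using mul_mem (inv_mem h') h
        rw [← (hcl 0).1, mem_centralizer_singleton_iff] at hc
        rw [mul_assoc, hc]⟩,
      ⟨t 1 * (a.2 : T), hmem a.2 a.2.2⟩,
      ⟨(a.2 : T), by
        have h := hmem a.2 a.2.2
        have h' := hmem 1 (one_mem _)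
        rw [mul_one] at h'
        simpa using mul_mem (inv_mem h') h⟩] a.1
  have hF : Function.Injective F := by
    rintro ⟨i, c⟩ ⟨j, d⟩ h
    have h' : φ (F (i, c) : T) = φ (F (j, d) : T) := by rw [h]
    have hc : φ (c : T) = 1 := (QuotientGroup.eq_one_iff _).mpr c.2
    have hd : φ (d : T) = 1 := (QuotientGroup.eq_one_iff _).mpr d.2
    have a01 := hne 0 1 (by decide)
    fin_cases i <;> fin_cases j <;>
      first
      | (refine Prod.ext rfl (Subtype.ext ?_); simpa [F] using congrArg Subtype.val h)
      | (exfalso; simp [F, hc, hd, a01, a01.symm, h1, (h1 _).symm] at h')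
  have hbig := Nat.card_le_card_of_injective F hF
  rw [Nat.card_prod, (hW 0).card, Nat.card_eq_fintype_card, Fintype.card_fin] at hbig
  have := (hcl 0).2.1
  omega

end Cfsg.Agent.SecondFitting
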