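import Cfsg.Agent.Lib.SecondFitting.Mates

/-!
Odd primes: commuting conjugates have the same colours and the conjugating elements fix them.
-/

set_option autoImplicit false
set_option linter.style.haveILetI false
set_option linter.unusedSectionVars false

namespace Cfsg.Agent.SecondFitting

open Subgroup
open scoped Pointwise commutatorElement

universe u

variable {G : Type u} [Group G] [Finite G] {p q r : ℕ} [Fact p.Prime] [Fact q.Prime] [Fact r.Prime]
  {x : G}

theorem dvd_card_of_ne_bot {R : Subgroup G} (hR : IsPGroup q R) (h0 : R ≠ ⊥) : q ∣ Nat.card R := by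
  obtain ⟨n, hn⟩ := hR.exists_card_eq
  have hn0 : n ≠ 0 := fun e => h0 (Subgroup.eq_bot_of_card_eq _ (by rw [hn, e, pow_zero]))
  exact hn ▸ dvd_pow_self q hn0

theorem dvd_card_Cx (g : G) {R : Subgroup G} (hR : IsPGroup q R) (h0 : R ≠ ⊥)
    (hle : R ≤ Cx (g * x * g⁻¹)) : q ∣ Nat.card (Cx x) := by
  have := (dvd_card_of_ne_bot hR h0).trans (card_dvd_of_le hle)
  rwa [Cx_conj, Coprime.card_conj_smul] at this

theorem eq_of_colours_prime {U : Subgroup G} (hU : Colour x q U) (hU' : Colour x r U) : q = r := by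
  by_contra hne
  exact hU.ne_bot (le_bot_iff.mp
    (IsPGroup.disjoint_of_ne q r hne _ _ hU.member.isP hU'.member.isP le_rfl le_rfl))

namespace Setting

variable (s : Setting p x)
include s

/-- A colour without part in `C(h x h⁻¹)` is a colour of `h x h⁻¹`. -/
theorem colour_of_free (hp : p ≠ 2) (hqp : q ≠ p) {h : G} (hh : Commute x (h * x * h⁻¹))
    {V : Subgroup G} (hV : Colour x q V) (h1 : V ⊓ Cx (h * x * h⁻¹) ≤ Cx x)
    (h2 : ∀ W : Subgroup G, Colour x q W → W ⊓ Cx (h⁻¹ * x * h) ≤ Cx x) :
    ∃ W₀, Colour x q W₀ ∧ MulAut.conj h • W₀ = V := by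
  set a := h * x * h⁻¹
  have sa : Setting p a := s.conj h
  have hax : a ∈ Cx x := mem_Cx.mpr hh
  have hxa : x ∈ Cx a := mem_Cx.mpr hh.symm
  have haV : zpowers a ≤ normalizer (V : Set G) := zpowers_le.mpr (s.Cx_le_colour hp hqp hV hax)
  have haz : zpowers x ≤ normalizer (zpowers a : Set G) :=
    (zpowers_le.mpr hxa).trans (Cx_le_normalizer_zpowers a)
  have e1 : ⁅V, zpowers a⁆ = V := by
    refine hV.member.eq_of_le_sup (Coprime.commutator_le_of_le_normalizer haV)
      (le_normalizer_commutator hV.member.norm haz) ?_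
    refine (Coprime.commutator_sup_inf_centralizer haV (coprime_card sa.order hqp hV.member.isP)
      (Or.inl (LocalFlavell.CommutatorFixed.solvable_zpowers a))).ge.trans (sup_le_sup_left ?_ _)
    exact le_inf inf_le_left h1
  obtain ⟨W, hW, hVW⟩ := exists_colour ⟨hV.member.isP, haV, e1⟩ hV.ne_bot
  have hW0 : Colour x q (MulAut.conj h⁻¹ • W) := by
    have := hW.conj h⁻¹
    rwa [show h⁻¹ * a * h⁻¹⁻¹ = x by simp [a, mul_assoc]] at this
  refine ⟨_, hW0, ?_⟩
  have hWe : MulAut.conj h • MulAut.conj h⁻¹ • W = W := by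
    rw [← Coprime.conj_smul_mul, mul_inv_cancel, Coprime.conj_smul_one]
  rw [hWe]
  have hxW : zpowers x ≤ normalizer (W : Set G) := zpowers_le.mpr (sa.Cx_le_colour hp hqp hW hxa)
  have hfree : W ⊓ Cx x ≤ Cx a := by
    intro c hc
    have h3 : h⁻¹ * c * h ∈ MulAut.conj h⁻¹ • W := by
      rw [Coprime.mem_conj_smul]; simpa [mul_assoc] using hc.1
    have h4 : h⁻¹ * c * h ∈ Cx (h⁻¹ * x * h) := by
      have := hc.2
      rw [show h⁻¹ * x * h = h⁻¹ * x * h⁻¹⁻¹ by rw [inv_inv], Cx_conj, Coprime.mem_conj_smul]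
      simpa [mul_assoc] using this
    have h5 := h2 _ hW0 ⟨h3, h4⟩
    rw [show a = h * x * h⁻¹ from rfl, Cx_conj, Coprime.mem_conj_smul]
    exact h5
  have e2 : ⁅W, zpowers x⁆ = W := by
    refine hW.member.eq_of_le_sup (Coprime.commutator_le_of_le_normalizer hxW)
      (le_normalizer_commutator hW.member.norm
        ((zpowers_le.mpr hax).trans (Cx_le_normalizer_zpowers x))) ?_
    refine (Coprime.commutator_sup_inf_centralizer hxW (coprime_card s.order hqp hW.member.isP)
      (Or.inl (LocalFlavell.CommutatorFixed.solvable_zpowers x))).ge.trans (sup_le_sup_left ?_ _)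
    exact le_inf inf_le_left hfree
  have hm : Member x q W := ⟨hW.member.isP, hxW, e2⟩
  exact hV.max W hm hm.norm hVW

/-- A member centralised by a commuting conjugate yields a contradiction. -/
theorem omega_free (hp : p ≠ 2) (hqp : q ≠ p) {U : Subgroup G} (hU : Colour x q U) {g : G}
    (hg : Commute x (g * x * g⁻¹)) : U ⊓ Cx (g * x * g⁻¹) ≤ Cx x := by
  -- colours with a part in the centralizer of a commuting conjugate
  let Ω : Subgroup G → Prop := fun V => ∃ r : ℕ, r.Prime ∧ r ≠ p ∧ Colour x r V ∧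
    ∃ D, Member x r D ∧ D ≠ ⊥ ∧ D ≤ V ∧
      ∀ l : ℕ, l.Prime → l ≠ p → ∀ W : Subgroup G, Colour x l W → W ≠ V →
        D ≤ Subgroup.centralizer (W : Set G)
  have hΩ : ∀ (r : ℕ) [Fact r.Prime], r ≠ p → ∀ V : Subgroup G, Colour x r V → ∀ b : G,
      Commute x (b * x * b⁻¹) → ¬ V ⊓ Cx (b * x * b⁻¹) ≤ Cx x → Ω V := by
    intro r _ hrp V hV b hb hne
    have hxb : zpowers x ≤ normalizer (Cx (b * x * b⁻¹) : Set G) :=
      SecondFitting.zpowers_le_normalizer (mem_Cx.mpr hb.symm)
    obtain ⟨hD, hDV, hDC⟩ := part_spec s.order hrp hV.member hxb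
    have hD0 : part x V (Cx (b * x * b⁻¹)) ≠ ⊥ := by
      intro h0
      refine hne ((inf_le_part_sup s.order hrp hV.member hxb).trans ?_)
      rw [h0, bot_sup_eq]
      exact inf_le_right
    refine ⟨r, Fact.out, hrp, hV, _, hD, hD0, hDV, fun l hl hlp W hW hWV => ?_⟩
    haveI := Fact.mk hl
    have hrl : r ≠ l := by
      rintro rfl
      exact hWV (s.colour_unique hp hrp (dvd_card_Cx b hD.isP hD0 hDC) hW hV)
    exact s.centralize_of_le_Cx hp rfl hb.symm hrp hlp hrl hD hDC hW
  by_contra hne
  obtain ⟨r', hr', -, -, D, hD, hD0, hDU, hDc⟩ := hΩ q hqp U hU g hg hne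
  have hD' : Member x q D := ⟨hU.member.isP.to_le hDU, hD.norm, hD.comm⟩
  have hsameN : ∀ (V E : Subgroup G) (r : ℕ), r.Prime → r ≠ p → Member x r E → E ≠ ⊥ → E ≤ V →
      Colour x r V →
      (∀ l : ℕ, l.Prime → l ≠ p → ∀ W : Subgroup G, Colour x l W → W ≠ V →
        E ≤ Subgroup.centralizer (W : Set G)) →
      ∀ (l l' : ℕ) (W W' : Subgroup G), l.Prime → l'.Prime → l ≠ p → l' ≠ p → Colour x l W →
        Colour x l' W' → W ≠ V → W' ≠ V →
          W ≤ normalizer (W' : Set G) ∧ (l = l' → W = W') := by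
    intro V E r hr hrp hE hE0 hEV hV hEc l l' W W' hl hl' hlp hlp' hW hW' hWV hWV'
    haveI := Fact.mk hl
    haveI := Fact.mk hl'
    haveI := Fact.mk hr
    set L := normalizer (E : Set G)
    have hL : L ≠ ⊤ := s.normalizer_ne_top_of_isPGroup hE0 hE.isP
    have hxL : x ∈ L := hE.norm (mem_zpowers x)
    have hWL : W ≤ L :=
      (le_centralizer_iff.mp (hEc l hl hlp W hW hWV)).trans (centralizer_le_normalizer _)
    have hWL' : W' ≤ L :=
      (le_centralizer_iff.mp (hEc l' hl' hlp' W' hW' hWV')).trans (centralizer_le_normalizer _)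
    have heq : l = l' → W = W' := by
      rintro rfl
      exact s.colour_eq_of_common hp hlp hL hxL hW hW' hW.member hW.ne_bot le_rfl hWL hW'.member
        hW'.ne_bot le_rfl hWL'
    refine ⟨?_, heq⟩
    by_cases hll : l = l'
    · rw [heq hll]; exact le_normalizer
    exact (s.commute hlp hlp' hll hL hxL hW.member hWL hW'.member hWL').trans
      (centralizer_le_normalizer _)
  by_cases htwo : ∃ V, V ≠ U ∧ Ω V
  · obtain ⟨V, hVU, r, hr, hrp, hV, E, hE, hE0, hEV, hEc⟩ := htwo
    haveI := Fact.mk hr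
    have hqr : q ≠ r := by
      rintro rfl
      have h2 := hDc q hr hqp V hV hVU
      exact hVU (s.colour_eq_of_common hp hqp (s.normalizer_ne_top_of_isPGroup hD0 hD'.isP)
        (hD.norm (mem_zpowers x)) hV hU hV.member hV.ne_bot le_rfl
        ((le_centralizer_iff.mp h2).trans (centralizer_le_normalizer _)) hD' hD0 hDU
        le_normalizer)
    have hUV : U ≤ Subgroup.centralizer (V : Set G) :=
      s.colour_commute_of_partial hp hqp hrp hqr hU hV hD' hD0 hDU (hDc r hr hrp V hV hVU) hE hE0
        hEV (hEc q Fact.out hqp U hU (Ne.symm hVU))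
    refine s.false_of_colours fun l l' hl hl' hlp hlp' W W' hW hW' => ?_
    by_cases hWU : W = U
    · by_cases hWU' : W' = U
      · rw [hWU, hWU']; exact le_normalizer
      by_cases hWV' : W' = V
      · rw [hWU, hWV']; exact hUV.trans (centralizer_le_normalizer _)
      exact (hsameN V E r hr hrp hE hE0 hEV hV hEc l l' W W' hl hl' hlp hlp' hW hW'
        (hWU ▸ Ne.symm hVU) hWV').1
    by_cases hWU' : W' = U
    · by_cases hWV : W = V
      · rw [hWU', hWV]; exact (le_centralizer_iff.mp hUV).trans (centralizer_le_normalizer _)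
      exact (hsameN V E r hr hrp hE hE0 hEV hV hEc l l' W W' hl hl' hlp hlp' hW hW' hWV
        (hWU' ▸ Ne.symm hVU)).1
    exact (hsameN U D q Fact.out hqp hD' hD0 hDU hU hDc l l' W W' hl hl' hlp hlp' hW hW' hWU hWU').1
  · push Not at htwo
    refine s.false_of_detached hp hqp hU hD' hD0 hDU hDc fun r hr hrp V hV hne' h hh => ?_
    haveI := Fact.mk hr
    have hfree : ∀ W : Subgroup G, Colour x r W → W ≠ U → ∀ b : G, Commute x (b * x * b⁻¹) →
        W ⊓ Cx (b * x * b⁻¹) ≤ Cx x := fun W hW hWU b hb => by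
      by_contra hnot
      exact htwo W hWU (hΩ r hrp W hW b hb hnot)
    have hrq : r ≠ q := by
      rintro rfl
      exact hne' (s.colour_eq_of_common hp hrp (s.normalizer_ne_top_of_isPGroup hD0 hD'.isP)
        (hD.norm (mem_zpowers x)) hV hU hV.member hV.ne_bot le_rfl
        ((le_centralizer_iff.mp (hDc r hr hrp V hV hne')).trans (centralizer_le_normalizer _))
        hD' hD0 hDU le_normalizer)
    have hWU : ∀ W : Subgroup G, Colour x r W → W ≠ U := fun W hW e =>
      hrq (eq_of_colours_prime hW (e ▸ hU))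
    have hinv : Commute x (h⁻¹ * x * h) := by
      have := hh.symm.map (MulAut.conj h⁻¹).toMonoidHom
      simpa [MulAut.conj_apply, mul_assoc] using this
    obtain ⟨W₀, hW₀, hW⟩ := s.colour_of_free hp hrp hh hV (hfree V hV hne' h hh) fun W hW => by
      have := hfree W hW (hWU W hW) h⁻¹ (by simpa using hinv)
      simpa using this
    rw [← Coprime.conj_smul_eq_self_iff]
    have e := (hsameN U D q Fact.out hqp hD' hD0 hDU hU hDc r r W₀ V hr hr hrp hrp hW₀ hV
      (hWU W₀ hW₀) hne').2 rfl
    exact (congrArg (MulAut.conj h • ·) e).symm.trans hW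

/-- Conjugating elements of commuting conjugates permute the colours. -/
theorem conj_colour_mate (hp : p ≠ 2) (hqp : q ≠ p) {h : G} (hh : Commute x (h * x * h⁻¹))
    {U : Subgroup G} (hU : Colour x q U) : Colour x q (MulAut.conj h • U) := by
  have hinv : Commute x (h⁻¹ * x * h⁻¹⁻¹) := by
    have := hh.symm.map (MulAut.conj h⁻¹).toMonoidHom
    simpa [MulAut.conj_apply, mul_assoc] using this
  obtain ⟨W₀, hW₀, hW⟩ := s.colour_of_free hp hqp hinv hU (s.omega_free hp hqp hU hinv)
    (fun W hW => by simpa using s.omega_free hp hqp hW hh)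
  rwa [← hW, ← Coprime.conj_smul_mul, mul_inv_cancel, Coprime.conj_smul_one]

/-- Conjugating elements of commuting conjugates fix every colour. -/
theorem mate_fix (hp : p ≠ 2) (hqp : q ≠ p) {h : G} (hh : Commute x (h * x * h⁻¹))
    {U : Subgroup G} (hU : Colour x q U) : h ∈ normalizer (U : Set G) := by
  rw [← Coprime.conj_smul_eq_self_iff]
  by_contra hne
  set U' := MulAut.conj h • U with hU'def
  have hU' : Colour x q U' := s.conj_colour_mate hp hqp hh hU
  have hnd : ¬ q ∣ Nat.card (Cx x) := fun hd => hne (s.colour_unique hp hqp hd hU' hU)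
  set a := h * x * h⁻¹
  have haU' : zpowers a ≤ normalizer (U' : Set G) :=
    zpowers_le.mpr (s.Cx_le_colour hp hqp hU' (mem_Cx.mpr hh))
  set T := zpowers x ⊔ zpowers a
  have hT : IsPGroup p T := s.isP.to_sup_of_normal_left' (s.conj h).isP
    ((zpowers_le.mpr (mem_Cx.mpr hh)).trans (Cx_le_normalizer_zpowers x))
  have hTU : T ≤ normalizer (U' : Set G) := sup_le hU'.member.norm haU'
  -- every element `v * h`, `v ∈ U'`, conjugates `x` to a commuting conjugate
  have hmate : ∀ v ∈ U', Commute x ((v * h) * x * (v * h)⁻¹) := by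
    intro v hv
    set g := v * h with hg
    set y := g * x * g⁻¹
    set K := Subgroup.closure ({x, y} : Set G)
    have hK : K ≠ ⊤ := fun e => s.two g (eq_top_iff.mpr (e ▸ (exists_conjugate_pair x g).2))
    have hxK : x ∈ K := subset_closure (Set.mem_insert _ _)
    have hyK : y ∈ K := subset_closure (Set.mem_insert_of_mem _ rfl)
    have hKle : K ≤ U' ⊔ T := by
      refine (closure_le _).mpr ?_
      intro b hb
      rcases hb with rfl | rfl
      · exact mem_sup_right (mem_sup_left (mem_zpowers b))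
      · have e : y = v * a * v⁻¹ := by simp [y, g, a, mul_assoc]
        rw [e]
        exact mul_mem (mul_mem (mem_sup_left hv) (mem_sup_right (mem_sup_right (mem_zpowers a))))
          (inv_mem (mem_sup_left hv))
    have hqU : ∀ R : Subgroup G, IsPGroup q R → R ≤ U' ⊔ T → R ≤ U' := by
      intro R hR hRle b hb
      obtain ⟨u, hu, t, ht, rfl⟩ := (Coprime.mem_sup_of_le_normalizer hTU).mp (hRle hb)
      obtain ⟨n, hn⟩ := hR ⟨u * t, hb⟩
      have hn' : (u * t) ^ q ^ n = 1 := congrArg Subtype.val hn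
      obtain ⟨u', hu', hpow⟩ : ∃ u' ∈ U', (u * t) ^ q ^ n = u' * t ^ q ^ n := by
        clear hn hn'
        generalize q ^ n = m
        induction m with
        | zero => exact ⟨1, one_mem _, by simp⟩
        | succ m ih =>
          obtain ⟨u', hu', e⟩ := ih
          refine ⟨u' * (t ^ m * u * (t ^ m)⁻¹), mul_mem hu'
            ((mem_normalizer_iff.mp (hTU (pow_mem ht m)) u).mp hu), ?_⟩
          rw [pow_succ, e, pow_succ]
          group
      have h1 : t ^ q ^ n = 1 := by
        have h2 : t ^ q ^ n ∈ U' := by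
          have : t ^ q ^ n = u'⁻¹ := eq_inv_of_mul_eq_one_right (hpow.symm.trans hn')
          rw [this]; exact inv_mem hu'
        exact mem_bot.mp ((IsPGroup.disjoint_of_ne q p hqp _ _ hU'.member.isP hT).le_bot
          ⟨h2, pow_mem ht _⟩)
      have ht1 : t = 1 := by
        obtain ⟨m, hm⟩ := IsPGroup.iff_orderOf.mp hT ⟨t, ht⟩
        rw [orderOf_mk] at hm
        have hd := orderOf_dvd_of_pow_eq_one h1
        rw [hm] at hd
        have hc : Nat.Coprime (p ^ m) (q ^ n) :=
          ((Nat.coprime_primes Fact.out Fact.out).mpr hqp.symm).pow _ _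
        exact orderOf_eq_one_iff.mp (hm.trans (hc.eq_one_of_dvd hd))
      rw [ht1, mul_one]
      exact hu
    have hQU : core q K ≤ U' := hqU _ (core_isPGroup q K) ((core_le q K).trans hKle)
    have hQ : core q K = ⊥ := by
      by_contra hQ0
      have hR0 : ∀ (b : G), b ∈ K → (∃ c, b = c * x * c⁻¹) → ecore b q K ≠ ⊥ := by
        rintro b hb ⟨c, rfl⟩ h0
        exact hnd (dvd_card_Cx c (core_isPGroup q K) hQ0
          (le_centralizer_iff.mp (Coprime.commutator_eq_bot_iff_le_centralizer'.mp h0)))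
      set L := Subgroup.closure ({x, g} : Set G)
      have hKL : K ≤ L := (exists_conjugate_pair x g).2
      have hgL : g ∈ L := subset_closure (Set.mem_insert_of_mem _ rfl)
      have hRy : Member y q (ecore y q K) := member_ecore (s.conj g).order hqp hyK
      have hm' := hRy.conj g⁻¹
      rw [show g⁻¹ * y * g⁻¹⁻¹ = x by simp [y, mul_assoc]] at hm'
      have he : MulAut.conj g⁻¹ • U' = U := by
        rw [hg, mul_inv_rev, Coprime.conj_smul_mul, Coprime.conj_smul_eq_self_iff.mpr
          (le_normalizer (inv_mem hv)), hU'def, ← Coprime.conj_smul_mul, inv_mul_cancel,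
          Coprime.conj_smul_one]
      refine hne (s.colour_eq_of_common hp hqp (s.two g) (hKL hxK) hU' hU
        (member_ecore s.order hqp hxK) (hR0 x hxK ⟨1, by simp⟩) ((ecore_le_core hxK).trans hQU)
        ((ecore_le hxK).trans hKL) hm' (fun h0 => hR0 y hyK ⟨g, rfl⟩ ?_) ?_ ?_)
      · rw [← Coprime.conj_inv_smul_smul g⁻¹ (ecore y q K), h0, Subgroup.smul_bot]
      · rw [← he]
        exact Subgroup.pointwise_smul_le_pointwise_smul_iff.mpr ((ecore_le_core hyK).trans hQU)
      · intro b hb
        rw [Coprime.mem_conj_smul] at hb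
        have := mul_mem (mul_mem (inv_mem hgL) (hKL (ecore_le hyK hb))) hgL
        simpa [mul_assoc] using this
    have hKU : K ⊓ U' = ⊥ := by
      refine le_bot_iff.mp ?_
      rw [← hQ]
      exact le_core_of_le_normalizer (hU'.member.isP.to_le inf_le_right) inf_le_left
        (le_normalizer_inf le_normalizer (hKle.trans (sup_le le_normalizer hTU)))
    have hKp : IsPGroup p K := by
      intro b
      obtain ⟨u, hu, t, ht, hb⟩ := (Coprime.mem_sup_of_le_normalizer hTU).mp (hKle b.2)
      obtain ⟨m, hm⟩ := hT ⟨t, ht⟩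
      refine ⟨m, Subtype.ext ?_⟩
      have hm' : t ^ p ^ m = 1 := congrArg Subtype.val hm
      obtain ⟨u', hu', e⟩ : ∃ u' ∈ U', (u * t) ^ p ^ m = u' * t ^ p ^ m := by
        clear hm hm'
        generalize p ^ m = k
        induction k with
        | zero => exact ⟨1, one_mem _, by simp⟩
        | succ k ih =>
          obtain ⟨u', hu', e⟩ := ih
          refine ⟨u' * (t ^ k * u * (t ^ k)⁻¹), mul_mem hu'
            ((mem_normalizer_iff.mp (hTU (pow_mem ht k)) u).mp hu), ?_⟩
          rw [pow_succ, e, pow_succ]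
          group
      show (b : G) ^ p ^ m = 1
      rw [hm', mul_one] at e
      have hbK : (b : G) ^ p ^ m ∈ K := pow_mem b.2 _
      rw [← hb] at hbK ⊢
      exact mem_bot.mp (hKU ▸ mem_inf.mpr ⟨hbK, e ▸ hu'⟩)
    exact mem_Cx.mp (s.central hp hKp hxK hyK)
  -- hence `U'` fixes every colour
  have hU'N : ∀ v ∈ U', Dx x v ≤ normalizer (U : Set G) := by
    intro v hv
    have h1 : Colour x q (MulAut.conj v • U) := by
      have hinv : Commute x (h⁻¹ * x * h⁻¹⁻¹) := by
        have := hh.symm.map (MulAut.conj h⁻¹).toMonoidHom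
        simpa [MulAut.conj_apply, mul_assoc, a] using this
      have := s.conj_colour_mate hp hqp (hmate v hv) (s.conj_colour_mate hp hqp hinv hU)
      rwa [← Coprime.conj_smul_mul, mul_inv_cancel_right] at this
    have h2 : ∀ i : ℕ, x ^ i ∈ normalizer ((MulAut.conj v • U : Subgroup G) : Set G) := fun i =>
      h1.member.norm (npow_mem_zpowers x i)
    refine (closure_le _).mpr ?_
    rintro _ ⟨i, rfl⟩
    refine mul_mem ?_ (inv_mem (hU.member.norm (npow_mem_zpowers x i)))
    have h3 := Coprime.conj_smul_eq_self_iff.mpr (h2 i)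
    rw [← Coprime.conj_smul_eq_self_iff, mul_assoc, Coprime.conj_smul_mul, Coprime.conj_smul_mul,
      h3, ← Coprime.conj_smul_mul, inv_mul_cancel, Coprime.conj_smul_one]
  have hle : U' ≤ normalizer (U : Set G) :=
    hU'.member.comm.ge.trans (LocalFlavell.CommutatorFixed.commutator_le_of_D hU'N)
  exact hne (s.colour_eq_of_common hp hqp (s.normalizer_ne_top_of_isPGroup hU.ne_bot hU.member.isP)
    (hU.member.norm (mem_zpowers x)) hU' hU hU'.member hU'.ne_bot le_rfl hle hU.member hU.ne_bot
    le_rfl le_normalizer)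

/-- A colour meets the stabilizer of all colours only in fixed points. -/
theorem inf_fixer_le (hp : p ≠ 2) (hqp : q ≠ p) {U : Subgroup G} (hU : Colour x q U)
    {H : Subgroup G} (hxH : zpowers x ≤ normalizer (H : Set G))
    (hH : ∀ r : ℕ, r.Prime → r ≠ p → ∀ V : Subgroup G, Colour x r V →
      H ≤ normalizer (V : Set G)) : U ⊓ H ≤ Cx x := by
  obtain ⟨hD, hDU, hDH⟩ := part_spec s.order hqp hU.member hxH
  by_cases hD0 : part x U H = ⊥
  · refine (inf_le_part_sup s.order hqp hU.member hxH).trans ?_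
    rw [hD0, bot_sup_eq]
    exact inf_le_right
  refine absurd ?_ (not_false : ¬ False)
  refine s.false_of_detached hp hqp hU hD hD0 hDU (fun r hr hrp V hV hne => ?_)
    (fun r hr hrp V hV _ h hh => ?_)
  · haveI := Fact.mk hr
    have hDN : part x U H ≤ normalizer (V : Set G) := hDH.trans (hH r hr hrp V hV)
    have hL := s.normalizer_ne_top_of_isPGroup hV.ne_bot hV.member.isP
    have hxL := hV.member.norm (mem_zpowers x)
    have hqr : q ≠ r := by
      rintro rfl
      exact hne (s.colour_eq_of_common hp hqp hL hxL hV hU hV.member hV.ne_bot le_rfl le_normalizer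
        hD hD0 hDU hDN)
    exact s.commute hqp hrp hqr hL hxL hD hDN hV.member le_normalizer
  · haveI := Fact.mk hr
    exact s.mate_fix hp hrp hh hV

end Setting

end Cfsg.Agent.SecondFitting
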