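import Cfsg.Agent.Lib.SecondFitting.Free

/-!
Primes with several colours.
-/

set_option autoImplicit false
set_option linter.style.haveILetI false
set_option linter.unusedSectionVars false

namespace Cfsg.Agent.SecondFitting

open Subgroup
open scoped Pointwise commutatorElement

universe u

variable {G : Type u} [Group G] [Finite G] {p q r : ℕ} [Fact p.Prime] [Fact q.Prime] [Fact r.Prime]
  {x : G}

/-- The stabilizer of all colours. -/
def fixer (p : ℕ) (x : G) : Subgroup G :=
  ⨅ V : {V : Subgroup G // ∃ r : ℕ, r.Prime ∧ r ≠ p ∧ Colour x r V},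
    normalizer ((V : Subgroup G) : Set G)

theorem fixer_le {V : Subgroup G} (hrp : r ≠ p) (hV : Colour x r V) :
    fixer p x ≤ normalizer (V : Set G) := iInf_le_of_le ⟨V, r, Fact.out, hrp, hV⟩ le_rfl

/-- A prime with at least two colours. -/
structure Good (p : ℕ) (x : G) (q : ℕ) : Prop where
  prime : q.Prime
  ne : q ≠ p
  two : ∃ U U' : Subgroup G, Colour x q U ∧ Colour x q U' ∧ U ≠ U'

/-- The normalizers of the colours of good primes. -/
def goodNorms (p : ℕ) (x : G) : Set (Subgroup G) :=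
  {N | ∃ (q : ℕ) (U : Subgroup G), Good p x q ∧ Colour x q U ∧ N = normalizer (U : Set G)}

theorem le_normalizer_iSup {ι : Sort*} {A : Subgroup G} (S : ι → Subgroup G)
    (h : ∀ i, A ≤ normalizer (S i : Set G)) :
    A ≤ normalizer ((⨆ i, S i : Subgroup G) : Set G) := by
  intro a ha
  rw [← Coprime.conj_smul_eq_self_iff, Coprime.conj_smul_eq_map, Subgroup.map_iSup]
  exact iSup_congr fun i => (Coprime.conj_smul_eq_map a (S i)).symm.trans
    (Coprime.conj_smul_eq_self_iff.mpr (h i ha))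

namespace Setting

variable (s : Setting p x)
include s

theorem Cx_le_fixer (hp : p ≠ 2) : Cx x ≤ fixer p x := le_iInf fun V => by
  obtain ⟨r, hr, hrp, hV⟩ := V.2
  haveI := Fact.mk hr
  exact s.Cx_le_colour hp hrp hV

theorem mate_mem_fixer (hp : p ≠ 2) {h : G} (hh : Commute x (h * x * h⁻¹)) : h ∈ fixer p x :=
  mem_iInf.mpr fun V => by
    obtain ⟨r, hr, hrp, hV⟩ := V.2
    haveI := Fact.mk hr
    exact s.mate_fix hp hrp hh hV

/-- The product of the moved parts of the cores of `K`. -/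
theorem decompose_parts (hp : p ≠ 2) (g : G) : ∃ K : Subgroup G, K ≠ ⊤ ∧ x ∈ K ∧ g * x * g⁻¹ ∈ K ∧
    K = Subgroup.closure ({x, g * x * g⁻¹} : Set G) ∧
    ∃ e ∈ ⨆ l : {l : ℕ // l.Prime ∧ l ≠ p}, ecore x (l : ℕ) K,
      ∃ h ∈ fixer p x, g = e * h := by
  obtain ⟨K, hK, hxK, hyK, hKc, f, hf, h, hh, hg⟩ := s.decompose hp g
  refine ⟨K, hK, hxK, hyK, hKc, ?_⟩
  set E := ⨆ l : {l : ℕ // l.Prime ∧ l ≠ p}, ecore x (l : ℕ) K
  have hf' : f ∈ ⨆ l : {l : ℕ // l.Prime ∧ l ≠ p}, core (l : ℕ) K := by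
    rw [primeCores, Subgroup.map_iSup] at hf
    exact hf
  have hn : K ⊓ Cx x ≤ normalizer (E : Set G) := le_normalizer_iSup _ fun l => by
    haveI := Fact.mk l.2.1
    exact le_normalizer_commutator (inf_le_left.trans (le_normalizer_core _ K))
      (inf_le_right.trans (Cx_le_normalizer_zpowers x))
  have hle : (⨆ l : {l : ℕ // l.Prime ∧ l ≠ p}, core (l : ℕ) K) ≤ E ⊔ (K ⊓ Cx x) :=
    iSup_le fun l => by
      haveI := Fact.mk l.2.1
      refine (Coprime.commutator_sup_inf_centralizer
        ((zpowers_le.mpr hxK).trans (le_normalizer_core _ K))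
        (coprime_card s.order l.2.2 (core_isPGroup _ K))
        (Or.inl (LocalFlavell.CommutatorFixed.solvable_zpowers x))).ge.trans (sup_le_sup ?_ ?_)
      · exact le_iSup (fun l : {l : ℕ // l.Prime ∧ l ≠ p} => ecore x (l : ℕ) K) l
      · exact inf_le_inf_right _ (core_le _ K)
  obtain ⟨e, he, c, hc, rfl⟩ := (Coprime.mem_sup_of_le_normalizer hn).mp (hle hf')
  exact ⟨e, he, c * h, mul_mem (s.Cx_le_fixer hp hc.2) (s.mate_mem_fixer hp hh),
    by rw [hg, mul_assoc]⟩

theorem not_dvd_of_good (hp : p ≠ 2) (hq : Good p x q) : ¬ q ∣ Nat.card (Cx x) := fun hd => by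
  obtain ⟨U, U', hU, hU', hne⟩ := hq.two
  exact hne (s.colour_unique hp hq.ne hd hU hU')

theorem inf_Cx_eq_bot (hp : p ≠ 2) (hq : Good p x q) {R : Subgroup G} (hR : IsPGroup q R) :
    R ⊓ Cx x = ⊥ := by
  by_contra h0
  exact s.not_dvd_of_good hp hq ((dvd_card_of_ne_bot (hR.to_le inf_le_left) h0).trans
    (card_dvd_of_le inf_le_right))

theorem member_of_le (hp : p ≠ 2) (hq : Good p x q) {R : Subgroup G} (hR : IsPGroup q R)
    (hx : zpowers x ≤ normalizer (R : Set G)) : Member x q R := by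
  refine ⟨hR, hx, ?_⟩
  have h := Coprime.commutator_sup_inf_centralizer hx (coprime_card s.order hq.ne hR)
    (Or.inl (LocalFlavell.CommutatorFixed.solvable_zpowers x))
  rwa [s.inf_Cx_eq_bot hp hq hR, sup_bot_eq] at h

theorem inf_fixer_eq_bot (hp : p ≠ 2) (hq : Good p x q) {U : Subgroup G} (hU : Colour x q U) :
    U ⊓ fixer p x = ⊥ := by
  refine le_bot_iff.mp ((le_inf inf_le_left (s.inf_fixer_le hp hq.ne hU ?_ ?_)).trans
    (s.inf_Cx_eq_bot hp hq hU.member.isP).le)
  · exact SecondFitting.zpowers_le_normalizer (s.Cx_le_fixer hp (mem_Cx.mpr rfl))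
  · intro r hr hrp V hV
    haveI := Fact.mk hr
    exact fixer_le hrp hV

/-- A member of another prime centralising part of a good colour centralises it. -/
theorem commute_of_part (hp : p ≠ 2) (hq : Good p x q) (hrp : r ≠ p) (hqr : q ≠ r)
    {U D : Subgroup G} (hU : Colour x q U) (hD : Member x r D)
    (h0 : U ⊓ Subgroup.centralizer (D : Set G) ≠ ⊥) : D ≤ Subgroup.centralizer (U : Set G) := by
  set R₀ := U ⊓ Subgroup.centralizer (D : Set G)
  have hxR : zpowers x ≤ normalizer (R₀ : Set G) :=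
    le_normalizer_inf hU.member.norm (le_normalizer_centralizer hD.norm)
  have hm := s.member_of_le hp hq (R := U ⊓ normalizer (R₀ : Set G))
    (hU.member.isP.to_le inf_le_left) (le_normalizer_inf hU.member.norm (hxR.trans le_normalizer))
  have h1 : R₀ = U := eq_of_normalizer_inf_le hU.member.isP.isNilpotent inf_le_left
    (le_inf inf_le_left (s.commute hq.ne hrp hqr
      (s.normalizer_ne_top_of_isPGroup h0 (hU.member.isP.to_le inf_le_left))
      (hxR (mem_zpowers x)) hm inf_le_right hD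
      ((le_centralizer_iff.mp inf_le_right).trans (centralizer_le_normalizer _))))
  exact le_centralizer_iff.mp (h1 ▸ inf_le_right)

/-- Elements carrying `x` into the normalizer of a colour lie in that normalizer. -/
theorem fix_point (hp : p ≠ 2) (hqp : q ≠ p) {U : Subgroup G} (hU : Colour x q U) {g : G}
    (hg : g * x * g⁻¹ ∈ normalizer (U : Set G)) : g ∈ normalizer (U : Set G) := by
  obtain ⟨K, hK, hxK, hyK, hKc, e, he, h, hh, rfl⟩ := s.decompose_parts hp g
  have hKN : K ≤ normalizer (U : Set G) := hKc ▸ (closure_le _).mpr (by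
    intro a ha
    rcases ha with rfl | rfl
    · exact hU.member.norm (mem_zpowers a)
    · exact hg)
  exact mul_mem ((iSup_le fun l => haveI := Fact.mk l.2.1; (ecore_le hxK).trans hKN :
    (⨆ l : {l : ℕ // l.Prime ∧ l ≠ p}, ecore x (l : ℕ) K) ≤ _) he) (fixer_le hqp hU hh)

theorem normalizer_le_normalizer (hp : p ≠ 2) (hqp : q ≠ p) (hrp : r ≠ p) {U V : Subgroup G}
    (hU : Colour x q U) (hV : Colour x r V) (hVU : V ≤ normalizer (U : Set G)) :
    normalizer (U : Set G) ≤ normalizer (V : Set G) := by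
  intro g hg
  obtain ⟨K, hK, hxK, hyK, hKc, e, he, h, hh, rfl⟩ := s.decompose_parts hp g
  set L := normalizer (U : Set G)
  have hxL : x ∈ L := hU.member.norm (mem_zpowers x)
  have hKN : K ≤ L := hKc ▸ (closure_le _).mpr (by
    intro a ha
    rcases ha with rfl | rfl
    · exact hxL
    · exact mul_mem (mul_mem hg hxL) (inv_mem hg))
  have hL : L ≠ ⊤ := s.normalizer_ne_top_of_isPGroup hU.ne_bot hU.member.isP
  have hUV : U ≤ normalizer (V : Set G) := by
    by_cases hqr : q = r
    · subst hqr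
      rw [s.colour_eq_of_common hp hqp hL hxL hU hV hU.member hU.ne_bot le_rfl le_normalizer
        hV.member hV.ne_bot le_rfl hVU]
      exact le_normalizer
    exact (s.commute hqp hrp hqr hL hxL hU.member le_normalizer hV.member hVU).trans
      (centralizer_le_normalizer _)
  refine mul_mem ((iSup_le fun l => ?_ :
    (⨆ l : {l : ℕ // l.Prime ∧ l ≠ p}, ecore x (l : ℕ) K) ≤ _) he) (fixer_le hrp hV hh)
  obtain ⟨l, hl, hlp⟩ := l
  haveI := Fact.mk hl
  have hR : Member x l (ecore x l K) := member_ecore s.order hlp hxK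
  have hRL : ecore x l K ≤ L := (ecore_le hxK).trans hKN
  by_cases h0 : ecore x l K = ⊥
  · exact h0.le.trans bot_le
  obtain ⟨W, hW, hRW⟩ := exists_colour hR h0
  by_cases hlr : l = r
  · subst hlr
    rw [s.colour_eq_of_common hp hlp hL hxL hW hV hR h0 hRW hRL hV.member hV.ne_bot le_rfl hVU]
      at hRW
    exact hRW.trans le_normalizer
  exact (s.commute hlp hrp hlr hL hxL hR hRL hV.member hVU).trans (centralizer_le_normalizer _)

/-- Colours normalising one another have the same normalizer. -/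
theorem normalizer_eq (hp : p ≠ 2) (hqp : q ≠ p) (hrp : r ≠ p) {U V : Subgroup G}
    (hU : Colour x q U) (hV : Colour x r V) (hVU : V ≤ normalizer (U : Set G)) :
    normalizer (U : Set G) = normalizer (V : Set G) :=
  le_antisymm (s.normalizer_le_normalizer hp hqp hrp hU hV hVU)
    (s.normalizer_le_normalizer hp hrp hqp hV hU
      (le_normalizer.trans (s.normalizer_le_normalizer hp hqp hrp hU hV hVU)))

/-- The normalizer of an invariant part of a good colour fixes the colour. -/
theorem normalizer_part_le (hp : p ≠ 2) (hq : Good p x q) {U J : Subgroup G} (hU : Colour x q U)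
    (hJU : J ≤ U) (hJ0 : J ≠ ⊥) (hxJ : zpowers x ≤ normalizer (J : Set G)) :
    normalizer (J : Set G) ≤ normalizer (U : Set G) := by
  intro g hg
  obtain ⟨K, hK, hxK, hyK, hKc, e, he, h, hh, rfl⟩ := s.decompose_parts hp g
  set L := normalizer (J : Set G)
  have hJ := s.member_of_le hp hq (hU.member.isP.to_le hJU) hxJ
  have hxL : x ∈ L := hxJ (mem_zpowers x)
  have hKN : K ≤ L := hKc ▸ (closure_le _).mpr (by
    intro a ha
    rcases ha with rfl | rfl
    · exact hxL
    · exact mul_mem (mul_mem hg hxL) (inv_mem hg))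
  have hL : L ≠ ⊤ := s.normalizer_ne_top_of_isPGroup hJ0 hJ.isP
  refine mul_mem ((iSup_le fun l => ?_ :
    (⨆ l : {l : ℕ // l.Prime ∧ l ≠ p}, ecore x (l : ℕ) K) ≤ _) he) (fixer_le hq.ne hU hh)
  obtain ⟨l, hl, hlp⟩ := l
  haveI := Fact.mk hl
  have hR : Member x l (ecore x l K) := member_ecore s.order hlp hxK
  have hRL : ecore x l K ≤ L := (ecore_le hxK).trans hKN
  by_cases h0 : ecore x l K = ⊥
  · exact h0.le.trans bot_le
  obtain ⟨W, hW, hRW⟩ := exists_colour hR h0
  by_cases hlq : l = q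
  · subst hlq
    rw [s.colour_eq_of_common hp hlp hL hxL hW hU hR h0 hRW hRL hJ hJ0 hJU le_normalizer] at hRW
    exact hRW.trans le_normalizer
  refine (s.commute_of_part hp hq hlp (Ne.symm hlq) hU hR fun h1 => hJ0 ?_).trans
    (centralizer_le_normalizer _)
  exact le_bot_iff.mp (h1 ▸ le_inf hJU
    (s.commute hq.ne hlp (Ne.symm hlq) hL hxL hJ le_normalizer hR hRL))

/-- Two good colours with parts in one proper subgroup have the same normalizer. -/
theorem normalizer_eq_of_common (hp : p ≠ 2) (hq : Good p x q) (hr : Good p x r) {U V : Subgroup G}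
    (hU : Colour x q U) (hV : Colour x r V) {L : Subgroup G} (hL : L ≠ ⊤) (hxL : x ∈ L)
    (hUL : U ⊓ L ≠ ⊥) (hVL : V ⊓ L ≠ ⊥) :
    normalizer (U : Set G) = normalizer (V : Set G) := by
  have hxn : zpowers x ≤ normalizer (L : Set G) := SecondFitting.zpowers_le_normalizer hxL
  have hU₀ := s.member_of_le hp hq (hU.member.isP.to_le (inf_le_left : U ⊓ L ≤ U))
    (le_normalizer_inf hU.member.norm hxn)
  have hV₀ := s.member_of_le hp hr (hV.member.isP.to_le (inf_le_left : V ⊓ L ≤ V))
    (le_normalizer_inf hV.member.norm hxn)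
  by_cases hqr : q = r
  · subst hqr
    rw [s.colour_eq_of_common hp hq.ne hL hxL hU hV hU₀ hUL inf_le_left inf_le_right hV₀ hVL
      inf_le_left inf_le_right]
  have h1 := s.commute hq.ne hr.ne hqr hL hxL hU₀ inf_le_right hV₀ inf_le_right
  have h2 := s.commute_of_part hp hq hr.ne hqr hU hV₀
    (fun h => hUL (le_bot_iff.mp (h ▸ le_inf inf_le_left h1)))
  have h3 := s.commute_of_part hp hr hq.ne (Ne.symm hqr) hV hU.member
    (fun h => hVL (le_bot_iff.mp (h ▸ le_inf inf_le_left h2)))
  exact s.normalizer_eq hp hq.ne hr.ne hU hV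
    ((le_centralizer_iff.mp h3).trans (centralizer_le_normalizer _))

/-- Distinct normalizers of good colours meet in the stabilizer of all colours. -/
theorem inter_le_fixer (hp : p ≠ 2) (hq : Good p x q) (hr : Good p x r) {U V : Subgroup G}
    (hU : Colour x q U) (hV : Colour x r V)
    (hne : normalizer (U : Set G) ≠ normalizer (V : Set G)) :
    normalizer (U : Set G) ⊓ normalizer (V : Set G) ≤ fixer p x := by
  rintro g ⟨hgU, hgV⟩
  obtain ⟨K, hK, hxK, hyK, hKc, e, he, h, hh, rfl⟩ := s.decompose_parts hp g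
  have hKN : ∀ M : Subgroup G, x ∈ M → e * h ∈ M → K ≤ M := fun M hxM hgM =>
    hKc ▸ (closure_le _).mpr (by
      intro a ha
      rcases ha with rfl | rfl
      · exact hxM
      · exact mul_mem (mul_mem hgM hxM) (inv_mem hgM))
  have hxU := hU.member.norm (mem_zpowers x)
  have hxV := hV.member.norm (mem_zpowers x)
  have hLU := s.normalizer_ne_top_of_isPGroup hU.ne_bot hU.member.isP
  have hLV := s.normalizer_ne_top_of_isPGroup hV.ne_bot hV.member.isP
  refine mul_mem ((iSup_le fun l => ?_ :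
    (⨆ l : {l : ℕ // l.Prime ∧ l ≠ p}, ecore x (l : ℕ) K) ≤ _) he) hh
  obtain ⟨l, hl, hlp⟩ := l
  haveI := Fact.mk hl
  have hR : Member x l (ecore x l K) := member_ecore s.order hlp hxK
  by_cases h0 : ecore x l K = ⊥
  · exact h0.le.trans bot_le
  obtain ⟨W, hW, hRW⟩ := exists_colour hR h0
  have hRU : ecore x l K ≤ normalizer (U : Set G) := (ecore_le hxK).trans (hKN _ hxU hgU)
  have hRV : ecore x l K ≤ normalizer (V : Set G) := (ecore_le hxK).trans (hKN _ hxV hgV)
  refine absurd ?_ hne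
  by_cases hlq : l = q
  · subst hlq
    have e := s.colour_eq_of_common hp hlp hLU hxU hW hU hR h0 hRW hRU hU.member hU.ne_bot le_rfl
      le_normalizer
    subst e
    by_cases hlr : l = r
    · subst hlr
      rw [s.colour_eq_of_common hp hlp hLV hxV hW hV hR h0 hRW hRV hV.member hV.ne_bot le_rfl
        le_normalizer]
    refine s.normalizer_eq_of_common hp hq hr hW hV hLV hxV
      (fun h1 => h0 (le_bot_iff.mp (h1 ▸ le_inf hRW hRV))) ?_
    rw [inf_eq_left.mpr le_normalizer]
    exact hV.ne_bot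
  by_cases hlr : l = r
  · subst hlr
    have e := s.colour_eq_of_common hp hlp hLV hxV hW hV hR h0 hRW hRV hV.member hV.ne_bot le_rfl
      le_normalizer
    subst e
    refine s.normalizer_eq_of_common hp hq hr hU hW hLU hxU ?_
      (fun h1 => h0 (le_bot_iff.mp (h1 ▸ le_inf hRW hRU)))
    rw [inf_eq_left.mpr le_normalizer]
    exact hU.ne_bot
  have h1 := s.commute hlp hq.ne hlq hLU hxU hR hRU hU.member le_normalizer
  have h2 := s.commute hlp hr.ne hlr hLV hxV hR hRV hV.member le_normalizer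
  refine s.normalizer_eq_of_common hp hq hr hU hV (s.normalizer_ne_top_of_isPGroup h0 hR.isP)
    (hR.norm (mem_zpowers x)) ?_ ?_
  · rw [inf_eq_left.mpr ((le_centralizer_iff.mp h1).trans (centralizer_le_normalizer _))]
    exact hU.ne_bot
  · rw [inf_eq_left.mpr ((le_centralizer_iff.mp h2).trans (centralizer_le_normalizer _))]
    exact hV.ne_bot

/-- With a second commuting conjugate there are fewer than `p` normalizers of good colours. -/
theorem card_goodNorms_of_commuting (hp : p ≠ 2) {g₀ : G} (hc : Commute x (g₀ * x * g₀⁻¹))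
    (hX : g₀ * x * g₀⁻¹ ∉ zpowers x) : Nat.card (goodNorms p x) ≤ p - 1 := by
  have hpp : p.Prime := Fact.out
  set y := g₀ * x * g₀⁻¹
  have hyp : y ^ p = 1 := (s.conj g₀).order ▸ pow_orderOf_eq_one y
  have hxp : x ^ p = 1 := s.order ▸ pow_orderOf_eq_one x
  set A := zpowers x ⊔ zpowers y
  have hyn : zpowers y ≤ normalizer (zpowers x : Set G) :=
    (zpowers_le.mpr (mem_Cx.mpr hc)).trans (Cx_le_normalizer_zpowers x)
  have hel : ∀ a ∈ A, ∃ i j : ℕ, a = x ^ i * y ^ j := by
    intro a ha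
    obtain ⟨u, hu, v, hv, rfl⟩ := (Coprime.mem_sup_of_le_normalizer hyn).mp ha
    obtain ⟨i, rfl⟩ := (isOfFinOrder_of_finite x).mem_powers_iff_mem_zpowers.mpr hu
    obtain ⟨j, rfl⟩ := (isOfFinOrder_of_finite y).mem_powers_iff_mem_zpowers.mpr hv
    exact ⟨i, j, rfl⟩
  have hA : Elem p A := by
    refine ⟨fun a ha => mem_centralizer_iff.mpr fun b hb => ?_, fun a ha => ?_⟩
    · obtain ⟨i, j, rfl⟩ := hel a ha
      obtain ⟨k, l, rfl⟩ := hel b hb
      exact ((((Commute.refl x).pow_pow k i).mul_left (hc.symm.pow_pow l i)).mul_right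
        ((hc.pow_pow k j).mul_left ((Commute.refl y).pow_pow l j))).eq
    · obtain ⟨i, j, rfl⟩ := hel a ha
      rw [(hc.pow_pow i j).mul_pow, ← pow_mul, ← pow_mul, mul_comm i, mul_comm j, pow_mul,
        pow_mul, hxp, hyp, one_pow, one_pow, one_mul]
  haveI : IsMulCommutative A :=
    ⟨⟨fun u v => Subtype.ext (mem_centralizer_iff.mp (hA.comm v.2) u u.2)⟩⟩
  have hxA : x ∈ A := mem_sup_left (mem_zpowers x)
  have hyA : y ∈ A := mem_sup_right (mem_zpowers y)
  have hline : ∀ k : ℕ, x * y ^ k ≠ 1 := by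
    intro k e
    by_cases hk : p ∣ k
    · obtain ⟨m, rfl⟩ := hk
      rw [pow_mul, hyp, one_pow, mul_one] at e
      exact s.ne_one e
    · obtain ⟨m, hm⟩ := exists_pow_eq_self_of_coprime (x := y) (n := k)
        (by rw [(s.conj g₀).order]; exact (hpp.coprime_iff_not_dvd.mpr hk).symm)
      refine hX (hm ▸ pow_mem ?_ m)
      rw [show y ^ k = x⁻¹ from eq_inv_of_mul_eq_one_right e]
      exact inv_mem (mem_zpowers x)
  have hex : ∀ N : goodNorms p x, ∃ i : Fin (p - 1), ∃ (q : ℕ) (U : Subgroup G), Good p x q ∧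
      Colour x q U ∧ (N : Subgroup G) = normalizer (U : Set G) ∧
      U ⊓ Cx (x * y ^ ((i : ℕ) + 1)) ≠ ⊥ := by
    rintro ⟨N, q, U, hq, hU, rfl⟩
    haveI := Fact.mk hq.prime
    have hAnc : ¬ IsCyclic A := hA.noncyclic_line hxA s.ne_one hyA hX
    have hAU : A ≤ normalizer (U : Set G) := (hA.le_Cx hxA).trans (s.Cx_le_colour hp hq.ne hU)
    obtain ⟨a, haA, ha1, ha⟩ : ∃ a ∈ A, a ≠ 1 ∧ U ⊓ Cx a ≠ ⊥ := by
      by_contra hcon
      push Not at hcon
      refine hU.ne_bot (le_bot_iff.mp ?_)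
      conv_lhs => rw [← Coprime.fixedGen_eq hAnc hAU (hA.card_coprime hq.ne hU.member.isP)]
      refine iSup₂_le fun a ⟨haA, ha1⟩ => ?_
      rw [← Cx_le_centralizer_singleton]
      exact (hcon a haA ha1).le
    obtain ⟨i, j, rfl⟩ := hel a haA
    have hfree : U ⊓ Cx y = ⊥ := le_bot_iff.mp ((le_inf inf_le_left
      (s.omega_free hp hq.ne hU hc)).trans (s.inf_Cx_eq_bot hp hq hU.member.isP).le)
    have hi : ¬ p ∣ i := by
      rintro ⟨k, rfl⟩
      rw [pow_mul, hxp, one_pow, one_mul] at ha1 ha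
      have e : zpowers (y ^ j) = zpowers y := eq_of_le_of_card_ge
        (zpowers_le.mpr (pow_mem (mem_zpowers y) j))
        (by rw [Nat.card_zpowers, Nat.card_zpowers, (s.conj g₀).order, orderOf_eq_prime
          (by rw [← pow_mul, mul_comm, pow_mul, hyp, one_pow]) ha1])
      exact ha (by unfold Cx; rw [e]; exact hfree)
    obtain ⟨k, hk⟩ := exists_pow_eq_self_of_coprime (x := x) (n := i)
      (by rw [s.order]; exact (hpp.coprime_iff_not_dvd.mpr hi).symm)
    have hd : x * y ^ (j * k) = (x ^ i * y ^ j) ^ k := by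
      rw [(hc.pow_pow i j).mul_pow, hk, ← pow_mul]
    have e : zpowers (x ^ i * y ^ j) = zpowers (x * y ^ (j * k)) := (eq_of_le_of_card_ge
      (zpowers_le.mpr (hd ▸ pow_mem (mem_zpowers _) k))
      (by rw [Nat.card_zpowers, Nat.card_zpowers, orderOf_eq_prime (hA.exp _ haA) ha1,
        orderOf_eq_prime (hA.exp _ (mul_mem hxA (pow_mem hyA _))) (hline _)])).symm
    have hmod : y ^ (j * k) = y ^ (j * k % p) := by
      rw [← (s.conj g₀).order, pow_mod_orderOf]
    have hm0 : j * k % p ≠ 0 := by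
      intro h0
      rw [h0, pow_zero] at hmod
      rw [hmod, mul_one] at e
      exact ha (by unfold Cx; rw [e]; exact s.inf_Cx_eq_bot hp hq hU.member.isP)
    have hlt := Nat.mod_lt (j * k) hpp.pos
    refine ⟨⟨j * k % p - 1, by omega⟩, q, U, hq, hU, rfl, ?_⟩
    rw [show j * k % p - 1 + 1 = j * k % p by omega, ← hmod]
    unfold Cx at ha ⊢
    rwa [← e]
  choose f hf using hex
  have hinj : Function.Injective f := by
    intro N N' hNN
    obtain ⟨q, U, hq, hU, hN, h1⟩ := hf N
    obtain ⟨r, V, hr, hV, hN', h2⟩ := hf N'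
    haveI := Fact.mk hq.prime
    haveI := Fact.mk hr.prime
    rw [hNN] at h1
    refine Subtype.ext ?_
    rw [hN, hN']
    exact s.normalizer_eq_of_common hp hq hr hU hV (s.Cx_ne_top' (hline _))
      (hA.le_Cx (mul_mem hxA (pow_mem hyA _)) hxA) h1 h2
  simpa using Nat.card_le_card_of_injective f hinj

end Setting

end Cfsg.Agent.SecondFitting
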