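import Cfsg.Agent.Lib.SecondFitting.Basic
import Cfsg.Agent.Lib.Coprime.Commutator
import Cfsg.Agent.Lib.Coprime.PGroup
import Cfsg.Agent.Lib.Components.Fitting
import Cfsg.Agent.LocalFlavell.CommutatorFixed

/-!
The setting of a minimal counterexample, and invariant `q`-subgroups generated by commutators.
-/

set_option autoImplicit false
set_option linter.style.haveILetI false
set_option linter.unusedSectionVars false

namespace Cfsg.Agent.SecondFitting

open Subgroup
open scoped Pointwise commutatorElement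

universe u

variable {G : Type u} [Group G] {p q : ℕ}

/-- The centralizer of an element. -/
abbrev Cx (x : G) : Subgroup G := Subgroup.centralizer (zpowers x : Set G)

/-- The `q`-core of a subgroup. -/
abbrev core (q : ℕ) (L : Subgroup G) : Subgroup G := (Cfsg.pCore q ↥L).map L.subtype

/-- The part of the `q`-core moved by `x`. -/
abbrev ecore (x : G) (q : ℕ) (L : Subgroup G) : Subgroup G := ⁅core q L, zpowers x⁆

abbrev Dx (x h : G) : Subgroup G := LocalFlavell.CommutatorFixed.D x h

theorem mem_Cx {x g : G} : g ∈ Cx x ↔ x * g = g * x := LocalFlavell.CommutatorFixed.mem_cent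

theorem mem_Cx' {x g : G} : g ∈ Cx x ↔ g * x * g⁻¹ = x := by
  rw [mem_Cx, mul_inv_eq_iff_eq_mul]; exact eq_comm

theorem Cx_le_normalizer_zpowers (x : G) : Cx x ≤ normalizer (zpowers x : Set G) :=
  centralizer_le_normalizer _

theorem Cx_le_centralizer_singleton (x : G) : Cx x = Subgroup.centralizer ({x} : Set G) := by
  ext g
  rw [mem_Cx, mem_centralizer_singleton_iff]
  exact eq_comm

/-- Facts about a minimal counterexample. -/
structure Setting (p : ℕ) (x : G) : Prop where
  order : orderOf x = p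
  fit : Cfsg.fittingSubgroup G = ⊥
  gen : Subgroup.normalClosure {x} = ⊤
  loc : ∀ (g : G) (L : Subgroup G), L ≠ ⊤ → g * x * g⁻¹ ∈ L → InF2 L (g * x * g⁻¹)
  two : ∀ g : G, Subgroup.closure ({x, g} : Set G) ≠ ⊤

/-- An `x`-invariant `q`-subgroup equal to its commutator with `x`. -/
structure Member (x : G) (q : ℕ) (R : Subgroup G) : Prop where
  isP : IsPGroup q R
  norm : zpowers x ≤ normalizer (R : Set G)
  comm : ⁅R, zpowers x⁆ = R

/-- A maximal nontrivial member normalised by `A`. -/
structure AColour (x : G) (A : Subgroup G) (q : ℕ) (W : Subgroup G) : Prop where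
  member : Member x q W
  inv : A ≤ normalizer (W : Set G)
  ne_bot : W ≠ ⊥
  max : ∀ R : Subgroup G, Member x q R → A ≤ normalizer (R : Set G) → W ≤ R → R = W

/-- A maximal nontrivial member. -/
abbrev Colour (x : G) (q : ℕ) (W : Subgroup G) : Prop := AColour x (zpowers x) q W

theorem Setting.conj {x : G} (s : Setting p x) (g₀ : G) : Setting p (g₀ * x * g₀⁻¹) where
  order := by rw [← MulAut.conj_apply, MulEquiv.orderOf_eq]; exact s.order
  fit := s.fit
  gen := by
    refine eq_top_iff.mpr (s.gen ▸ normalClosure_le_normal (Set.singleton_subset_iff.mpr ?_))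
    have := Subgroup.normalClosure_normal.conj_mem _
      (subset_normalClosure (Set.mem_singleton (g₀ * x * g₀⁻¹))) g₀⁻¹
    simpa [mul_assoc] using this
  loc := fun g L hL hxL => by
    have e : g * (g₀ * x * g₀⁻¹) * g⁻¹ = g * g₀ * x * (g * g₀)⁻¹ := by group
    rw [e] at hxL ⊢
    exact s.loc _ L hL hxL
  two := fun g hg => by
    refine s.two (g₀⁻¹ * g * g₀) ?_
    have h2 := congrArg (Subgroup.map (MulAut.conj g₀⁻¹).toMonoidHom) hg
    rw [MonoidHom.map_closure, Subgroup.map_top_of_surjective _ (MulAut.conj g₀⁻¹).surjective,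
      Set.image_insert_eq, Set.image_singleton] at h2
    simpa [mul_assoc] using h2

variable [Finite G] [Fact p.Prime]

namespace Setting

variable {x : G} (s : Setting p x)

include s

theorem ne_one : x ≠ 1 := fun h =>
  (Fact.out : p.Prime).ne_one (by rw [← s.order, h, orderOf_one])

theorem isP : IsPGroup p (zpowers x) :=
  isPGroup_zpowers (a := 1) (by rw [pow_one, s.order])

theorem loc' {L : Subgroup G} (hL : L ≠ ⊤) (hx : x ∈ L) : InF2 L x := by
  simpa using s.loc 1 L hL (by simpa using hx)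

theorem center_eq_bot : Subgroup.center G = ⊥ :=
  le_bot_iff.mp (s.fit ▸ Cores.le_fittingSubgroup (Components.Fitting.isNilpotent_of_isMulCommutative _))

theorem normalizer_ne_top {R : Subgroup G} (hR : R ≠ ⊥) (hn : Group.IsNilpotent R) :
    normalizer (R : Set G) ≠ ⊤ := fun h => hR (by
  haveI := normalizer_eq_top_iff.mp h
  exact le_bot_iff.mp (s.fit ▸ Cores.le_fittingSubgroup hn))

theorem normalizer_ne_top_of_isPGroup {q : ℕ} [Fact q.Prime] {R : Subgroup G} (hR : R ≠ ⊥)
    (hq : IsPGroup q R) : normalizer (R : Set G) ≠ ⊤ :=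
  s.normalizer_ne_top hR hq.isNilpotent

theorem centralizer_ne_top {h : G} (hh : h ≠ 1) : Subgroup.centralizer ({h} : Set G) ≠ ⊤ := by
  intro e
  refine hh (mem_bot.mp (s.center_eq_bot ▸ mem_center_iff.mpr fun g => ?_))
  exact mem_centralizer_singleton_iff.mp (e ▸ mem_top g)

/-- A proper normal subgroup that does not supplement `⟨x⟩` is trivial. -/
theorem eq_bot_of_normal (N : Subgroup G) [hN : N.Normal] (hL : N ⊔ zpowers x ≠ ⊤) : N = ⊥ := by
  set L := N ⊔ zpowers x with hLdef
  obtain ⟨hxL, hx2⟩ := s.loc' hL (mem_sup_right (mem_zpowers x))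
  have hFN : (Cfsg.fittingSubgroup L).map L.subtype ⊓ N = ⊥ := by
    set J := (Cfsg.fittingSubgroup L).map L.subtype ⊓ N
    have hJn : Group.IsNilpotent J :=
      Cores.isNilpotent_to_le inf_le_left (Cores.isNilpotent_map _ _ Cores.fittingSubgroup_isNilpotent)
    haveI : (J.subgroupOf N).Normal := by
      refine (normal_subgroupOf_iff_le_normalizer inf_le_right).mpr ?_
      refine le_trans (le_inf (le_trans (le_sup_left : N ≤ L) ?_) le_normalizer)
        inf_normalizer_le_normalizer_inf
      refine le_trans ?_ (le_normalizer_map L.subtype)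
      rw [normalizer_eq_top, ← MonoidHom.range_eq_map, range_subtype]
    have h1 := Cores.le_fittingSubgroup (Cores.isNilpotent_subgroupOf hJn N)
    have h2 := (Subgroup.map_mono (f := N.subtype) h1).trans (Cores.map_fittingSubgroup_subtype_le N)
    rw [subgroupOf_map_subtype, s.fit, inf_assoc, inf_idem] at h2
    exact le_bot_iff.mp h2
  set N' := N.subgroupOf L
  have hI : F2 L ⊓ N' = ⊥ := by
    have hinf : Cfsg.fittingSubgroup L ⊓ N' = ⊥ := by
      refine le_bot_iff.mp fun a ha => ?_
      have : (a : G) ∈ (Cfsg.fittingSubgroup L).map L.subtype ⊓ N := ⟨⟨a, ha.1, rfl⟩, ha.2⟩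
      rw [hFN] at this
      exact Subtype.ext this
    haveI := Cores.fittingSubgroup_isNilpotent (G := L ⧸ Cfsg.fittingSubgroup L)
    let f : ↥(F2 L ⊓ N') →* Cfsg.fittingSubgroup (L ⧸ Cfsg.fittingSubgroup L) :=
      { toFun := fun a => ⟨QuotientGroup.mk' _ (a : L), a.2.1⟩
        map_one' := Subtype.ext (by simp)
        map_mul' := fun a b => Subtype.ext (by simp) }
    have hf : Function.Injective f := by
      rw [← MonoidHom.ker_eq_bot_iff]
      refine le_bot_iff.mp fun a ha => Subtype.ext ?_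
      have h1 : (a : L) ∈ Cfsg.fittingSubgroup L :=
        (QuotientGroup.eq_one_iff _).mp (congrArg Subtype.val (MonoidHom.mem_ker.mp ha))
      exact mem_bot.mp (hinf ▸ mem_inf.mpr ⟨h1, a.2.2⟩)
    have hn : Group.IsNilpotent ↥(F2 L ⊓ N') :=
      Group.nilpotent_of_mulEquiv (MonoidHom.ofInjective hf).symm
    exact le_bot_iff.mp (hinf ▸ le_inf (Cores.le_fittingSubgroup hn) inf_le_right)
  have hcomm : N ≤ Subgroup.centralizer ({x} : Set G) := by
    intro n hn
    have h1 : ⁅(⟨x, hxL⟩ : L), ⟨n, mem_sup_left hn⟩⁆ ∈ F2 L ⊓ N' :=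
      ⟨commutator_le_left (F2 L) ⊤ (commutator_mem_commutator hx2 (mem_top _)),
        commutator_le_right ⊤ N' (commutator_mem_commutator (mem_top _) (mem_subgroupOf.mpr hn))⟩
    rw [hI, mem_bot, commutatorElement_eq_one_iff_commute] at h1
    exact mem_centralizer_singleton_iff.mpr (congrArg Subtype.val h1.symm)
  have hcx : Subgroup.centralizer (N : Set G) = ⊤ := by
    haveI : (Subgroup.centralizer (N : Set G)).Normal := normal_centralizer
    refine eq_top_iff.mpr (s.gen ▸ normalClosure_le_normal (Set.singleton_subset_iff.mpr ?_))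
    exact mem_centralizer_iff.mpr fun n hn => mem_centralizer_singleton_iff.mp (hcomm hn)
  exact le_bot_iff.mp (s.center_eq_bot ▸ centralizer_eq_top_iff_subset.mp hcx)

end Setting

/-! ### Members -/

theorem coprime_card {x : G} (hx : orderOf x = p) [Fact q.Prime] (hqp : q ≠ p) {K : Subgroup G}
    (hK : IsPGroup q K) : (Nat.card (zpowers x)).Coprime (Nat.card K) := by
  obtain ⟨n, hn⟩ := hK.exists_card_eq
  rw [Nat.card_zpowers, hx, hn]
  exact ((Nat.coprime_primes Fact.out Fact.out).mpr hqp.symm).pow_right n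

theorem conj_le_normalizer {A L M : Subgroup G} (h : A ≤ L) (hM : L ≤ normalizer (M : Set G)) :
    A ≤ normalizer (M : Set G) := h.trans hM

theorem core_le (q : ℕ) (L : Subgroup G) : core q L ≤ L := map_subtype_le _

theorem le_normalizer_core (q : ℕ) (L : Subgroup G) : L ≤ normalizer (core q L : Set G) := by
  refine le_trans ?_ (le_normalizer_map L.subtype)
  rw [normalizer_eq_top, ← MonoidHom.range_eq_map, range_subtype]

theorem core_isPGroup (q : ℕ) (L : Subgroup G) : IsPGroup q (core q L) :=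
  (Cores.pCore_isPGroup q).map _

theorem le_normalizer_commutator {A M N : Subgroup G} (h1 : A ≤ normalizer (M : Set G))
    (h2 : A ≤ normalizer (N : Set G)) : A ≤ normalizer ((⁅M, N⁆ : Subgroup G) : Set G) := by
  intro a ha
  rw [← Coprime.conj_smul_eq_self_iff, Coprime.conj_smul_commutator,
    Coprime.conj_smul_eq_self_iff.mpr (h1 ha), Coprime.conj_smul_eq_self_iff.mpr (h2 ha)]

theorem le_normalizer_inf {A M N : Subgroup G} (h1 : A ≤ normalizer (M : Set G))
    (h2 : A ≤ normalizer (N : Set G)) : A ≤ normalizer ((M ⊓ N : Subgroup G) : Set G) :=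
  le_trans (le_inf h1 h2) inf_normalizer_le_normalizer_inf

theorem le_normalizer_sup {A M N : Subgroup G} (h1 : A ≤ normalizer (M : Set G))
    (h2 : A ≤ normalizer (N : Set G)) : A ≤ normalizer ((M ⊔ N : Subgroup G) : Set G) := by
  intro a ha
  rw [← Coprime.conj_smul_eq_self_iff, Subgroup.smul_sup,
    Coprime.conj_smul_eq_self_iff.mpr (h1 ha), Coprime.conj_smul_eq_self_iff.mpr (h2 ha)]

theorem le_normalizer_Cx {A : Subgroup G} {x : G} (h : A ≤ normalizer (zpowers x : Set G)) :
    A ≤ normalizer (Cx x : Set G) := by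
  intro a ha
  rw [← Coprime.conj_smul_eq_self_iff]
  refine eq_of_le_of_card_ge ?_ (Coprime.card_conj_smul a _).ge
  intro c hc
  rw [Coprime.mem_conj_smul] at hc
  refine mem_centralizer_iff.mpr fun z hz => ?_
  have h1 : a⁻¹ * z * a ∈ zpowers x := by
    simpa using (mem_normalizer_iff.mp (h (inv_mem ha)) z).mp hz
  have h2 := mem_centralizer_iff.mp hc _ h1
  calc z * c = a * ((a⁻¹ * z * a) * (a⁻¹ * c * a)) * a⁻¹ := by group
    _ = a * ((a⁻¹ * c * a) * (a⁻¹ * z * a)) * a⁻¹ := by rw [h2]
    _ = c * z := by group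

variable [Fact q.Prime]

theorem member_commutator {x : G} (hx : orderOf x = p) (hqp : q ≠ p) {K : Subgroup G}
    (hK : IsPGroup q K) (hn : zpowers x ≤ normalizer (K : Set G)) :
    Member x q ⁅K, zpowers x⁆ where
  isP := hK.to_le (Coprime.commutator_le_of_le_normalizer hn)
  norm := le_normalizer_commutator hn le_normalizer
  comm := Coprime.commutator_commutator_eq hn (coprime_card hx hqp hK)
    (Or.inl (LocalFlavell.CommutatorFixed.solvable_zpowers x))

theorem member_bot (x : G) : Member x q (⊥ : Subgroup G) where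
  isP := IsPGroup.of_bot
  norm := by rw [normalizer_eq_top]; exact le_top
  comm := commutator_bot_left _

theorem member_ecore {x : G} (hx : orderOf x = p) (hqp : q ≠ p) {L : Subgroup G} (hxL : x ∈ L) :
    Member x q (ecore x q L) :=
  member_commutator hx hqp (core_isPGroup q L) ((zpowers_le.mpr hxL).trans (le_normalizer_core q L))

theorem ecore_le {x : G} {L : Subgroup G} (hxL : x ∈ L) : ecore x q L ≤ L :=
  (Coprime.commutator_le_of_le_normalizer
    ((zpowers_le.mpr hxL).trans (le_normalizer_core q L))).trans (core_le q L)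

theorem le_normalizer_ecore {x : G} {L A : Subgroup G} (hA : A ≤ L) (hAx : A ≤ Cx x) :
    A ≤ normalizer (ecore x q L : Set G) :=
  le_normalizer_commutator (hA.trans (le_normalizer_core q L))
    (hAx.trans (Cx_le_normalizer_zpowers x))

theorem commutator_subgroupOf {A B L : Subgroup G} (hA : A ≤ L) (hB : B ≤ L) :
    (⁅A.subgroupOf L, B.subgroupOf L⁆).map L.subtype = ⁅A, B⁆ := by
  rw [map_commutator, map_subgroupOf_eq_of_le hA, map_subgroupOf_eq_of_le hB]

/-- A `q`-subgroup of `L` equal to its commutator with `x` lies in the `q`-core. -/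
theorem le_ecore {x : G} (hP : IsPGroup p (zpowers x)) (hqp : q ≠ p) {L : Subgroup G}
    (hF : InF2 L x) {R : Subgroup G} (hR : Member x q R) (hRL : R ≤ L) : R ≤ ecore x q L := by
  obtain ⟨hxL, hx2⟩ := hF
  have hzx : (zpowers (⟨x, hxL⟩ : L)).map L.subtype = zpowers x := by
    rw [MonoidHom.map_zpowers]; rfl
  have h1 : R.subgroupOf L ≤ Cfsg.pCore q L := by
    refine le_pCore_of_commutator (x := (⟨x, hxL⟩ : L)) ?_ hx2 hqp hR.isP.comap_subtype ?_
    · exact hP.of_equiv ((MulEquiv.subgroupCongr hzx.symm).trans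
        ((zpowers (⟨x, hxL⟩ : L)).equivMapOfInjective _ L.subtype_injective).symm)
    · refine Subgroup.map_injective L.subtype_injective ?_
      rw [map_commutator, map_subgroupOf_eq_of_le hRL, hzx, hR.comm]
  have h2 := Subgroup.map_mono (f := L.subtype) h1
  rw [map_subgroupOf_eq_of_le hRL] at h2
  calc R = ⁅R, zpowers x⁆ := hR.comm.symm
    _ ≤ _ := commutator_mono h2 le_rfl

theorem Setting.le_ecore {x : G} (s : Setting p x) (hqp : q ≠ p) {L : Subgroup G} (hL : L ≠ ⊤)
    (hxL : x ∈ L) {R : Subgroup G} (hR : Member x q R) (hRL : R ≤ L) : R ≤ ecore x q L :=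
  SecondFitting.le_ecore s.isP hqp (s.loc' hL hxL) hR hRL

/-- Members of different primes inside one proper subgroup commute. -/
theorem Setting.commute {x : G} (s : Setting p x) {r : ℕ} [Fact r.Prime] (hqp : q ≠ p) (hrp : r ≠ p)
    (hqr : q ≠ r) {L : Subgroup G} (hL : L ≠ ⊤) (hxL : x ∈ L) {R S : Subgroup G}
    (hR : Member x q R) (hRL : R ≤ L) (hS : Member x r S) (hSL : S ≤ L) :
    R ≤ Subgroup.centralizer (S : Set G) := by
  intro a ha
  refine mem_centralizer_iff.mpr fun b hb => ?_
  have h1 : a ∈ core q L :=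
    Coprime.commutator_le_of_le_normalizer ((zpowers_le.mpr hxL).trans (le_normalizer_core q L))
      (s.le_ecore hqp hL hxL hR hRL ha)
  have h2 : b ∈ core r L :=
    Coprime.commutator_le_of_le_normalizer ((zpowers_le.mpr hxL).trans (le_normalizer_core r L))
      (s.le_ecore hrp hL hxL hS hSL hb)
  obtain ⟨a', ha', rfl⟩ := h1
  obtain ⟨b', hb', rfl⟩ := h2
  exact congrArg Subtype.val (Cores.pCore_commute (Ne.symm hqr) hb' ha')

/-- A subgroup covering a member modulo fixed points is the member. -/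
theorem Member.eq_of_le_sup {x : G} {R N : Subgroup G} (hR : Member x q R) (hNR : N ≤ R)
    (hN : zpowers x ≤ normalizer (N : Set G)) (h : R ≤ N ⊔ (R ⊓ Cx x)) : N = R := by
  set M := N ⊔ ⁅R, R⁆ with hM
  have hRR : ⁅R, R⁆ ≤ R := Coprime.commutator_le_of_le_normalizer le_normalizer
  have hMR : M ≤ R := sup_le hNR hRR
  have hRn : R ≤ normalizer (M : Set G) := by
    refine le_normalizer_iff.mpr fun r hr m hm => ?_
    have e : r * m * r⁻¹ = ⁅r, m⁆ * m := by rw [commutatorElement_def]; group
    rw [e]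
    exact mul_mem (mem_sup_right (commutator_mem_commutator hr (hMR hm))) hm
  have hxn : zpowers x ≤ normalizer (M : Set G) :=
    le_normalizer_sup hN (le_normalizer_commutator hR.norm hR.norm)
  have hle : ⁅R, zpowers x⁆ ≤ M := by
    refine (Coprime.commutator_le_of_forall_eq_mul (X := M) fun k hk => ?_).trans
      (Coprime.commutator_le_of_le_normalizer hxn)
    have h1 : k ∈ M ⊔ (R ⊓ Cx x) := (sup_le_sup_right le_sup_left _ : _ ≤ M ⊔ (R ⊓ Cx x)) (h hk)
    obtain ⟨m, hm, c, hc, rfl⟩ := (Coprime.mem_sup_of_le_normalizer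
      (inf_le_left.trans hRn)).mp h1
    exact ⟨m, hm, c, hc.2, rfl⟩
  rw [hR.comm] at hle
  haveI := hR.isP.isNilpotent
  exact Coprime.eq_of_le_of_sup_commutator_eq hNR (le_antisymm hMR hle)

theorem Member.conj {x : G} {R : Subgroup G} (hR : Member x q R) (g : G) :
    Member (g * x * g⁻¹) q (MulAut.conj g • R) := by
  have hz : zpowers (g * x * g⁻¹) = MulAut.conj g • zpowers x := by
    rw [Coprime.conj_smul_eq_map, MonoidHom.map_zpowers]; rfl
  refine ⟨?_, ?_, ?_⟩
  · rw [Coprime.conj_smul_eq_map]; exact hR.isP.map _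
  · rw [hz, ← Coprime.conj_smul_normalizer]
    exact Subgroup.pointwise_smul_le_pointwise_smul_iff.mpr hR.norm
  · rw [hz, ← Coprime.conj_smul_commutator, hR.comm]

theorem Member.of_zpowers {x y : G} (h : zpowers x = zpowers y) {R : Subgroup G}
    (hR : Member x q R) : Member y q R :=
  ⟨hR.isP, h ▸ hR.norm, h ▸ hR.comm⟩

theorem Colour.conj {x : G} {W : Subgroup G} (hW : Colour x q W) (g : G) :
    Colour (g * x * g⁻¹) q (MulAut.conj g • W) := by
  refine ⟨hW.member.conj g, (hW.member.conj g).norm, fun h => hW.ne_bot ?_, fun R hR _ hle => ?_⟩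
  · rw [← Coprime.conj_inv_smul_smul g W, h, Subgroup.smul_bot]
  · have hR' := hR.conj g⁻¹
    rw [show g⁻¹ * (g * x * g⁻¹) * g⁻¹⁻¹ = x by group] at hR'
    have h1 := hW.max _ hR' hR'.norm (by
      rw [← Coprime.conj_inv_smul_smul g W]
      exact Subgroup.pointwise_smul_le_pointwise_smul_iff.mpr hle)
    rw [← h1, ← Coprime.conj_smul_mul, mul_inv_cancel, Coprime.conj_smul_one]

/-! ### Self-contained elements -/

theorem exists_selfC {x : G} (hx : orderOf x = p) (hqp : q ≠ p) {R : Subgroup G}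
    (hR : IsPGroup q R) (hn : zpowers x ≤ normalizer (R : Set G)) {h : G} (hh : h ∈ R) :
    ∃ d, d ∈ Dx x d ∧ Dx x d = Dx x h ∧ Dx x d ≤ R := by
  have hxR : x ∈ normalizer (R : Set G) := hn (mem_zpowers x)
  have hDR : Dx x h ≤ R := LocalFlavell.CommutatorFixed.D_le hxR hh
  obtain ⟨n, hnD, hc⟩ := Coprime.exists_fixed_in_coset (A := zpowers x) (N := Dx x h) (k := h)
    (LocalFlavell.CommutatorFixed.D_normalizer x h) (coprime_card hx hqp (hR.to_le hDR))
    (Or.inl (LocalFlavell.CommutatorFixed.solvable_zpowers x)) (fun a ha => by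
      obtain ⟨i, rfl⟩ := (isOfFinOrder_of_finite x).mem_powers_iff_mem_zpowers.mpr ha
      simpa [mul_assoc] using LocalFlavell.CommutatorFixed.mem_D x h i)
  have e : Dx x n⁻¹ = Dx x h := by
    unfold Dx LocalFlavell.CommutatorFixed.D
    congr 2
    funext i
    have hc' : x ^ i * (h * n) = h * n * x ^ i :=
      (show Commute x (h * n) from mem_Cx.mp hc).pow_left i |>.eq
    have : h⁻¹ * x ^ i * h = n * x ^ i * n⁻¹ := by
      calc h⁻¹ * x ^ i * h = h⁻¹ * (x ^ i * (h * n)) * n⁻¹ := by group
        _ = _ := by rw [hc']; group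
    rw [inv_inv, this]
  exact ⟨n⁻¹, e.ge (inv_mem hnD), e, e.le.trans hDR⟩

theorem member_Dx {x : G} (hx : orderOf x = p) (hqp : q ≠ p) {h : G}
    (hR : IsPGroup q (Dx x h)) : Member x q (Dx x h) := by
  refine ⟨hR, LocalFlavell.CommutatorFixed.D_normalizer x h,
    LocalFlavell.CommutatorFixed.D_eq hx fun hd => ?_⟩
  obtain ⟨n, hn⟩ := hR.exists_card_eq
  exact hqp ((Nat.prime_dvd_prime_iff_eq Fact.out Fact.out).mp
    ((Fact.out : p.Prime).dvd_of_dvd_pow (hn ▸ hd))).symm

/-- A self-contained element and a fixed point are both in the subgroup generated by `x` and their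
product. -/
theorem selfC_mem_closure {x w c : G} (hw : w ∈ Dx x w) (hc : c ∈ Cx x) :
    Dx x w ≤ Subgroup.closure ({x, w * c} : Set G) ∧ w ∈ Subgroup.closure ({x, w * c} : Set G) ∧
      c ∈ Subgroup.closure ({x, w * c} : Set G) := by
  set L := Subgroup.closure ({x, w * c} : Set G)
  have hx : x ∈ L := subset_closure (Set.mem_insert _ _)
  have hg : w * c ∈ L := subset_closure (Set.mem_insert_of_mem _ rfl)
  have h1 : w * x * w⁻¹ ∈ L := by
    have h := mul_mem (mul_mem hg hx) (inv_mem hg)
    have hc' : c * x = x * c := (mem_Cx.mp hc).symm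
    have e : w * c * x * (w * c)⁻¹ = w * x * w⁻¹ := by rw [mul_assoc w c x, hc']; group
    rwa [e] at h
  have h2 : Dx x w ≤ L.comap (MulAut.conj w).toMonoidHom := by
    refine (closure_le _).mpr ?_
    rintro _ ⟨i, rfl⟩
    show w * (w⁻¹ * x ^ i * w * (x ^ i)⁻¹) * w⁻¹ ∈ L
    have e : w * (w⁻¹ * x ^ i * w * (x ^ i)⁻¹) * w⁻¹ = x ^ i * ((w * x * w⁻¹) ^ i)⁻¹ := by
      rw [conj_pow]; group
    rw [e]
    exact mul_mem (pow_mem hx i) (inv_mem (pow_mem h1 i))
  have h3 : Dx x w ≤ L := by
    intro d hd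
    have := h2 (mul_mem (mul_mem (inv_mem hw) hd) hw)
    simpa [mul_assoc] using this
  refine ⟨h3, h3 hw, ?_⟩
  have := mul_mem (inv_mem (h3 hw)) hg
  rwa [inv_mul_cancel_left] at this

end Cfsg.Agent.SecondFitting
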