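import Cfsg.Agent.Lib.SecondFitting.Local
import Cfsg.Agent.Lib.Coprime.PGroup

/-!
The solvable case.
-/

set_option autoImplicit false
set_option linter.style.haveILetI false
set_option linter.unusedSectionVars false

namespace Cfsg.Agent.SecondFitting

open Subgroup
open scoped Pointwise commutatorElement

universe u

variable {G : Type u} [Group G] [Finite G] {p r s : ℕ} [Fact p.Prime] [Fact r.Prime] [Fact s.Prime]
  {x : G}

theorem exists_power_split {j : G} {a b : ℕ} (hab : a.Coprime b) :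
    j ∈ zpowers (j ^ a) ⊔ zpowers (j ^ b) := by
  have h := Nat.gcd_eq_gcd_ab a b
  rw [hab.gcd_eq_one] at h
  have e : j = (j ^ a) ^ a.gcdA b * (j ^ b) ^ a.gcdB b := by
    rw [← zpow_natCast j a, ← zpow_natCast j b, ← zpow_mul, ← zpow_mul, ← zpow_add, ← h,
      Nat.cast_one, zpow_one]
  have hh : (j ^ a) ^ a.gcdA b * (j ^ b) ^ a.gcdB b ∈ zpowers (j ^ a) ⊔ zpowers (j ^ b) :=
    mul_mem (mem_sup_left (zpow_mem (mem_zpowers _) _))
      (mem_sup_right (zpow_mem (mem_zpowers _) _))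
  rwa [← e] at hh

/-- The normal `r`-complement part of a two-generated subgroup inside `M`. -/
theorem exists_complement (hx : IsPGroup p (zpowers x)) (hrp : r ≠ p) (hrs : r ≠ s)
    {N M : Subgroup G} [hN : N.Normal] (hNs : IsPGroup s N) (_hNc : Group.IsNilpotent N)
    (hNM : N ≤ M) (hM : ∀ m ∈ M, ∃ k, m ^ r ^ k ∈ N) (hxM : x ∈ normalizer (M : Set G))
    (hcomm : M ≤ N ⊔ ⁅M, zpowers x⁆) {w : G} (hwM : w ∈ normalizer (M : Set G))
    (hgen : M ≤ N ⊔ Subgroup.closure ({x, w} : Set G))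
    (hyp : InF2 (Subgroup.closure ({x, w} : Set G)) x) :
    ∃ R : Subgroup G, IsPGroup r R ∧ R ≤ M ∧ M ≤ N ⊔ R ∧ x ∈ normalizer (R : Set G) ∧
      w ∈ normalizer (R : Set G) := by
  set L := Subgroup.closure ({x, w} : Set G)
  obtain ⟨hxL, hx2⟩ := hyp
  have hwL : w ∈ L := subset_closure (Set.mem_insert_of_mem _ rfl)
  have hLM : L ≤ normalizer (M : Set G) := (closure_le _).mpr (by
    intro a ha
    rcases ha with rfl | rfl
    exacts [hxM, hwM])
  set R := core r L ⊓ M
  refine ⟨R, (core_isPGroup r L).to_le inf_le_left, inf_le_right, ?_,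
    le_normalizer_inf (le_normalizer_core r L) hLM hxL,
    le_normalizer_inf (le_normalizer_core r L) hLM hwL⟩
  set J := L ⊓ M
  have hMJ : M ≤ N ⊔ J := by
    intro m hm
    obtain ⟨n, hn, l, hl, rfl⟩ := Subgroup.mem_sup_of_normal_left.mp (hgen hm)
    refine mul_mem (mem_sup_left hn) (mem_sup_right ⟨hl, ?_⟩)
    have := mul_mem (inv_mem (hNM hn)) hm
    rwa [inv_mul_cancel_left] at this
  have hxz : zpowers x ≤ L := zpowers_le.mpr hxL
  have hJx : ⁅J, zpowers x⁆ ≤ J :=
    Coprime.commutator_le_of_le_normalizer (hxz.trans (le_normalizer_inf le_normalizer hLM))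
  have hMc : ⁅M, zpowers x⁆ ≤ N ⊔ ⁅J, zpowers x⁆ := by
    rw [commutator_le]
    intro m hm a ha
    obtain ⟨n, hn, j, hj, rfl⟩ := Subgroup.mem_sup_of_normal_left.mp (hMJ hm)
    have e : ⁅n * j, a⁆ = n * ⁅j, a⁆ * (a * n⁻¹ * a⁻¹) := by
      simp [commutatorElement_def, mul_assoc]
    rw [e]
    exact mul_mem (mul_mem (mem_sup_left hn) (mem_sup_right (commutator_mem_commutator hj ha)))
      (mem_sup_left (hN.conj_mem _ (inv_mem hn) a))
  -- `J` is in the Fitting subgroup of `L`
  set φ := QuotientGroup.mk' (Cfsg.fittingSubgroup ↥L)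
  have hNL : ∀ a : ↥L, (a : G) ∈ N → φ a = 1 := by
    intro a ha
    refine (QuotientGroup.eq_one_iff a).mpr ?_
    haveI : (N.subgroupOf L).Normal := hN.comap _
    refine Cores.le_fittingSubgroup ?_ (mem_subgroupOf.mpr ha)
    exact (hNs.comap_subtype (K := L)).isNilpotent
  set J₀ := J.subgroupOf L
  have hr : IsPGroup r (J₀.map φ) := by
    rintro ⟨_, j, hj, rfl⟩
    obtain ⟨k, hk⟩ := hM (j : G) (mem_subgroupOf.mp hj).2
    refine ⟨k, Subtype.ext ?_⟩
    show φ j ^ r ^ k = 1
    rw [← map_pow]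
    exact hNL _ (by simpa using hk)
  have hxp : IsPGroup p (zpowers (⟨x, hxL⟩ : ↥L)) :=
    hx.of_injective ((L.subtype.comp (zpowers (⟨x, hxL⟩ : ↥L)).subtype).codRestrict _ fun a => by
      obtain ⟨i, hi⟩ := mem_zpowers_iff.mp a.2
      refine mem_zpowers_iff.mpr ⟨i, ?_⟩
      simpa using congrArg Subtype.val hi) (fun a b h => Subtype.ext (Subtype.ext
        (congrArg Subtype.val h :)))
  have hc : ⁅J₀, zpowers (⟨x, hxL⟩ : ↥L)⁆.map φ ≤ Cfsg.pCore p (↥L ⧸ Cfsg.fittingSubgroup ↥L) := by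
    rw [Subgroup.map_commutator, MonoidHom.map_zpowers]
    exact (Subgroup.commutator_mono le_rfl (zpowers_le.mpr (mk_mem_pCore hxp hx2))).trans
      (Subgroup.commutator_le_right _ _)
  have hJF : ∀ j : ↥L, (j : G) ∈ M → j ∈ Cfsg.fittingSubgroup ↥L := by
    intro j hj
    refine (QuotientGroup.eq_one_iff j).mp ?_
    obtain ⟨n, hn, c, hc', e⟩ := Subgroup.mem_sup_of_normal_left.mp
      ((sup_le le_sup_left hMc : N ⊔ ⁅M, zpowers x⁆ ≤ _) (hcomm hj))
    have hcJ : c ∈ J := hJx hc'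
    have hnL : n ∈ L := by
      have : n = (j : G) * c⁻¹ := by rw [← e, mul_inv_cancel_right]
      rw [this]; exact mul_mem j.2 (inv_mem hcJ.1)
    have hsplit : j = ⟨n, hnL⟩ * ⟨c, hcJ.1⟩ := Subtype.ext e.symm
    show φ j = 1
    rw [hsplit, map_mul, hNL _ hn, one_mul]
    have hc0 : (⟨c, hcJ.1⟩ : ↥L) ∈ ⁅J₀, zpowers (⟨x, hxL⟩ : ↥L)⁆ := by
      have hz : (zpowers (⟨x, hxL⟩ : ↥L)).map L.subtype = zpowers x := by
        rw [MonoidHom.map_zpowers]; rfl
      have h : c ∈ (⁅J₀, zpowers (⟨x, hxL⟩ : ↥L)⁆).map L.subtype := by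
        rw [Subgroup.map_commutator, map_subgroupOf_eq_of_le inf_le_left, hz]
        exact hc'
      obtain ⟨c', hc1, hc2⟩ := h
      rwa [show (⟨c, hcJ.1⟩ : ↥L) = c' from Subtype.ext hc2.symm]
    exact mem_bot.mp ((IsPGroup.disjoint_of_ne r p hrp _ _ hr (Cores.pCore_isPGroup p)).le_bot
      ⟨⟨_, mem_subgroupOf.mpr hcJ, rfl⟩, hc ⟨_, hc0, rfl⟩⟩)
  -- split elements of `J`
  refine hMJ.trans (sup_le le_sup_left fun j hj => ?_)
  obtain ⟨k, hk⟩ := hM j hj.2
  obtain ⟨c, hc'⟩ := hNs ⟨_, hk⟩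
  have hc2 : (j ^ r ^ k) ^ s ^ c = 1 := congrArg Subtype.val hc'
  refine (sup_le ?_ ?_ : zpowers (j ^ r ^ k) ⊔ zpowers (j ^ s ^ c) ≤ N ⊔ R)
    (exists_power_split (((Nat.coprime_primes Fact.out Fact.out).mpr hrs).pow k c))
  · exact (zpowers_le.mpr hk).trans le_sup_left
  · refine le_sup_of_le_right (zpowers_le.mpr ⟨?_, pow_mem hj.2 _⟩)
    set j' : ↥L := ⟨j ^ s ^ c, pow_mem hj.1 _⟩
    have hj' : IsPGroup r (zpowers j') := by
      intro a
      obtain ⟨i, hi⟩ := mem_zpowers_iff.mp a.2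
      refine ⟨k, Subtype.ext ?_⟩
      show (a : ↥L) ^ r ^ k = 1
      rw [← hi, ← zpow_natCast, ← zpow_mul, mul_comm, zpow_mul, zpow_natCast]
      have : j' ^ r ^ k = 1 := Subtype.ext (by
        show (j ^ s ^ c) ^ r ^ k = 1
        rw [← pow_mul, mul_comm, pow_mul]; exact hc2)
      rw [this, one_zpow]
    exact ⟨j', le_pCore_of_le_fitting hj' (zpowers_le.mpr (hJF j' (pow_mem hj.2 _)))
      (mem_zpowers j'), rfl⟩

/-- The action of an `r`-section moved by `x` on an abelian normal `s`-subgroup is impossible. -/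
theorem false_of_affine (hx : IsPGroup p (zpowers x))
    (hyp : ∀ g : G, InF2 (Subgroup.closure ({x, g} : Set G)) x) (hrp : r ≠ p) (hrs : r ≠ s)
    {N M : Subgroup G} [hN : N.Normal] [IsMulCommutative N] (hNs : IsPGroup s N) (hNM : N ≤ M)
    (hM : ∀ m ∈ M, ∃ k, m ^ r ^ k ∈ N) (hxM : x ∈ normalizer (M : Set G))
    (hcomm : M ≤ N ⊔ ⁅M, zpowers x⁆) {w : G} (hwM : w ∈ normalizer (M : Set G))
    (hgen : M ≤ N ⊔ Subgroup.closure ({x, w} : Set G))
    (hnc : ¬ M ≤ Subgroup.centralizer (N : Set G)) : False := by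
  have hNn : Group.IsNilpotent N := hNs.isNilpotent
  have hNab : ∀ a ∈ N, ∀ b ∈ N, a * b = b * a := fun a ha b hb =>
    congrArg Subtype.val (mul_comm' (⟨a, ha⟩ : N) ⟨b, hb⟩)
  obtain ⟨R, hR, hRM, hMR, hxR, hwR⟩ :=
    exists_complement hx hrp hrs hNs hNn hNM hM hxM hcomm hwM hgen (hyp w)
  have hRN : R ≤ normalizer (N : Set G) := by rw [normalizer_eq_top]; exact le_top
  have hcop : (Nat.card R).Coprime (Nat.card N) := by
    obtain ⟨a, ha⟩ := hR.exists_card_eq
    obtain ⟨b, hb⟩ := hNs.exists_card_eq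
    rw [ha, hb]
    exact ((Nat.coprime_primes Fact.out Fact.out).mpr hrs).pow a b
  set U := ⁅N, R⁆
  have hUN : U ≤ N := Coprime.commutator_le_of_le_normalizer hRN
  have hfix : U ⊓ Subgroup.centralizer (R : Set G) = ⊥ := le_bot_iff.mp (fun a ha =>
    (Coprime.inf_centralizer_inf_commutator hRN hcop).le ⟨⟨hUN ha.1, ha.2⟩, ha.1⟩)
  have hnU : ∀ a ∈ normalizer (R : Set G), a ∈ normalizer (U : Set G) := fun a ha =>
    (le_normalizer_commutator (A := normalizer (R : Set G)) (M := N) (N := R)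
      (le_top.trans (normalizer_eq_top_iff.mpr hN).ge) le_rfl) ha
  have hU0 : U ≠ ⊥ := fun h => hnc (hMR.trans (sup_le
    (fun a ha => mem_centralizer_iff.mpr fun b hb => hNab b hb a ha)
    (Coprime.commutator_eq_bot_iff_le_centralizer'.mp h)))
  -- the fixed-point-free property
  have hfixn : ∀ e ∈ U, e ∈ normalizer (R : Set G) → e = 1 := by
    intro e he heR
    refine mem_bot.mp (hfix ▸ mem_inf.mpr ⟨he, mem_centralizer_iff.mpr fun a ha => ?_⟩)
    have h1 : a * e * a⁻¹ * e⁻¹ ∈ N :=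
      mul_mem (hN.conj_mem e (hUN he) a) (inv_mem (hUN he))
    have h2 : a * e * a⁻¹ * e⁻¹ ∈ R := by
      have h := mul_mem ha ((mem_normalizer_iff.mp heR a⁻¹).mp (inv_mem ha))
      simpa [mul_assoc] using h
    have h3 : a * e * a⁻¹ * e⁻¹ = 1 := mem_bot.mp
      ((IsPGroup.disjoint_of_ne r s hrs _ _ hR hNs).le_bot ⟨h2, h1⟩)
    exact mul_inv_eq_iff_eq_mul.mp (mul_inv_eq_one.mp h3)
  have hxU : x ∈ normalizer (U : Set G) := hnU x hxR
  have hUconj : ∀ u ∈ U, ∀ b : G, b ∈ U → u * b * u⁻¹ = b := fun u hu b hb => by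
    rw [hNab u (hUN hu) b (hUN hb), mul_inv_cancel_right]
  set S : Set U := {u | x ∈ normalizer ((MulAut.conj (u : G) • R : Subgroup G) : Set G)}
  -- every element of `U` comes from a conjugate fixed by `x`
  have hreal : ∀ v : U, ∃ u : S, ((v : U) : G) = w⁻¹ * ((u : U) : G) * w * ((u : U) : G)⁻¹ := by
    intro v
    have hwv : w * (v : G) ∈ normalizer (M : Set G) :=
      mul_mem hwM (le_normalizer (hNM (hUN v.2)))
    have hgen' : M ≤ N ⊔ Subgroup.closure ({x, w * (v : G)} : Set G) := by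
      refine hgen.trans (sup_le le_sup_left ((closure_le _).mpr ?_))
      intro a ha
      rcases ha with rfl | rfl
      · exact mem_sup_right (subset_closure (Set.mem_insert _ _))
      · have h := mul_mem (mem_sup_right (subset_closure
          (Set.mem_insert_of_mem x (Set.mem_singleton (a * (v : G))))) :
            a * (v : G) ∈ N ⊔ Subgroup.closure ({x, a * (v : G)} : Set G))
          (mem_sup_left (inv_mem (hUN v.2)))
        rwa [mul_inv_cancel_right] at h
    obtain ⟨R', hR', hR'M, hMR', hxR', hwR'⟩ :=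
      exists_complement hx hrp hrs hNs hNn hNM hM hxM hcomm hwv hgen' (hyp _)
    have hmax : ∀ T T' : Subgroup G, IsPGroup r T → T ≤ M → IsPGroup r T' → T' ≤ M →
        M ≤ N ⊔ T' → Nat.card T ≤ Nat.card T' := by
      intro T T' hT hTM hT' hT'M hMT'
      have hd : ∀ P : Subgroup G, IsPGroup r P → Nat.card ↥(N ⊔ P) = Nat.card N * Nat.card P :=
        fun P hP => Coprime.card_sup_of_disjoint (by rw [normalizer_eq_top]; exact le_top)
          (IsPGroup.disjoint_of_ne s r (Ne.symm hrs) _ _ hNs hP)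
      have h := Subgroup.card_le_of_le ((sup_le hNM hTM : N ⊔ T ≤ M).trans hMT')
      rw [hd T hT, hd T' hT'] at h
      exact Nat.le_of_mul_le_mul_left h Nat.card_pos
    obtain ⟨P, hP⟩ := (hR.comap_subtype (K := M)).exists_le_sylow
    obtain ⟨P', hP'⟩ := (hR'.comap_subtype (K := M)).exists_le_sylow
    have ePR : (P : Subgroup M).map M.subtype = R :=
      (eq_of_le_of_card_ge ((map_subgroupOf_eq_of_le hRM).ge.trans (Subgroup.map_mono hP))
        (hmax _ R (P.2.map _) (map_subtype_le _) hR hRM hMR)).symm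
    have ePR' : (P' : Subgroup M).map M.subtype = R' :=
      (eq_of_le_of_card_ge ((map_subgroupOf_eq_of_le hR'M).ge.trans (Subgroup.map_mono hP'))
        (hmax _ R' (P'.2.map _) (map_subtype_le _) hR' hR'M hMR')).symm
    obtain ⟨m, hm⟩ := MulAction.exists_smul_eq M P P'
    have hmR : MulAut.conj (m : G) • R = R' := by
      rw [← ePR, ← ePR', ← hm]
      exact (Coprime.sylow_map_smul m P).symm
    obtain ⟨n, hn, a, ha, hna⟩ := Subgroup.mem_sup_of_normal_left.mp (hMR m.2)
    have hN' : N ≤ U ⊔ (N ⊓ Subgroup.centralizer (R : Set G)) :=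
      (Coprime.commutator_sup_inf_centralizer hRN hcop
        (Or.inr (haveI := hNn; inferInstance))).ge
    obtain ⟨u, hu, c, hc, huc⟩ := (Coprime.mem_sup_of_le_normalizer
      ((inf_le_right.trans (centralizer_le_normalizer _)).trans hnU :
        N ⊓ Subgroup.centralizer (R : Set G) ≤ normalizer (U : Set G))).mp (hN' hn)
    have hu' : MulAut.conj u • R = R' := by
      rw [← hmR, ← hna, ← huc, Coprime.conj_smul_mul, Coprime.conj_smul_mul,
        Coprime.conj_smul_eq_self_iff.mpr (le_normalizer ha),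
        Coprime.conj_smul_eq_self_iff.mpr (centralizer_le_normalizer _ hc.2)]
    refine ⟨⟨⟨u, hu⟩, ?_⟩, ?_⟩
    · show x ∈ normalizer ((MulAut.conj u • R : Subgroup G) : Set G)
      rw [hu']; exact hxR'
    show (v : G) = w⁻¹ * u * w * u⁻¹
    -- the two candidates differ by an element of `U` normalising `R'`
    set e := u * w⁻¹ * u⁻¹ * (w * (v : G))
    have he : e ∈ U := by
      have h1 : w⁻¹ * u⁻¹ * w ∈ U := by
        simpa using (mem_normalizer_iff.mp (inv_mem (hnU w hwR)) u⁻¹).mp (inv_mem hu)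
      have h := mul_mem (mul_mem hu h1) v.2
      simpa [e, mul_assoc] using h
    have heR : e ∈ normalizer (R' : Set G) := by
      refine mul_mem ?_ hwR'
      rw [← hu', ← Coprime.conj_smul_eq_self_iff, ← Coprime.conj_smul_mul, inv_mul_cancel_right,
        Coprime.conj_smul_mul, Coprime.conj_smul_eq_self_iff.mpr (inv_mem hwR)]
    have he1 : e = 1 := by
      refine hfixn e he ?_
      have h : u⁻¹ * e * u ∈ normalizer (R : Set G) := by
        rw [← hu', ← Coprime.conj_smul_normalizer, Coprime.mem_conj_smul] at heR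
        exact heR
      have e' : u⁻¹ * e * u = e := by
        simpa using hUconj u⁻¹ (inv_mem hu) e he
      rwa [e'] at h
    have h4 : w * (v : G) = (u * w⁻¹ * u⁻¹)⁻¹ := eq_inv_of_mul_eq_one_right he1
    calc (v : G) = w⁻¹ * (w * (v : G)) := (inv_mul_cancel_left _ _).symm
      _ = _ := by rw [h4]; group
  -- hence `x` fixes all conjugates
  choose f hf using hreal
  have hfi : Function.Injective f := fun a b h => Subtype.ext (by rw [hf a, hf b, h])
  have hSall : S = Set.univ := Set.eq_of_subset_of_ncard_le (Set.subset_univ _)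
    (by rw [Set.ncard_univ, ← Nat.card_coe_set_eq]; exact Nat.card_le_card_of_injective f hfi)
  have hxc : ∀ u ∈ U, x * u = u * x := by
    intro u hu
    have hmem : (⟨u, hu⟩ : U) ∈ S := hSall ▸ Set.mem_univ _
    have h : u⁻¹ * x * u ∈ normalizer (R : Set G) := by
      have h' : x ∈ normalizer ((MulAut.conj u • R : Subgroup G) : Set G) := hmem
      rwa [← Coprime.conj_smul_normalizer, Coprime.mem_conj_smul] at h'
    have he : x⁻¹ * (u⁻¹ * x * u) ∈ U := by
      have h1 : x⁻¹ * u⁻¹ * x ∈ U := by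
        simpa using (mem_normalizer_iff.mp (inv_mem hxU) u⁻¹).mp (inv_mem hu)
      simpa [mul_assoc] using mul_mem h1 hu
    have h2 := hfixn _ he (mul_mem (inv_mem hxR) h)
    have h3 : u⁻¹ * x * u = x := (inv_mul_eq_one.mp h2).symm
    calc x * u = u * (u⁻¹ * x * u) := by group
      _ = _ := by rw [h3]
  have hxC : zpowers x ≤ Subgroup.centralizer (U : Set G) :=
    zpowers_le.mpr (mem_centralizer_iff.mpr fun u hu => (hxc u hu).symm)
  have hMU : M ≤ normalizer (U : Set G) := hMR.trans (sup_le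
    (fun n hn => Subgroup.centralizer_le_normalizer _
      (mem_centralizer_iff.mpr fun b hb => hNab b (hUN hb) n hn))
    (fun a ha => hnU a (le_normalizer ha)))
  have hMC : M ≤ Subgroup.centralizer (U : Set G) := by
    refine hcomm.trans (sup_le
      (fun n hn => mem_centralizer_iff.mpr fun b hb => hNab b (hUN hb) n hn) ?_)
    rw [commutator_le]
    intro m hm a ha
    rw [commutatorElement_def]
    exact mul_mem ((mem_normalizer_iff.mp (le_normalizer_centralizer' (hMU hm)) a).mp (hxC ha))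
      (inv_mem (hxC ha))
  exact hU0 (le_bot_iff.mp (hfix ▸ le_inf le_rfl (le_centralizer_iff.mp (hRM.trans hMC))))
where
  le_normalizer_centralizer' {U : Subgroup G} {m : G} (hm : m ∈ normalizer (U : Set G)) :
      m ∈ normalizer ((Subgroup.centralizer (U : Set G) : Subgroup G) : Set G) := by
    rw [← Coprime.conj_smul_eq_self_iff]
    refine eq_of_le_of_card_ge ?_ (Coprime.card_conj_smul m _).ge
    intro c hc
    rw [Coprime.mem_conj_smul] at hc
    refine mem_centralizer_iff.mpr fun d hd => ?_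
    have hd' : m⁻¹ * d * m ∈ U := by simpa using (mem_normalizer_iff.mp (inv_mem hm) d).mp hd
    have h2 := mem_centralizer_iff.mp hc _ hd'
    calc d * c = m * ((m⁻¹ * d * m) * (m⁻¹ * c * m)) * m⁻¹ := by group
      _ = m * ((m⁻¹ * c * m) * (m⁻¹ * d * m)) * m⁻¹ := by rw [h2]
      _ = c * d := by group

end Cfsg.Agent.SecondFitting
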