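import Cfsg.Agent.Lib.SecondFitting.Two
import Cfsg.Agent.Lib.SecondFitting.Count
import Cfsg.Agent.Lib.SecondFitting.Solvable

/-!
Membership in the second Fitting subgroup is detected by two-generated subgroups.
-/

set_option autoImplicit false
set_option linter.style.haveILetI false
set_option linter.unusedSectionVars false

namespace Cfsg.Agent.SecondFitting

open Subgroup
open scoped Pointwise commutatorElement

universe u

variable {G : Type u} [Group G] [Finite G]

theorem map_fitting_normal_le (X : Subgroup G) [X.Normal] :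
    (F2 X).map X.subtype ≤ F2 G := by
  haveI : (F2 X).Characteristic := characteristic_iff_map_le.mpr fun φ => map_F2_le φ.surjective
  haveI : ((F2 X).map X.subtype).Normal := inferInstance
  set φ := QuotientGroup.mk' (Cfsg.fittingSubgroup G)
  haveI : (((F2 X).map X.subtype).map φ).Normal :=
    Subgroup.Normal.map inferInstance _ (QuotientGroup.mk'_surjective _)
  haveI := Cores.fittingSubgroup_isNilpotent (G := X ⧸ Cfsg.fittingSubgroup X)
  let g : F2 X →* Cfsg.fittingSubgroup (X ⧸ Cfsg.fittingSubgroup X) :=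
    { toFun := fun a => ⟨QuotientGroup.mk' _ (a : X), a.2⟩
      map_one' := Subtype.ext (by simp)
      map_mul' := fun a b => Subtype.ext (by simp) }
  let q : F2 X →* ((F2 X).map X.subtype).map φ :=
    (φ.subgroupMap ((F2 X).map X.subtype)).comp (X.subtype.subgroupMap (F2 X))
  have hker : g.ker ≤ q.ker := by
    intro a ha
    have h1 : (a : X) ∈ Cfsg.fittingSubgroup X :=
      (QuotientGroup.eq_one_iff _).mp (congrArg Subtype.val (MonoidHom.mem_ker.mp ha))
    exact MonoidHom.mem_ker.mpr (Subtype.ext ((QuotientGroup.eq_one_iff _).mpr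
      (Cores.map_fittingSubgroup_subtype_le X ⟨_, h1, rfl⟩)))
  haveI : Group.IsNilpotent (F2 X ⧸ g.ker) :=
    Group.nilpotent_of_mulEquiv (QuotientGroup.quotientKerEquivRange g).symm
  have hn : Group.IsNilpotent (((F2 X).map X.subtype).map φ) := by
    refine Group.nilpotent_of_surjective (QuotientGroup.lift g.ker q hker) ?_
    intro b
    obtain ⟨a, rfl⟩ := ((φ.subgroupMap_surjective _).comp (X.subtype.subgroupMap_surjective _)) b
    exact ⟨QuotientGroup.mk' _ a, rfl⟩
  exact Subgroup.map_le_iff_le_comap.mp (Cores.le_fittingSubgroup hn)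

theorem isSolvable_of_nilpotent_pieces (h : Group.IsNilpotent (G ⧸ Cfsg.fittingSubgroup G)) :
    Group.IsSolvable G := by
  haveI := h
  haveI : Group.IsNilpotent (Cfsg.fittingSubgroup G) := Cores.fittingSubgroup_isNilpotent
  refine Group.isSolvable_of_ker_le_range (Cfsg.fittingSubgroup G).subtype
    (QuotientGroup.mk' (Cfsg.fittingSubgroup G)) ?_
  rw [QuotientGroup.ker_mk', range_subtype]

theorem isSolvable_of_F2_eq_top (h : F2 (G ⧸ Cfsg.fittingSubgroup G) = ⊤) :
    Group.IsSolvable G := by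
  have h1 : Group.IsSolvable (G ⧸ Cfsg.fittingSubgroup G) := by
    refine isSolvable_of_nilpotent_pieces (Cores.fittingSubgroup_eq_top_iff.mp ?_)
    refine eq_top_iff.mpr fun a _ => ?_
    obtain ⟨b, rfl⟩ := QuotientGroup.mk'_surjective _ a
    exact mem_F2.mp (h ▸ mem_top b)
  haveI := h1
  haveI : Group.IsNilpotent (Cfsg.fittingSubgroup G) := Cores.fittingSubgroup_isNilpotent
  refine Group.isSolvable_of_ker_le_range (Cfsg.fittingSubgroup G).subtype
    (QuotientGroup.mk' (Cfsg.fittingSubgroup G)) ?_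
  rw [QuotientGroup.ker_mk', range_subtype]

theorem inF2_of_map {K : Type u} [Group K] [Finite K] (f : K →* G) (hf : Function.Injective f)
    {H : Subgroup K} {x : K} (hx : x ∈ H) (h : InF2 (H.map f) (f x)) : InF2 H x := by
  refine ⟨hx, comap_F2_le (f := f.subgroupMap H) ?_ ?_⟩
  · intro a b hab
    exact Subtype.ext (hf (congrArg Subtype.val hab))
  · exact h.2

theorem mem_closure_pair_left (x g : G) : x ∈ Subgroup.closure ({x, g} : Set G) :=
  subset_closure (Set.mem_insert _ _)

theorem map_pair {K : Type u} [Group K] (f : G →* K) (x g : G) :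
    (Subgroup.closure ({x, g} : Set G)).map f = Subgroup.closure ({f x, f g} : Set K) := by
  rw [MonoidHom.map_closure, Set.image_insert_eq, Set.image_singleton]

theorem F2_eq_bot (h : Cfsg.fittingSubgroup G = ⊥) : F2 G = ⊥ := by
  refine le_bot_iff.mp fun a ha => ?_
  have hinj : Function.Injective (QuotientGroup.mk' (Cfsg.fittingSubgroup G)) := by
    rw [← MonoidHom.ker_eq_bot_iff, QuotientGroup.ker_mk', h]
  exact h ▸ comap_fitting_le hinj (mem_F2.mp ha)

/-- The solvable step. -/
theorem mem_F2_of_solvable {p : ℕ} [Fact p.Prime] {x : G} (hx : IsPGroup p (zpowers x))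
    (hyp : ∀ g : G, InF2 (Subgroup.closure ({x, g} : Set G)) x)
    (hbar : QuotientGroup.mk' (Cfsg.fittingSubgroup G) x ∈ F2 (G ⧸ Cfsg.fittingSubgroup G)) :
    x ∈ F2 G := by
  set F := Cfsg.fittingSubgroup G
  set φ := QuotientGroup.mk' F with hφdef
  have hx' : IsPGroup p (zpowers (φ x)) := by
    rw [← MonoidHom.map_zpowers]; exact hx.map _
  by_contra hnot
  have hcore : φ x ∉ Cfsg.pCore p (G ⧸ F) := fun h =>
    hnot (mem_F2.mpr (Cores.pCore_le_fitting p h))
  obtain ⟨r, hr, hrp, hnc⟩ : ∃ r : ℕ, r.Prime ∧ r ≠ p ∧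
      φ x ∉ Subgroup.centralizer (Cfsg.pCore r (G ⧸ F) : Set (G ⧸ F)) := by
    by_contra hcon
    push Not at hcon
    exact hcore (mem_pCore_of_centralize hx' hbar hcon)
  haveI := Fact.mk hr
  set O := (Cfsg.pCore r (G ⧸ F)).comap φ
  haveI hOn : O.Normal := Subgroup.Normal.comap inferInstance _
  -- the sections moved by each element of `O`
  let Mf : G → Subgroup G := fun w =>
    (⁅Subgroup.closure ({φ x, φ w} : Set (G ⧸ F)) ⊓ Cfsg.pCore r (G ⧸ F),
      zpowers (φ x)⁆).comap φ
  have hspec : ∀ w ∈ O, ⁅w, x⁆ ∈ Mf w ∧ F ≤ Mf w ∧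
      (∀ m ∈ Mf w, ∃ k, m ^ r ^ k ∈ F) ∧ x ∈ normalizer (Mf w : Set G) ∧
      w ∈ normalizer (Mf w : Set G) ∧ Mf w ≤ F ⊔ ⁅Mf w, zpowers x⁆ ∧
      Mf w ≤ F ⊔ Subgroup.closure ({x, w} : Set G) := by
    intro w hw
    set L := Subgroup.closure ({φ x, φ w} : Set (G ⧸ F))
    set E := L ⊓ Cfsg.pCore r (G ⧸ F)
    set D := ⁅E, zpowers (φ x)⁆
    have hxE : zpowers (φ x) ≤ normalizer (E : Set (G ⧸ F)) :=
      le_normalizer_inf ((zpowers_le.mpr (mem_closure_pair_left _ _)).trans le_normalizer)
        (le_top.trans (normalizer_eq_top_iff.mpr inferInstance).ge)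
    have hE : IsPGroup r E := (Cores.pCore_isPGroup r).to_le inf_le_right
    have hcop : (Nat.card (zpowers (φ x))).Coprime (Nat.card E) := by
      obtain ⟨a, ha⟩ := hx'.exists_card_eq
      obtain ⟨b, hb⟩ := hE.exists_card_eq
      rw [ha, hb]
      exact ((Nat.coprime_primes Fact.out hr).mpr (Ne.symm hrp)).pow a b
    have hDE : D ≤ E := Coprime.commutator_le_of_le_normalizer hxE
    have hker : ∀ a : G, φ a = 1 → a ∈ F := fun a h => (QuotientGroup.eq_one_iff a).mp h
    have hmapM : (Mf w).map φ = D := map_comap_eq_self_of_surjective (QuotientGroup.mk'_surjective F) D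
    have hsupF : ∀ H : Subgroup G, Mf w ≤ F ⊔ H ↔ D ≤ H.map φ := by
      intro H
      rw [← hmapM, Subgroup.map_le_map_iff, QuotientGroup.ker_mk', sup_comm]
    refine ⟨?_, fun a ha => ?_, fun m hm => ?_, ?_, ?_, ?_, ?_⟩
    · show φ ⁅w, x⁆ ∈ D
      rw [map_commutatorElement]
      exact commutator_mem_commutator
        ⟨subset_closure (Set.mem_insert_of_mem _ rfl), hw⟩ (mem_zpowers _)
    · show φ a ∈ D
      rw [show φ a = 1 from (QuotientGroup.eq_one_iff a).mpr ha]
      exact one_mem _
    · obtain ⟨k, hk⟩ := hE ⟨φ m, hDE hm⟩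
      exact ⟨k, hker _ (by rw [map_pow]; exact congrArg Subtype.val hk)⟩
    · exact le_normalizer_comap φ
        (mem_comap.mpr ((le_normalizer_commutator hxE le_normalizer) (mem_zpowers _)) :
          x ∈ (normalizer (D : Set (G ⧸ F))).comap φ)
    · have hwE : φ w ∈ E := ⟨subset_closure (Set.mem_insert_of_mem _ rfl), hw⟩
      exact le_normalizer_comap φ
        (mem_comap.mpr (Subgroup.normalizer_commutator_ge_left E (zpowers (φ x)) hwE) :
          w ∈ (normalizer (D : Set (G ⧸ F))).comap φ)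
    · rw [hsupF, map_commutator, hmapM, MonoidHom.map_zpowers]
      exact (Coprime.commutator_commutator_eq hxE hcop
        (Or.inr (haveI := hE.isNilpotent; inferInstance))).ge
    · rw [hsupF, map_pair]
      exact hDE.trans inf_le_left
  -- some section is moved on a core
  by_cases hcent : ∀ s : ℕ, s.Prime → s ≠ r → ∀ w ∈ O, ∀ a ∈ Mf w, ∀ b ∈ Cfsg.pCore s G,
      a * b * a⁻¹ * b⁻¹ ∈ (frattini (Cfsg.pCore s G)).map (Cfsg.pCore s G).subtype ⊔
        ⨆ t : {t : ℕ // t.Prime ∧ t ≠ s}, Cfsg.pCore (t : ℕ) G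
  · set M := Subgroup.normalClosure {a | ∃ w ∈ O, a = ⁅w, x⁆}
    have hMO : M ≤ O := Subgroup.normalClosure_le_normal (by
      rintro _ ⟨w, hw, rfl⟩
      exact commutator_le_left O ⊤ (commutator_mem_commutator hw (mem_top _)))
    have hn : Group.IsNilpotent M := by
      refine isNilpotent_of_cores (r := r) fun s hs hsr S hSM hS => ?_
      haveI := Fact.mk hs
      have hSF : S ≤ F := fun a ha => (QuotientGroup.eq_one_iff a).mp (mem_bot.mp
        ((IsPGroup.disjoint_of_ne s r hsr _ _ (hS.map φ) (Cores.pCore_isPGroup r)).le_bot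
          ⟨⟨a, ha, rfl⟩, hMO (hSM ha)⟩))
      have hSc := le_pCore_of_le_fitting hS hSF
      refine ⟨hSc, fun R hRM hR => ?_⟩
      set P := Cfsg.pCore s G
      set Φ := (frattini P).map P.subtype
      set Q := Φ ⊔ ⨆ t : {t : ℕ // t.Prime ∧ t ≠ s}, Cfsg.pCore (t : ℕ) G
      haveI hQn : Q.Normal := by
        haveI : Φ.Normal := inferInstanceAs ((frattini P).map P.subtype).Normal
        haveI := Subgroup.iSup_normal (fun t : {t : ℕ // t.Prime ∧ t ≠ s} => Cfsg.pCore (t : ℕ) G)
        infer_instance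
      let K : Subgroup G := (Subgroup.centralizer ((P.map (QuotientGroup.mk' Q)) : Set (G ⧸ Q))).comap
        (QuotientGroup.mk' Q)
      haveI : K.Normal := by
        haveI : (P.map (QuotientGroup.mk' Q)).Normal :=
          Subgroup.Normal.map inferInstance _ (QuotientGroup.mk'_surjective _)
        haveI : (Subgroup.centralizer (P.map (QuotientGroup.mk' Q) : Set (G ⧸ Q))).Normal :=
          Subgroup.normal_centralizer
        exact Subgroup.Normal.comap inferInstance _
      have hMK : M ≤ K := Subgroup.normalClosure_le_normal (by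
        rintro _ ⟨w, hw, rfl⟩
        refine mem_comap.mpr (mem_centralizer_iff.mpr ?_)
        rintro _ ⟨b, hb, rfl⟩
        have h := hcent s hs hsr w hw _ (hspec w hw).1 b hb
        rw [← map_mul, ← map_mul]
        refine (QuotientGroup.eq.mpr ?_)
        have e : (b * ⁅w, x⁆)⁻¹ * (⁅w, x⁆ * b) =
            (⁅w, x⁆⁻¹ * b⁻¹) * (⁅w, x⁆ * b * ⁅w, x⁆⁻¹ * b⁻¹) * (⁅w, x⁆⁻¹ * b⁻¹)⁻¹ := by group
        rw [e]
        exact hQn.conj_mem _ h _)
      have hRn : R ≤ normalizer (P : Set G) := le_top.trans (normalizer_eq_top_iff.mpr inferInstance).ge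
      have hcop : (Nat.card R).Coprime (Nat.card P) := by
        obtain ⟨a, ha⟩ := hR.exists_card_eq
        obtain ⟨b, hb⟩ := (Cores.pCore_isPGroup (G := G) s).exists_card_eq
        rw [ha, hb]
        exact ((Nat.coprime_primes hr hs).mpr (Ne.symm hsr)).pow a b
      refine le_centralizer_iff.mp ((Coprime.le_centralizer_of_frattini hRn
        (hcop.coprime_dvd_right (Subgroup.card_subgroup_dvd_card _)) fun a ha k hk => ?_).trans
        (centralizer_le hSc))
      have h1 := mem_centralizer_iff.mp (mem_comap.mp (hMK (hRM ha))) _ ⟨k, hk, rfl⟩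
      rw [← map_mul, ← map_mul] at h1
      have h2 : a * k * a⁻¹ * k⁻¹ ∈ Q := by
        have h3 := hQn.conj_mem _ (QuotientGroup.eq.mp h1.symm) (a * k)
        have h4 := inv_mem h3
        simpa [mul_assoc] using h4
      have hP : a * k * a⁻¹ * k⁻¹ ∈ P :=
        mul_mem ((inferInstance : P.Normal).conj_mem k hk a) (inv_mem hk)
      -- the part of the other cores is trivial
      haveI : Φ.Normal := inferInstanceAs ((frattini P).map P.subtype).Normal
      obtain ⟨f, hf, o, ho, e⟩ := Subgroup.mem_sup_of_normal_left.mp h2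
      set Ot := ⨆ t : {t : ℕ // t.Prime ∧ t ≠ s}, Cfsg.pCore (t : ℕ) G
      have hOcop : (Nat.card Ot).Coprime s := by
        refine (nilpotent_join (p := s)
          (fun t : {t : ℕ // t.Prime ∧ t ≠ s} => Cfsg.pCore (t : ℕ) G) (fun t => ?_) (fun t => ?_)
          (fun t t' => le_top.trans (normalizer_eq_top_iff.mpr inferInstance).ge)).2
        all_goals haveI := Fact.mk t.2.1
        · exact (Cores.pCore_isPGroup (G := G) (t : ℕ)).isNilpotent
        · exact coprime_of_isPGroup t.2.2 (Cores.pCore_isPGroup (G := G) (t : ℕ))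
      have hoP : o ∈ P := by
        have := mul_mem (inv_mem (map_subtype_le _ hf : f ∈ P)) hP
        rwa [← e, inv_mul_cancel_left] at this
      have hbot : P ⊓ Ot = ⊥ := by
        refine (Subgroup.disjoint_of_coprime_natCard ?_).eq_bot
        obtain ⟨b, hb⟩ := (Cores.pCore_isPGroup (G := G) s).exists_card_eq
        rw [hb]
        exact hOcop.symm.pow_left b
      rw [← e, show o = 1 from mem_bot.mp (hbot ▸ mem_inf.mpr ⟨hoP, ho⟩), mul_one]
      exact hf
    refine hnc (mem_centralizer_iff.mpr fun a ha => ?_)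
    obtain ⟨w, rfl⟩ := QuotientGroup.mk'_surjective F a
    have hM : ⁅w, x⁆ ∈ F :=
      Cores.le_fittingSubgroup hn (Subgroup.subset_normalClosure ⟨w, ha, rfl⟩)
    refine (commutatorElement_eq_one_iff_commute.mp ?_).eq
    rw [← map_commutatorElement]
    exact (QuotientGroup.eq_one_iff _).mpr hM
  · push Not at hcent
    obtain ⟨s, hs, hsr, w, hw, a, ha, b, hb, hab⟩ := hcent
    haveI := Fact.mk hs
    set P := Cfsg.pCore s G
    set Φ := (frattini P).map P.subtype
    set Ot := ⨆ t : {t : ℕ // t.Prime ∧ t ≠ s}, Cfsg.pCore (t : ℕ) G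
    set Q := Φ ⊔ Ot
    haveI hQn : Q.Normal := by
      haveI : Φ.Normal := inferInstanceAs ((frattini P).map P.subtype).Normal
      haveI := Subgroup.iSup_normal (fun t : {t : ℕ // t.Prime ∧ t ≠ s} => Cfsg.pCore (t : ℕ) G)
      infer_instance
    set π := QuotientGroup.mk' Q
    set N := P.map π
    haveI hNn : N.Normal := Subgroup.Normal.map inferInstance _ (QuotientGroup.mk'_surjective _)
    have hPp : IsPGroup s P := Cores.pCore_isPGroup s
    haveI : IsMulCommutative N := by
      refine ⟨⟨fun u v => Subtype.ext ?_⟩⟩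
      obtain ⟨c, hc, ec⟩ := u.2
      obtain ⟨d, hd, ed⟩ := v.2
      show (u : G ⧸ Q) * v = v * u
      rw [← ec, ← ed, ← map_mul, ← map_mul]
      refine QuotientGroup.eq.mpr (mem_sup_left ?_)
      haveI := hPp.isNilpotent
      have h1 : ⁅(⟨d, hd⟩ : P)⁻¹, (⟨c, hc⟩ : P)⁻¹⁆ ∈ frattini P :=
        Coprime.commutator_le_frattini P (commutator_mem_commutator (mem_top _) (mem_top _))
      exact ⟨_, h1, by simp [commutatorElement_def, mul_assoc]⟩
    have hFN : F.map π = N := by
      refine le_antisymm ?_ (Subgroup.map_mono (Cores.pCore_le_fitting s))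
      show (Cfsg.fittingSubgroup G).map π ≤ N
      rw [Cores.fittingSubgroup_eq_iSup, Subgroup.map_iSup, iSup_le_iff]
      rintro ⟨t, ht⟩
      have htp := Nat.prime_of_mem_primeFactors ht
      by_cases hts : t = s
      · rw [show ((⟨t, ht⟩ : {t // t ∈ (Nat.card G).primeFactors}) : ℕ) = s from hts]
      · rintro _ ⟨c, hc, rfl⟩
        rw [show π c = 1 from (QuotientGroup.eq_one_iff c).mpr (mem_sup_right
          (le_iSup (fun t : {t : ℕ // t.Prime ∧ t ≠ s} => Cfsg.pCore (t : ℕ) G) ⟨t, htp, hts⟩ hc))]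
        exact one_mem _
    obtain ⟨-, hFM, hMr, hxM, hwM, hc1, hc2⟩ := hspec w hw
    set M := Mf w
    have hyp' : ∀ g : G ⧸ Q, InF2 (Subgroup.closure ({π x, g} : Set (G ⧸ Q))) (π x) := by
      intro g
      obtain ⟨g, rfl⟩ := QuotientGroup.mk'_surjective Q g
      rw [← map_pair π x g]
      exact inF2_map π (hyp g)
    refine false_of_affine (x := π x) (N := N) (M := M.map π) (w := π w) (r := r) (s := s) ?_ hyp'
      hrp (Ne.symm hsr) (hPp.map π) (hFN ▸ Subgroup.map_mono hFM) ?_ ?_ ?_ ?_ ?_ ?_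
    · rw [← MonoidHom.map_zpowers]; exact hx.map π
    · rintro _ ⟨m, hm, rfl⟩
      obtain ⟨k, hk⟩ := hMr m hm
      exact ⟨k, hFN ▸ ⟨_, hk, map_pow π m _⟩⟩
    · exact le_normalizer_map π ⟨x, hxM, rfl⟩
    · rw [← hFN, ← MonoidHom.map_zpowers, ← map_commutator, ← Subgroup.map_sup]
      exact Subgroup.map_mono hc1
    · exact le_normalizer_map π ⟨w, hwM, rfl⟩
    · rw [← hFN, ← map_pair, ← Subgroup.map_sup]
      exact Subgroup.map_mono hc2
    · intro hle
      refine hab ?_
      have h1 := mem_centralizer_iff.mp (hle ⟨a, ha, rfl⟩) _ ⟨b, hb, rfl⟩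
      rw [← map_mul, ← map_mul] at h1
      have h2 := inv_mem (hQn.conj_mem _ (QuotientGroup.eq.mp h1.symm) (a * b))
      simpa [mul_assoc] using h2

/-- Membership in the second Fitting subgroup follows from membership in two-generated subgroups. -/
theorem mem_F2_of_forall : ∀ {G : Type u} [Group G] [Finite G] (x : G),
    (∀ g : G, InF2 (Subgroup.closure ({x, g} : Set G)) x) → x ∈ F2 G := by
  suffices H : ∀ (n k : ℕ) (G : Type u) [Group G] [Finite G] (x : G), Nat.card G = n →
      orderOf x = k → (∀ g : G, InF2 (Subgroup.closure ({x, g} : Set G)) x) → x ∈ F2 G from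
    fun {G} _ _ x h => H _ _ G x rfl rfl h
  intro n
  induction n using Nat.strong_induction_on with
  | _ n ihG =>
  intro k
  induction k using Nat.strong_induction_on with
  | _ k ihx =>
  intro G _ _ x hn hk hyp
  -- powers
  have hpow : ∀ j : ℕ, orderOf (x ^ j) < k → x ^ j ∈ F2 G := fun j hj =>
    ihx _ hj G (x ^ j) hn rfl fun g => ((hyp g).pow j).anti ((closure_le _).mpr (by
      intro a ha
      rcases ha with rfl | rfl
      · exact pow_mem (mem_closure_pair_left x g) j
      · exact subset_closure (Set.mem_insert_of_mem _ rfl)))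
      (mem_closure_pair_left _ _)
  by_cases hk1 : k = 1
  · rw [orderOf_eq_one_iff.mp (hk.trans hk1)]; exact one_mem _
  have hk0 : 0 < k := hk ▸ orderOf_pos x
  obtain ⟨p, hp, hpk⟩ := Nat.exists_prime_and_dvd hk1
  haveI := Fact.mk hp
  obtain ⟨a, b, hb, hkab⟩ : ∃ a b : ℕ, ¬ p ∣ b ∧ k = p ^ a * b :=
    Nat.exists_eq_pow_mul_and_not_dvd hk0.ne' p hp.ne_one
  have ha : a ≠ 0 := fun e => hb (by rwa [hkab, e, pow_zero, one_mul] at hpk)
  by_cases hb1 : b = 1
  swap
  · have hb0 : b ≠ 0 := fun e => by rw [e, mul_zero] at hkab; omega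
    have hpa : 1 < p ^ a := Nat.one_lt_pow ha hp.one_lt
    have h1 : x ^ b ∈ F2 G := hpow b (by
      rw [orderOf_pow' x hb0, hk, hkab, Nat.gcd_eq_right (dvd_mul_left b (p ^ a)),
        Nat.mul_div_cancel _ (Nat.pos_of_ne_zero hb0)]
      exact lt_mul_of_one_lt_right (by positivity) (by omega))
    have h2 : x ^ p ^ a ∈ F2 G := hpow (p ^ a) (by
      rw [orderOf_pow' x (by positivity), hk, hkab, Nat.gcd_eq_right (dvd_mul_right _ _),
        Nat.mul_div_cancel_left _ (by positivity)]
      exact lt_mul_of_one_lt_left (Nat.pos_of_ne_zero hb0) hpa)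
    exact (sup_le (zpowers_le.mpr h1) (zpowers_le.mpr h2) :
      zpowers (x ^ b) ⊔ zpowers (x ^ p ^ a) ≤ F2 G)
      (exists_power_split ((Nat.Coprime.pow_left a (hp.coprime_iff_not_dvd.mpr hb)).symm))
  subst hb1
  rw [mul_one] at hkab
  have hxp : IsPGroup p (zpowers x) := isPGroup_zpowers (a := a) (hk.trans hkab)
  -- the normal closure of `x`
  set X := Subgroup.normalClosure {x}
  by_cases hX : X = ⊤
  swap
  · have hlt : Nat.card X < n := hn ▸ lt_of_le_of_ne (Subgroup.card_le_card_group X)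
      fun e => hX (eq_top_of_card_eq X e)
    have hxX : x ∈ X := subset_normalClosure rfl
    have h := ihG _ hlt _ X ⟨x, hxX⟩ rfl rfl fun g => by
      refine inF2_of_map X.subtype X.subtype_injective (mem_closure_pair_left _ _) ?_
      rw [map_pair]
      exact hyp (g : G)
    exact map_fitting_normal_le X ⟨_, h, rfl⟩
  set F := Cfsg.fittingSubgroup G
  by_cases hF : F = ⊥
  swap
  · have hlt : Nat.card (G ⧸ F) < n := by
      have h := card_mul_index F
      rw [← index_eq_card]
      have h1 : 1 < Nat.card F := Finite.one_lt_card_iff_nontrivial.mpr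
        ((Subgroup.nontrivial_iff_ne_bot F).mpr hF)
      have h2 : 0 < F.index := Nat.pos_of_ne_zero index_ne_zero_of_finite
      rw [← hn, ← h]
      exact lt_mul_of_one_lt_left h2 h1
    have h := ihG _ hlt _ (G ⧸ F) (QuotientGroup.mk' F x) rfl rfl fun g => by
      obtain ⟨g, rfl⟩ := QuotientGroup.mk'_surjective F g
      rw [← map_pair (QuotientGroup.mk' F) x g]
      exact inF2_map _ (hyp g)
    exact mem_F2_of_solvable hxp hyp h
  -- a minimal counterexample
  by_contra hnot
  have hxne : x ≠ 1 := fun e => hnot (e ▸ one_mem _)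
  have hord : orderOf x = p := by
    rcases Nat.lt_or_ge a 2 with ha2 | ha2
    · rw [hk, hkab, show a = 1 by omega, pow_one]
    exfalso
    have h := hpow p (by
      rw [orderOf_pow' x hp.ne_zero, hk, hkab, Nat.gcd_eq_right (dvd_pow_self p ha)]
      exact Nat.div_lt_self (pow_pos hp.pos a) hp.one_lt)
    rw [F2_eq_bot hF, mem_bot] at h
    have hd := orderOf_dvd_of_pow_eq_one h
    rw [hk, hkab] at hd
    have h3 := Nat.le_of_dvd hp.pos hd
    have h4 := Nat.pow_le_pow_right hp.pos ha2
    have h5 := hp.one_lt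
    nlinarith
  have s : Setting p x :=
    { order := hord
      fit := hF
      gen := hX
      two := fun g hg => by
        obtain ⟨hx', h2⟩ := hyp g
        have hsurj : Function.Surjective (Subgroup.closure ({x, g} : Set G)).subtype :=
          fun b => ⟨⟨b, hg ▸ mem_top b⟩, rfl⟩
        exact hnot (map_F2_le hsurj ⟨_, h2, rfl⟩)
      loc := fun g L hL hgL => by
        set y := g * x * g⁻¹
        have hlt : Nat.card L < n := hn ▸ lt_of_le_of_ne (Subgroup.card_le_card_group L)
          fun e => hL (eq_top_of_card_eq L e)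
        refine ⟨hgL, ihG _ hlt _ L ⟨y, hgL⟩ rfl rfl fun l => ?_⟩
        refine inF2_of_map L.subtype L.subtype_injective (mem_closure_pair_left _ _) ?_
        rw [map_pair]
        have h := inF2_map (MulAut.conj g).toMonoidHom (hyp (g⁻¹ * (l : G) * g))
        rw [map_pair] at h
        simpa [y, mul_assoc] using h }
  by_cases h2 : p = 2
  · subst h2
    exact false_of_two s
  · exact s.false_of_odd h2

end Cfsg.Agent.SecondFitting
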