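import Cfsg.Agent.Lib.SecondFitting.Rank

/-!
Odd primes: decomposition of the group by a member that centralises all other colours.
-/

set_option autoImplicit false
set_option linter.style.haveILetI false
set_option linter.unusedSectionVars false

namespace Cfsg.Agent.SecondFitting

open Subgroup
open scoped Pointwise commutatorElement

universe u

variable {G : Type u} [Group G] [Finite G] {p q r : ℕ} [Fact p.Prime] [Fact q.Prime] [Fact r.Prime]
  {x : G}

/-- A `q`-group `C` centralising a subgroup `T` of the `r`-group `V` with `C_V(T) ≤ T` centralises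
`V`. -/
theorem le_centralizer_of_large {C V T : Subgroup G} (hC : IsPGroup q C) (hV : IsPGroup r V)
    (hqr : q ≠ r) (hCV : C ≤ normalizer (V : Set G)) (hTV : T ≤ V)
    (hCT : C ≤ Subgroup.centralizer (T : Set G))
    (hlarge : V ⊓ Subgroup.centralizer (T : Set G) ≤ T) : C ≤ Subgroup.centralizer (V : Set G) := by
  set K := V ⊓ Subgroup.centralizer (C : Set G)
  have hTK : T ≤ K := le_inf hTV (le_centralizer_iff.mp hCT)
  have hCK : C ≤ Subgroup.centralizer (K : Set G) := le_centralizer_iff.mp inf_le_right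
  set N := V ⊓ normalizer (K : Set G)
  have hCN : C ≤ normalizer (N : Set G) :=
    le_normalizer_inf hCV ((hCK.trans (centralizer_le_normalizer _)).trans le_normalizer)
  have h1 : ⁅⁅C, K⁆, N⁆ = ⊥ := by
    rw [commutator_eq_bot_iff_le_centralizer.mpr hCK, commutator_bot_left]
  have h2 : ⁅⁅K, N⁆, C⁆ = ⊥ := le_bot_iff.mp <| by
    refine (commutator_mono (Coprime.commutator_le_of_le_normalizer
      (inf_le_right : N ≤ normalizer (K : Set G))) le_rfl).trans ?_
    rw [commutator_comm, commutator_eq_bot_iff_le_centralizer.mpr hCK]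
  have h3 := commutator_commutator_eq_bot_of_rotate h1 h2
  have h4 : ⁅N, C⁆ ≤ K := by
    refine (le_inf ((commutator_mono inf_le_left le_rfl).trans
      (Coprime.commutator_le_of_le_normalizer hCV)) ?_).trans (hlarge.trans hTK)
    exact (commutator_eq_bot_iff_le_centralizer.mp h3).trans (centralizer_le hTK)
  have hcop : (Nat.card C).Coprime (Nat.card N) := by
    obtain ⟨n, hn⟩ := hC.exists_card_eq
    obtain ⟨m, hm⟩ := (hV.to_le (inf_le_left : N ≤ V)).exists_card_eq
    rw [hn, hm]
    exact ((Nat.coprime_primes Fact.out Fact.out).mpr hqr).pow _ _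
  have h5 : C ≤ Subgroup.centralizer (N : Set G) :=
    Coprime.le_centralizer_of_commutator_commutator_eq_bot hCN hcop
      (Or.inl (haveI := hC.isNilpotent; inferInstance))
      (le_bot_iff.mp ((commutator_mono h4 le_rfl).trans (by
        rw [commutator_comm, commutator_eq_bot_iff_le_centralizer.mpr hCK])))
  have hKV : K = V := eq_of_normalizer_inf_le hV.isNilpotent inf_le_left
    (le_inf inf_le_left (le_centralizer_iff.mp h5))
  exact hKV ▸ hCK

theorem exists_conjugate_pair (x g : G) :
    x ∈ Subgroup.closure ({x, g} : Set G) ∧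
      Subgroup.closure ({x, g * x * g⁻¹} : Set G) ≤ Subgroup.closure ({x, g} : Set G) := by
  have hx : x ∈ Subgroup.closure ({x, g} : Set G) := subset_closure (Set.mem_insert _ _)
  have hg : g ∈ Subgroup.closure ({x, g} : Set G) :=
    subset_closure (Set.mem_insert_of_mem _ rfl)
  refine ⟨hx, (closure_le _).mpr ?_⟩
  intro a ha
  rcases ha with rfl | rfl
  · exact hx
  · exact mul_mem (mul_mem hg hx) (inv_mem hg)

namespace Setting

variable (s : Setting p x)
include s

/-- `g = f * h` with `h * x * h⁻¹` commuting with `x` and `f` in the product of the cores. -/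
theorem decompose (hp : p ≠ 2) (g : G) : ∃ K : Subgroup G, K ≠ ⊤ ∧ x ∈ K ∧ g * x * g⁻¹ ∈ K ∧
    K = Subgroup.closure ({x, g * x * g⁻¹} : Set G) ∧
    ∃ f ∈ (primeCores p ↥K).map K.subtype, ∃ h, Commute x (h * x * h⁻¹) ∧ g = f * h := by
  set y := g * x * g⁻¹
  set K := Subgroup.closure ({x, y} : Set G) with hKc
  have hK : K ≠ ⊤ := fun h => s.two g (eq_top_iff.mpr (h ▸ (exists_conjugate_pair x g).2))
  have hxK : x ∈ K := subset_closure (Set.mem_insert _ _)
  have hyK : y ∈ K := subset_closure (Set.mem_insert_of_mem _ rfl)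
  have hQ : IsPGroup p (↥K ⧸ Cfsg.fittingSubgroup ↥K) := by
    refine isPGroup_quotient_fitting ({⟨x, hxK⟩, ⟨y, hyK⟩} : Set K) ?_ ?_
    · refine Subgroup.map_injective K.subtype_injective ?_
      rw [MonoidHom.map_closure, ← MonoidHom.range_eq_map, range_subtype, Set.image_insert_eq,
        Set.image_singleton]
      exact hKc.symm
    · intro a ha
      rcases ha with rfl | rfl
      · exact ⟨isPGroup_zpowers (a := 1) (by rw [pow_one, orderOf_mk, s.order]),
          (s.loc' hK hxK).2⟩
      · exact ⟨isPGroup_zpowers (a := 1) (by rw [pow_one, orderOf_mk, (s.conj g).order]),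
          (s.loc g K hK hyK).2⟩
  obtain ⟨P, hP⟩ := (isPGroup_zpowers (p := p) (x := (⟨x, hxK⟩ : K)) (a := 1)
    (by rw [pow_one, orderOf_mk, s.order])).exists_le_sylow
  obtain ⟨f, hf, hfy⟩ := exists_conj_mem_sylow (y := (⟨y, hyK⟩ : K))
    (isPGroup_zpowers (a := 1) (by rw [pow_one, orderOf_mk, (s.conj g).order])) hQ P
  refine ⟨K, hK, hxK, hyK, hKc, (f : G), ⟨f, hf, rfl⟩, (f : G)⁻¹ * g, ?_, by group⟩
  have hxP : x ∈ (P : Subgroup K).map K.subtype := ⟨⟨x, hxK⟩, hP (mem_zpowers _), rfl⟩
  have hyP : (f : G)⁻¹ * g * x * ((f : G)⁻¹ * g)⁻¹ ∈ (P : Subgroup K).map K.subtype :=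
    ⟨f⁻¹ * ⟨y, hyK⟩ * f, hfy, by simp [y, mul_assoc]⟩
  exact mem_Cx.mp (s.central hp (P.2.map _) hxP hyP)

/-- If `D ≤ U` centralises all other colours and mates fix all other colours, there is no minimal
counterexample. -/
theorem false_of_detached (hp : p ≠ 2) (hqp : q ≠ p) {U D : Subgroup G} (hU : Colour x q U)
    (hD : Member x q D) (hD0 : D ≠ ⊥) (hDU : D ≤ U)
    (hc : ∀ r : ℕ, r.Prime → r ≠ p → ∀ V : Subgroup G, Colour x r V → V ≠ U →
      D ≤ Subgroup.centralizer (V : Set G))
    (hm : ∀ r : ℕ, r.Prime → r ≠ p → ∀ V : Subgroup G, Colour x r V → V ≠ U →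
      ∀ h : G, Commute x (h * x * h⁻¹) → h ∈ normalizer (V : Set G)) : False := by
  set L := normalizer (D : Set G)
  have hL : L ≠ ⊤ := s.normalizer_ne_top_of_isPGroup hD0 hD.isP
  have hxL : x ∈ L := hD.norm (mem_zpowers x)
  have hVL : ∀ r : ℕ, r.Prime → r ≠ p → ∀ V : Subgroup G, Colour x r V → V ≠ U → V ≤ L :=
    fun r hr hrp V hV hne =>
      (le_centralizer_iff.mp (hc r hr hrp V hV hne)).trans (centralizer_le_normalizer _)
  have hsame : ∀ V : Subgroup G, Colour x q V → V = U := by
    intro V hV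
    by_contra hne
    exact hne (s.colour_eq_of_common hp hqp hL hxL hV hU hV.member hV.ne_bot le_rfl
      (hVL q Fact.out hqp V hV hne) hD hD0 hDU le_normalizer)
  have hothers : ∀ (r r' : ℕ), r.Prime → r'.Prime → r ≠ p → r' ≠ p → ∀ V V' : Subgroup G,
      Colour x r V → Colour x r' V' → V ≠ U → V' ≠ U → V ≤ normalizer (V' : Set G) := by
    intro r r' hr hr' hrp hrp' V V' hV hV' hne hne'
    haveI := Fact.mk hr
    haveI := Fact.mk hr'
    by_cases hrr : r = r'
    · subst hrr
      rw [s.colour_eq_of_common hp hrp hL hxL hV hV' hV.member hV.ne_bot le_rfl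
        (hVL r hr hrp V hV hne) hV'.member hV'.ne_bot le_rfl (hVL r hr hrp' V' hV' hne')]
      exact le_normalizer
    exact (s.commute hrp hrp' hrr hL hxL hV.member (hVL r hr hrp V hV hne) hV'.member
      (hVL r' hr' hrp' V' hV' hne')).trans (centralizer_le_normalizer _)
  set M0 := ⨅ V : {V : Subgroup G // ∃ r : ℕ, r.Prime ∧ r ≠ p ∧ Colour x r V ∧ V ≠ U},
    normalizer ((V : Subgroup G) : Set G)
  by_cases hall : U ≤ M0
  · refine s.false_of_colours fun r r' hr hr' hrp hrp' V V' hV hV' => ?_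
    haveI := Fact.mk hr
    haveI := Fact.mk hr'
    have hUV : ∀ (l : ℕ), l.Prime → l ≠ p → ∀ W : Subgroup G, Colour x l W → W ≠ U →
        U ≤ normalizer (W : Set G) := fun l hl hlp W hW hne =>
      hall.trans (iInf_le_of_le ⟨W, l, hl, hlp, hW, hne⟩ le_rfl)
    by_cases hVU : V = U
    · subst hVU
      by_cases hVU' : V' = V
      · rw [hVU']; exact le_normalizer
      exact hUV r' hr' hrp' V' hV' hVU'
    by_cases hVU' : V' = U
    · subst hVU'
      have hrr : r ≠ r' := by
        rintro rfl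
        exact hVU (s.colour_eq_of_common hp hrp (s.normalizer_ne_top_of_isPGroup hV.ne_bot
          hV.member.isP) (hV.member.norm (mem_zpowers x)) hV hV' hV.member hV.ne_bot le_rfl
          le_normalizer hV'.member hV'.ne_bot le_rfl (hUV r hr hrp V hV hVU))
      exact (s.commute hrp hrp' hrr (s.normalizer_ne_top_of_isPGroup hV.ne_bot hV.member.isP)
        (hV.member.norm (mem_zpowers x)) hV.member le_normalizer hV'.member
        (hUV r hr hrp V hV hVU)).trans (centralizer_le_normalizer _)
    exact hothers r r' hr hr' hrp hrp' V V' hV hV' hVU hVU'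
  -- `G = M0 U`
  have hM0 : M0 ≠ ⊤ := fun h => hall (h ▸ le_top)
  have hCM : Cx x ≤ M0 := le_iInf fun V => by
    obtain ⟨r, hr, hrp, hV, -⟩ := V.2
    haveI := Fact.mk hr
    exact s.Cx_le_colour hp hrp hV
  have hVM : ∀ (l : ℕ), l.Prime → l ≠ p → ∀ W : Subgroup G, Colour x l W → W ≠ U → W ≤ M0 :=
    fun l hl hlp W hW hne => le_iInf fun V => by
      obtain ⟨r, hr, hrp, hV, hVU⟩ := V.2
      exact hothers l r hl hr hlp hrp W V hW hV hne hVU
  have hcore : ∀ K : Subgroup G, x ∈ K → ∀ l : ℕ, l.Prime → l ≠ p → l ≠ q → core l K ≤ M0 := by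
    intro K hxK l hl hlp hlq
    haveI := Fact.mk hl
    refine (Coprime.commutator_sup_inf_centralizer
      ((zpowers_le.mpr hxK).trans (le_normalizer_core l K))
      (coprime_card s.order hlp (core_isPGroup l K))
      (Or.inl (LocalFlavell.CommutatorFixed.solvable_zpowers x))).ge.trans (sup_le ?_
        (inf_le_right.trans hCM))
    by_cases h0 : ecore x l K = ⊥
    · exact h0.le.trans bot_le
    obtain ⟨W, hW, hle⟩ := exists_colour (member_ecore s.order hlp hxK) h0
    refine hle.trans (hVM l hl hlp W hW fun e => ?_)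
    subst e
    exact hW.ne_bot (le_bot_iff.mp (IsPGroup.disjoint_of_ne l q hlq _ _ hW.member.isP
      hU.member.isP le_rfl le_rfl))
  have hprod : ∀ g : G, ∃ u ∈ U, ∃ m ∈ M0, g = u * m := by
    intro g
    obtain ⟨K, hK, hxK, -, -, f, hf, h, hh, rfl⟩ := s.decompose hp g
    have hhM : h ∈ M0 := mem_iInf.mpr fun V => by
      obtain ⟨r, hr, hrp, hV, hne⟩ := V.2
      exact hm r hr hrp V hV hne h hh
    obtain ⟨f₀, hf₀, rfl⟩ := hf
    have hle : primeCores p ↥K ≤ Cfsg.pCore q ↥K ⊔
        ⨆ l : {l : ℕ // l.Prime ∧ l ≠ p ∧ l ≠ q}, Cfsg.pCore (l : ℕ) ↥K := iSup_le fun l => by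
      by_cases hlq : (l : ℕ) = q
      · rw [hlq]; exact le_sup_left
      · exact le_sup_of_le_right (le_iSup
          (fun l : {l : ℕ // l.Prime ∧ l ≠ p ∧ l ≠ q} => Cfsg.pCore (l : ℕ) ↥K)
          ⟨l, l.2.1, l.2.2, hlq⟩)
    obtain ⟨a, ha, b, hb, rfl⟩ := Subgroup.mem_sup_of_normal_left.mp (hle hf₀)
    have hbM : (b : G) ∈ M0 := by
      have hb' : (b : G) ∈ (⨆ l : {l : ℕ // l.Prime ∧ l ≠ p ∧ l ≠ q},
        Cfsg.pCore (l : ℕ) ↥K).map K.subtype := ⟨b, hb, rfl⟩
      rw [Subgroup.map_iSup] at hb'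
      exact (iSup_le fun l => hcore K hxK l l.2.1 l.2.2.1 l.2.2.2 :
        (⨆ l : {l : ℕ // l.Prime ∧ l ≠ p ∧ l ≠ q}, core (l : ℕ) K) ≤ M0) hb'
    have hxC := (zpowers_le.mpr hxK).trans (le_normalizer_core q K)
    have haC : (a : G) ∈ core q K := ⟨a, ha, rfl⟩
    rw [← Coprime.commutator_sup_inf_centralizer hxC (coprime_card s.order hqp (core_isPGroup q K))
      (Or.inl (LocalFlavell.CommutatorFixed.solvable_zpowers x))] at haC
    obtain ⟨u, hu, c, hc', huc⟩ := (Coprime.mem_sup_of_le_normalizer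
      (le_normalizer_commutator (inf_le_left.trans le_normalizer)
        (inf_le_right.trans (Cx_le_normalizer_zpowers x)))).mp haC
    refine ⟨u, ?_, c * b * h, mul_mem (mul_mem (hCM hc'.2) hbM) hhM, ?_⟩
    · by_cases h0 : ecore x q K = ⊥
      · have : u ∈ (⊥ : Subgroup G) := h0 ▸ hu
        rw [mem_bot.mp this]; exact one_mem _
      obtain ⟨W, hW, hle'⟩ := exists_colour (member_ecore s.order hqp hxK) h0
      exact hsame W hW ▸ hle' hu
    · show (K.subtype (a * b)) * h = _
      rw [map_mul, show K.subtype a = u * c from huc.symm]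
      simp [mul_assoc]
  -- the centre of `U`
  set Z := U ⊓ Subgroup.centralizer (U : Set G)
  have hxZ : zpowers x ≤ normalizer (Z : Set G) :=
    le_normalizer_inf hU.member.norm (le_normalizer_centralizer hU.member.norm)
  have hZq : IsPGroup q Z := hU.member.isP.to_le inf_le_left
  have hZM : Z ≤ M0 := by
    refine (Coprime.commutator_sup_inf_centralizer hxZ (coprime_card s.order hqp hZq)
      (Or.inl (LocalFlavell.CommutatorFixed.solvable_zpowers x))).ge.trans (sup_le ?_
        (inf_le_right.trans hCM))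
    refine le_iInf fun V => ?_
    obtain ⟨r, hr, hrp, hV, hne⟩ := V.2
    haveI := Fact.mk hr
    have hqr : q ≠ r := by rintro rfl; exact hne (hsame V hV)
    exact (s.commute hqp hrp hqr hL hxL (member_commutator s.order hqp hZq hxZ)
      (((Coprime.commutator_le_of_le_normalizer hxZ).trans inf_le_right).trans
        ((centralizer_le hDU).trans (centralizer_le_normalizer _))) hV.member
      (hVL r hr hrp V hV hne)).trans (centralizer_le_normalizer _)
  obtain ⟨c, hcZ, hc1⟩ : ∃ c ∈ Z, c ≠ 1 := by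
    haveI : Nontrivial U := (Subgroup.nontrivial_iff_ne_bot U).mpr hU.ne_bot
    haveI := hU.member.isP.center_nontrivial
    obtain ⟨⟨⟨c, hcU⟩, hcz⟩, hne⟩ := exists_ne (1 : Subgroup.center U)
    refine ⟨c, ⟨hcU, mem_centralizer_iff.mpr fun u hu => ?_⟩, fun e => hne ?_⟩
    · exact congrArg Subtype.val (mem_center_iff.mp hcz ⟨u, hu⟩)
    · exact Subtype.ext (Subtype.ext e)
  have hN : Subgroup.normalClosure {c} ≤ M0 := by
    refine (closure_le _).mpr ?_
    intro a ha
    obtain ⟨b, hb, hab⟩ := Group.mem_conjugatesOfSet_iff.mp ha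
    rw [Set.mem_singleton_iff] at hb
    subst hb
    obtain ⟨g, rfl⟩ := isConj_iff.mp hab
    obtain ⟨u, hu, m, hmM, hg⟩ := hprod g⁻¹
    have e : g = m⁻¹ * u⁻¹ := by rw [← inv_inv g, hg, mul_inv_rev]
    have hcc : u⁻¹ * b * u = b := by
      rw [mul_assoc, ← mem_centralizer_iff.mp hcZ.2 u hu, inv_mul_cancel_left]
    rw [e, show m⁻¹ * u⁻¹ * b * (m⁻¹ * u⁻¹)⁻¹ = m⁻¹ * (u⁻¹ * b * u) * m by group, hcc]
    exact mul_mem (mul_mem (inv_mem hmM) (hZM hcZ)) hmM
  haveI : (Subgroup.normalClosure {c}).Normal := normalClosure_normal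
  have h0 := s.eq_bot_of_normal (Subgroup.normalClosure {c}) fun h => hM0 (eq_top_iff.mpr
    (h ▸ sup_le hN ((zpowers_le.mpr (mem_Cx.mpr rfl)).trans hCM)))
  exact hc1 (mem_bot.mp (h0 ▸ subset_normalClosure (Set.mem_singleton c)))

/-- Members centralising each other's colours force the colours to commute. -/
theorem colour_commute_of_partial (hp : p ≠ 2) (hqp : q ≠ p) (hrp : r ≠ p) (hqr : q ≠ r)
    {U V D E : Subgroup G} (hU : Colour x q U) (hV : Colour x r V) (hD : Member x q D) (hD0 : D ≠ ⊥)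
    (hDU : D ≤ U) (hDV : D ≤ Subgroup.centralizer (V : Set G)) (hE : Member x r E) (hE0 : E ≠ ⊥)
    (hEV : E ≤ V) (hEU : E ≤ Subgroup.centralizer (U : Set G)) :
    U ≤ Subgroup.centralizer (V : Set G) := by
  -- maximal such parts
  set D₁ := part x U (Subgroup.centralizer (V : Set G))
  set E₁ := part x V (Subgroup.centralizer (U : Set G))
  obtain ⟨hD₁, hD₁U, hD₁V⟩ := part_spec s.order hqp hU.member
    (le_normalizer_centralizer hV.member.norm)
  obtain ⟨hE₁, hE₁V, hE₁U⟩ := part_spec s.order hrp hV.member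
    (le_normalizer_centralizer hU.member.norm)
  have hDD : D ≤ D₁ := hD.comm.ge.trans (commutator_mono (le_inf hDU hDV) le_rfl)
  have hEE : E ≤ E₁ := hE.comm.ge.trans (commutator_mono (le_inf hEV hEU) le_rfl)
  have hD₁0 : D₁ ≠ ⊥ := fun h => hD0 (le_bot_iff.mp (h ▸ hDD))
  have hE₁0 : E₁ ≠ ⊥ := fun h => hE0 (le_bot_iff.mp (h ▸ hEE))
  set S := U ⊓ normalizer (D₁ : Set G)
  set T := V ⊓ normalizer (E₁ : Set G)
  have hxS : zpowers x ≤ normalizer (S : Set G) :=
    le_normalizer_inf hU.member.norm (hD₁.norm.trans le_normalizer)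
  have hxT : zpowers x ≤ normalizer (T : Set G) :=
    le_normalizer_inf hV.member.norm (hE₁.norm.trans le_normalizer)
  have hSD : ⁅S, zpowers x⁆ ≤ D₁ := by
    have hm := member_commutator s.order hqp (hU.member.isP.to_le inf_le_left : IsPGroup q S) hxS
    have hle := Coprime.commutator_le_of_le_normalizer hxS
    refine hm.comm.ge.trans (commutator_mono (le_inf (hle.trans inf_le_left) ?_) le_rfl)
    exact s.commute hqp hrp hqr (s.normalizer_ne_top_of_isPGroup hD₁0 hD₁.isP)
      (hD₁.norm (mem_zpowers x)) hm (hle.trans inf_le_right) hV.member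
      ((le_centralizer_iff.mp hD₁V).trans (centralizer_le_normalizer _))
  have hTE : ⁅T, zpowers x⁆ ≤ E₁ := by
    have hm := member_commutator s.order hrp (hV.member.isP.to_le inf_le_left : IsPGroup r T) hxT
    have hle := Coprime.commutator_le_of_le_normalizer hxT
    refine hm.comm.ge.trans (commutator_mono (le_inf (hle.trans inf_le_left) ?_) le_rfl)
    exact s.commute hrp hqp (Ne.symm hqr) (s.normalizer_ne_top_of_isPGroup hE₁0 hE₁.isP)
      (hE₁.norm (mem_zpowers x)) hm (hle.trans inf_le_right) hU.member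
      ((le_centralizer_iff.mp hE₁U).trans (centralizer_le_normalizer _))
  have hSel : S ≤ D₁ ⊔ (S ⊓ Cx x) :=
    (Coprime.commutator_sup_inf_centralizer hxS
      (coprime_card s.order hqp (hU.member.isP.to_le inf_le_left))
      (Or.inl (LocalFlavell.CommutatorFixed.solvable_zpowers x))).ge.trans (sup_le_sup_right hSD _)
  set C := S ⊓ Cx x
  set C' := T ⊓ Cx x
  have hCC : C ≤ Subgroup.centralizer (C' : Set G) := by
    refine commutator_eq_bot_iff_le_centralizer.mp (le_bot_iff.mp ?_)
    have h1 : ⁅C, C'⁆ ≤ U := (commutator_mono (inf_le_left.trans inf_le_left) le_rfl).trans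
      (Coprime.commutator_le_of_le_normalizer (inf_le_right.trans (s.Cx_le_colour hp hqp hU)))
    have h2 : ⁅C, C'⁆ ≤ V := by
      rw [commutator_comm]
      exact (commutator_mono (inf_le_left.trans inf_le_left) le_rfl).trans
        (Coprime.commutator_le_of_le_normalizer (inf_le_right.trans (s.Cx_le_colour hp hrp hV)))
    exact fun a ha => (IsPGroup.disjoint_of_ne q r hqr _ _ hU.member.isP
      hV.member.isP).le_bot ⟨h1 ha, h2 ha⟩
  have hTel : T ≤ E₁ ⊔ C' :=
    (Coprime.commutator_sup_inf_centralizer hxT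
      (coprime_card s.order hrp (hV.member.isP.to_le inf_le_left))
      (Or.inl (LocalFlavell.CommutatorFixed.solvable_zpowers x))).ge.trans (sup_le_sup_right hTE _)
  have hCU : C ≤ U := inf_le_left.trans inf_le_left
  have hCT : C ≤ Subgroup.centralizer (T : Set G) :=
    le_centralizer_iff.mp (hTel.trans (sup_le (hE₁U.trans (centralizer_le hCU))
      (le_centralizer_iff.mp hCC)))
  have hCV : C ≤ Subgroup.centralizer (V : Set G) := by
    refine le_centralizer_of_large (hU.member.isP.to_le hCU) hV.member.isP hqr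
      (inf_le_right.trans (s.Cx_le_colour hp hrp hV)) inf_le_left hCT ?_
    exact le_inf inf_le_left (inf_le_right.trans ((centralizer_le
      (le_inf hE₁V le_normalizer : E₁ ≤ T)).trans (centralizer_le_normalizer _)))
  have hSV : S ≤ Subgroup.centralizer (V : Set G) := hSel.trans (sup_le hD₁V hCV)
  have hD₁S : D₁ ≤ S := le_inf hD₁U le_normalizer
  have hS0 : S ≠ ⊥ := fun h => hD₁0 (le_bot_iff.mp (h ▸ hD₁S))
  have hSD' : ⁅S, zpowers x⁆ = D₁ :=
    le_antisymm hSD (hD₁.comm.ge.trans (commutator_mono hD₁S le_rfl))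
  set N := U ⊓ normalizer (S : Set G)
  have hxN : zpowers x ≤ normalizer (N : Set G) :=
    le_normalizer_inf hU.member.norm (hxS.trans le_normalizer)
  have hSU : S = U := by
    refine eq_of_normalizer_inf_le hU.member.isP.isNilpotent inf_le_left ?_
    refine (Coprime.commutator_sup_inf_centralizer hxN
      (coprime_card s.order hqp (hU.member.isP.to_le inf_le_left))
      (Or.inl (LocalFlavell.CommutatorFixed.solvable_zpowers x))).ge.trans (sup_le ?_ ?_)
    · have hm := member_commutator s.order hqp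
        (hU.member.isP.to_le inf_le_left : IsPGroup q N) hxN
      have hle := Coprime.commutator_le_of_le_normalizer hxN
      refine (hm.comm.ge.trans (commutator_mono (le_inf (hle.trans inf_le_left) ?_) le_rfl)).trans
        hD₁S
      exact s.commute hqp hrp hqr (s.normalizer_ne_top_of_isPGroup hS0
        (hU.member.isP.to_le inf_le_left)) (hxS (mem_zpowers x)) hm (hle.trans inf_le_right)
        hV.member ((le_centralizer_iff.mp hSV).trans (centralizer_le_normalizer _))
    · refine le_inf (inf_le_left.trans inf_le_left) ?_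
      rw [← hSD']
      exact le_normalizer_commutator (inf_le_left.trans inf_le_right)
        (inf_le_right.trans (Cx_le_normalizer_zpowers x))
  exact hSU ▸ hSV

end Setting

end Cfsg.Agent.SecondFitting
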