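import Cfsg.Agent.Lib.SecondFitting.Cover
import Cfsg.Agent.Lib.Coprime.Generation

/-!
Odd primes: the parts of a colour in the centralizer of a commuting conjugate.
-/

set_option autoImplicit false
set_option linter.style.haveILetI false
set_option linter.unusedSectionVars false

namespace Cfsg.Agent.SecondFitting

open Subgroup
open scoped Pointwise commutatorElement

universe u

variable {G : Type u} [Group G] [Finite G] {p q r : ℕ} [Fact p.Prime] [Fact q.Prime] [Fact r.Prime]
  {x : G}

/-- The part of `U` in `K` moved by `x`. -/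
abbrev part (x : G) (U K : Subgroup G) : Subgroup G := ⁅U ⊓ K, zpowers x⁆

theorem ecore_le_core {L : Subgroup G} (hxL : x ∈ L) : ecore x q L ≤ core q L :=
  Coprime.commutator_le_of_le_normalizer ((zpowers_le.mpr hxL).trans (le_normalizer_core q L))

theorem le_core_of_le_normalizer {W L : Subgroup G} (hW : IsPGroup q W) (hWL : W ≤ L)
    (hLW : L ≤ normalizer (W : Set G)) : W ≤ core q L := by
  rw [← map_subgroupOf_eq_of_le hWL]
  haveI : (W.subgroupOf L).Normal := (normal_subgroupOf_iff_le_normalizer hWL).mpr hLW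
  exact Subgroup.map_mono (Cores.le_pCore hW.comap_subtype)

theorem core_le_centralizer (hqr : q ≠ r) (L : Subgroup G) :
    core q L ≤ Subgroup.centralizer (core r L : Set G) := by
  rintro a ⟨a', ha', rfl⟩
  refine mem_centralizer_iff.mpr ?_
  rintro b ⟨b', hb', rfl⟩
  exact congrArg Subtype.val (Cores.pCore_commute (Ne.symm hqr) hb' ha')

theorem zpowers_le_normalizer {K : Subgroup G} (hx : x ∈ K) :
    zpowers x ≤ normalizer (K : Set G) := (zpowers_le.mpr hx).trans le_normalizer

theorem part_spec (hx : orderOf x = p) (hqp : q ≠ p) {U K : Subgroup G} (hU : Member x q U)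
    (hK : zpowers x ≤ normalizer (K : Set G)) :
    Member x q (part x U K) ∧ part x U K ≤ U ∧ part x U K ≤ K :=
  ⟨member_commutator hx hqp (hU.isP.to_le inf_le_left) (le_normalizer_inf hU.norm hK),
    (Coprime.commutator_le_of_le_normalizer (le_normalizer_inf hU.norm hK)).trans inf_le_left,
    (Coprime.commutator_le_of_le_normalizer (le_normalizer_inf hU.norm hK)).trans inf_le_right⟩

theorem inf_le_part_sup (hx : orderOf x = p) (hqp : q ≠ p) {U K : Subgroup G} (hU : Member x q U)
    (hK : zpowers x ≤ normalizer (K : Set G)) : U ⊓ K ≤ part x U K ⊔ (U ⊓ Cx x) :=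
  (Coprime.commutator_sup_inf_centralizer (le_normalizer_inf hU.norm hK)
    (coprime_card hx hqp (hU.isP.to_le inf_le_left))
    (Or.inl (LocalFlavell.CommutatorFixed.solvable_zpowers x))).ge.trans
    (sup_le_sup_left (inf_le_inf_right _ inf_le_left) _)

theorem Cx_conj (g x : G) : Cx (g * x * g⁻¹) = MulAut.conj g • Cx x := by
  ext c
  rw [Coprime.mem_conj_smul, mem_Cx, mem_Cx]
  constructor
  · intro h
    calc x * (g⁻¹ * c * g) = g⁻¹ * (g * x * g⁻¹ * c) * g := by group
      _ = g⁻¹ * (c * (g * x * g⁻¹)) * g := by rw [h]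
      _ = _ := by group
  · intro h
    calc g * x * g⁻¹ * c = g * (x * (g⁻¹ * c * g)) * g⁻¹ := by group
      _ = g * (g⁻¹ * c * g * x) * g⁻¹ := by rw [h]
      _ = _ := by group

theorem le_normalizer_centralizer {A D : Subgroup G} (h : A ≤ normalizer (D : Set G)) :
    A ≤ normalizer ((Subgroup.centralizer (D : Set G) : Subgroup G) : Set G) := by
  intro a ha
  rw [← Coprime.conj_smul_eq_self_iff]
  refine eq_of_le_of_card_ge ?_ (Coprime.card_conj_smul a _).ge
  intro c hc
  rw [Coprime.mem_conj_smul] at hc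
  refine mem_centralizer_iff.mpr fun d hd => ?_
  have hd' : a⁻¹ * d * a ∈ D := by
    simpa using (mem_normalizer_iff.mp (h (inv_mem ha)) d).mp hd
  have h2 := mem_centralizer_iff.mp hc _ hd'
  calc d * c = a * ((a⁻¹ * d * a) * (a⁻¹ * c * a)) * a⁻¹ := by group
    _ = a * ((a⁻¹ * c * a) * (a⁻¹ * d * a)) * a⁻¹ := by rw [h2]
    _ = c * d := by group

namespace Setting

variable (s : Setting p x)
include s

theorem Cx_ne_top : Cx x ≠ ⊤ := by
  rw [Cx_le_centralizer_singleton]; exact s.centralizer_ne_top s.ne_one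

theorem Cx_ne_top' {a : G} (ha : a ≠ 1) : Cx a ≠ ⊤ := by
  rw [Cx_le_centralizer_singleton]; exact s.centralizer_ne_top ha

theorem colour_eq_of_le (hp : p ≠ 2) (hqp : q ≠ p) {W₁ W₂ R : Subgroup G} (h₁ : Colour x q W₁)
    (h₂ : Colour x q W₂) (hR : Member x q R) (hR0 : R ≠ ⊥) (hR1 : R ≤ W₁) (hR2 : R ≤ W₂) :
    W₁ = W₂ :=
  Colour.eq_of_le s hqp (fix_of_odd s hp hqp) h₁ h₂ hR hR0 hR1 hR2

theorem Cx_le_colour (hp : p ≠ 2) (hqp : q ≠ p) {W : Subgroup G} (hW : Colour x q W) :
    Cx x ≤ normalizer (W : Set G) :=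
  Colour.Cx_le_normalizer s hqp (fix_of_odd s hp hqp) hW

theorem colour_unique (hp : p ≠ 2) (hqp : q ≠ p) (hd : q ∣ Nat.card (Cx x)) {W₁ W₂ : Subgroup G}
    (h₁ : Colour x q W₁) (h₂ : Colour x q W₂) : W₁ = W₂ :=
  Colour.unique_of_dvd s hqp (fix_of_odd s hp hqp) hd h₁ h₂

/-- Members of two colours lying in one proper subgroup with `x` are in the same colour. -/
theorem colour_eq_of_common (hp : p ≠ 2) (hqp : q ≠ p) {L : Subgroup G} (hL : L ≠ ⊤) (hxL : x ∈ L)
    {U V R S : Subgroup G} (hU : Colour x q U) (hV : Colour x q V) (hR : Member x q R)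
    (hR0 : R ≠ ⊥) (hRU : R ≤ U) (hRL : R ≤ L) (hS : Member x q S) (hS0 : S ≠ ⊥) (hSV : S ≤ V)
    (hSL : S ≤ L) : U = V := by
  have h1 := s.le_ecore hqp hL hxL hR hRL
  obtain ⟨W, hW, hle⟩ := exists_colour (member_ecore s.order hqp hxL)
    (fun h => hR0 (le_bot_iff.mp (h ▸ h1)))
  exact (s.colour_eq_of_le hp hqp hU hW hR hR0 hRU (h1.trans hle)).trans
    (s.colour_eq_of_le hp hqp hW hV hS hS0
      ((s.le_ecore hqp hL hxL hS hSL).trans hle) hSV)

/-- A member centralised by a commuting conjugate centralises all colours of the other primes. -/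
theorem centralize_of_le_Cx (hp : p ≠ 2) {g a : G} (ha : a = g * x * g⁻¹) (hax : Commute a x)
    (hqp : q ≠ p) (hrp : r ≠ p) (hqr : q ≠ r) {D V : Subgroup G} (hD : Member x q D)
    (hDa : D ≤ Cx a) (hV : Colour x r V) : D ≤ Subgroup.centralizer (V : Set G) := by
  have sa : Setting p a := ha ▸ s.conj g
  have hxa : x ∈ Cx a := mem_Cx.mpr hax
  have hax' : a ∈ Cx x := mem_Cx.mpr hax.symm
  have haV : zpowers a ≤ normalizer (V : Set G) :=
    zpowers_le.mpr (s.Cx_le_colour hp hrp hV hax')
  set N := V ⊓ Subgroup.centralizer (D : Set G)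
  have hN : zpowers x ≤ normalizer (N : Set G) :=
    le_normalizer_inf hV.member.norm (le_normalizer_centralizer hD.norm)
  suffices h : V ≤ N ⊔ (V ⊓ Cx x) by
    rw [le_centralizer_iff, ← hV.member.eq_of_le_sup inf_le_left hN h]
    exact inf_le_right
  have hVx : zpowers x ≤ normalizer (Cx a : Set G) :=
    SecondFitting.zpowers_le_normalizer hxa
  refine (Coprime.commutator_sup_inf_centralizer haV (coprime_card sa.order hrp hV.member.isP)
    (Or.inl (LocalFlavell.CommutatorFixed.solvable_zpowers a))).ge.trans (sup_le ?_ ?_)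
  · refine le_sup_of_le_left (le_inf (Coprime.commutator_le_of_le_normalizer haV) ?_)
    by_cases h0 : ⁅V, zpowers a⁆ = ⊥
    · rw [h0]; exact bot_le
    obtain ⟨W, hW, hVW⟩ := exists_colour (member_commutator sa.order hrp hV.member.isP haV) h0
    set L := normalizer (W : Set G)
    have hCL : Cx a ≤ L := sa.Cx_le_colour hp hrp hW
    have hL : L ≠ ⊤ := s.normalizer_ne_top_of_isPGroup hW.ne_bot hW.member.isP
    refine hVW.trans (le_centralizer_iff.mp ?_)
    exact ((s.le_ecore hqp hL (hCL hxa) hD (hDa.trans hCL)).trans (ecore_le_core (hCL hxa))).trans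
      ((core_le_centralizer hqr L).trans
        (centralizer_le (le_core_of_le_normalizer hW.member.isP le_normalizer le_rfl)))
  · obtain ⟨h1, h1V, h1a⟩ := part_spec s.order hrp hV.member hVx
    refine (inf_le_part_sup s.order hrp hV.member hVx).trans (sup_le_sup_right (le_inf h1V ?_) _)
    exact le_centralizer_iff.mp
      (s.commute hqp hrp hqr (sa.Cx_ne_top) hxa hD hDa h1 h1a)

end Setting

end Cfsg.Agent.SecondFitting
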