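import Cfsg.Agent.Lib.SecondFitting.Parts

/-!
Odd primes: `x` is central in every `p`-subgroup containing it.
-/

set_option autoImplicit false
set_option linter.style.haveILetI false
set_option linter.unusedSectionVars false

namespace Cfsg.Agent.SecondFitting

open Subgroup
open scoped Pointwise commutatorElement

universe u

variable {G : Type u} [Group G] [Finite G] {p : ℕ} [Fact p.Prime] {x : G}

theorem orderOf_dvd_prime {a : G} (ha : a ^ p = 1) (ha1 : a ≠ 1) : orderOf a = p :=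
  orderOf_eq_prime ha ha1

theorem inf_zpowers_eq_bot {H : Subgroup G} {a : G} (ha : a ^ p = 1) (haH : a ∉ H) :
    H ⊓ zpowers a = ⊥ := by
  refine le_bot_iff.mp fun b hb => mem_bot.mpr ?_
  by_contra hb1
  have hbp : b ^ p = 1 := by
    obtain ⟨i, rfl⟩ := mem_zpowers_iff.mp hb.2
    rw [← zpow_natCast, ← zpow_mul, mul_comm, zpow_mul, zpow_natCast, ha, one_zpow]
  have ha1 : a ≠ 1 := fun h => haH (h ▸ one_mem H)
  have heq : zpowers b = zpowers a := eq_of_le_of_card_ge (zpowers_le.mpr hb.2)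
    (by rw [Nat.card_zpowers, Nat.card_zpowers, orderOf_eq_prime ha ha1, orderOf_eq_prime hbp hb1])
  exact haH (zpowers_le.mp (heq ▸ zpowers_le.mpr hb.1))

theorem card_sup_of_inf_eq_bot {H K : Subgroup G} (hn : K ≤ normalizer (H : Set G))
    (h : H ⊓ K = ⊥) : Nat.card ↥(H ⊔ K) = Nat.card H * Nat.card K := by
  let f : H × K → ↥(H ⊔ K) := fun a =>
    ⟨a.1 * a.2, mul_mem (mem_sup_left a.1.2) (mem_sup_right a.2.2)⟩
  rw [← Nat.card_prod, Nat.card_congr (Equiv.ofBijective f ⟨?_, ?_⟩)]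
  · rintro ⟨a, b⟩ ⟨a', b'⟩ e
    have e' : (a : G) * b = a' * b' := congrArg Subtype.val e
    have h1 : ((a' : G)⁻¹ * a) = b' * (b : G)⁻¹ := by
      calc (a' : G)⁻¹ * a = (a' : G)⁻¹ * (a * b) * (b : G)⁻¹ := by group
        _ = _ := by rw [e']; group
    have h2 : (a' : G)⁻¹ * a = 1 := mem_bot.mp (h ▸ mem_inf.mpr
      ⟨mul_mem (inv_mem a'.2) a.2, h1 ▸ mul_mem b'.2 (inv_mem b.2)⟩)
    have ha : (a : G) = a' := (inv_mul_eq_one.mp h2).symm
    have hb : (b : G) = b' := by rw [ha] at e'; exact mul_left_cancel e'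
    exact Prod.ext (Subtype.ext ha) (Subtype.ext hb)
  · rintro ⟨c, hc⟩
    obtain ⟨a, ha, b, hb, rfl⟩ := (Coprime.mem_sup_of_le_normalizer hn).mp hc
    exact ⟨⟨⟨a, ha⟩, ⟨b, hb⟩⟩, rfl⟩

/-- An elementary abelian `p`-subgroup. -/
structure Elem (p : ℕ) (A : Subgroup G) : Prop where
  comm : A ≤ Subgroup.centralizer (A : Set G)
  exp : ∀ a ∈ A, a ^ p = 1

namespace Elem

variable {A : Subgroup G} (hA : Elem p A)
include hA

theorem le_Cx {a : G} (ha : a ∈ A) : A ≤ Cx a :=
  hA.comm.trans (centralizer_le (zpowers_le.mpr ha))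

theorem card_line {a b : G} (ha : a ∈ A) (ha1 : a ≠ 1) (hb : b ∈ A) (hab : b ∉ zpowers a) :
    Nat.card ↥(zpowers a ⊔ zpowers b) = p ^ 2 := by
  have hb1 : b ≠ 1 := fun h => hab (h ▸ one_mem _)
  rw [card_sup_of_inf_eq_bot ((zpowers_le.mpr ((hA.le_Cx ha) hb)).trans
    (centralizer_le_normalizer _)) (inf_zpowers_eq_bot (hA.exp b hb) hab), Nat.card_zpowers,
    Nat.card_zpowers, orderOf_eq_prime (hA.exp a ha) ha1, orderOf_eq_prime (hA.exp b hb) hb1, sq]

theorem card_coprime {q : ℕ} [Fact q.Prime] (hqp : q ≠ p) {K : Subgroup G} (hK : IsPGroup q K) :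
    (Nat.card A).Coprime (Nat.card K) := by
  obtain ⟨n, hn⟩ := IsPGroup.exists_card_eq (p := p)
    (show IsPGroup p A from fun a => ⟨1, Subtype.ext (by simpa using hA.exp a a.2)⟩)
  rw [hn]
  exact (coprime_of_isPGroup hqp hK).symm.pow_left n

theorem noncyclic_line {a b : G} (ha : a ∈ A) (ha1 : a ≠ 1) (hb : b ∈ A) (hab : b ∉ zpowers a) :
    ¬ IsCyclic ↥(zpowers a ⊔ zpowers b) := by
  intro hc
  obtain ⟨⟨g, hg⟩, hgen⟩ := hc.exists_generator
  have hgA : g ∈ A := sup_le (zpowers_le.mpr ha) (zpowers_le.mpr hb) hg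
  have h1 : Nat.card ↥(zpowers a ⊔ zpowers b) ≤ p := by
    rw [← orderOf_eq_card_of_forall_mem_zpowers hgen, orderOf_mk]
    exact Nat.le_of_dvd (Fact.out : p.Prime).pos (orderOf_dvd_of_pow_eq_one (hA.exp g hgA))
  rw [hA.card_line ha ha1 hb hab] at h1
  have := (Fact.out : p.Prime).two_le
  nlinarith

theorem comm_line {a b : G} (ha : a ∈ A) (hb : b ∈ A) :
    IsMulCommutative ↥(zpowers a ⊔ zpowers b) := by
  have h : zpowers a ⊔ zpowers b ≤ A := sup_le (zpowers_le.mpr ha) (zpowers_le.mpr hb)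
  exact ⟨⟨fun u v => Subtype.ext (mem_centralizer_iff.mp (hA.comm (h v.2)) u (h u.2))⟩⟩

/-- A subgroup containing the parts in the centralizers of all lines contains a colour. -/
theorem colour_le (s : Setting p x) (hp : p ≠ 2) (hxA : x ∈ A) (hcard : Nat.card A = p ^ 3)
    {q : ℕ} [Fact q.Prime] (hqp : q ≠ p) {U N : Subgroup G} (hU : Colour x q U)
    (hN : zpowers x ≤ normalizer (N : Set G))
    (h : ∀ a ∈ A, a ≠ 1 → ∀ b ∈ A, b ∉ zpowers a →
      part x U (Subgroup.centralizer ((zpowers a ⊔ zpowers b : Subgroup G) : Set G)) ≤ N) :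
    U ≤ N := by
  have hAU : A ≤ normalizer (U : Set G) :=
    (hA.le_Cx hxA).trans (s.Cx_le_colour hp hqp hU)
  suffices hle : U ≤ (N ⊓ U) ⊔ (U ⊓ Cx x) by
    exact (hU.member.eq_of_le_sup inf_le_right (le_normalizer_inf hN hU.member.norm) hle).ge.trans
      inf_le_left
  have hbig : ∀ B : Subgroup G, B ≤ A → Nat.card B ≤ p ^ 2 → ∃ c ∈ A, c ∉ B := by
    intro B hBA hB
    by_contra hcon
    push Not at hcon
    have := Subgroup.card_le_of_le (show A ≤ B from hcon)
    rw [hcard] at this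
    have := Nat.pow_lt_pow_right (Fact.out : p.Prime).one_lt (show 2 < 3 by norm_num)
    omega
  haveI : IsMulCommutative A :=
    ⟨⟨fun u v => Subtype.ext (mem_centralizer_iff.mp (hA.comm v.2) u u.2)⟩⟩
  have hAnc : ¬ IsCyclic A := by
    intro hc
    obtain ⟨⟨g, hg⟩, hgen⟩ := hc.exists_generator
    have h1 : Nat.card A ≤ p := by
      rw [← orderOf_eq_card_of_forall_mem_zpowers hgen, orderOf_mk]
      exact Nat.le_of_dvd (Fact.out : p.Prime).pos (orderOf_dvd_of_pow_eq_one (hA.exp g hg))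
    rw [hcard] at h1
    have := Nat.pow_lt_pow_right (Fact.out : p.Prime).one_lt (show 1 < 3 by norm_num)
    rw [pow_one] at this
    omega
  conv_lhs => rw [← Coprime.fixedGen_eq hAnc hAU (hA.card_coprime hqp hU.member.isP)]
  refine iSup₂_le fun a ⟨haA, ha1⟩ => ?_
  obtain ⟨c, hcA, hca⟩ := hbig (zpowers a) (zpowers_le.mpr haA) (by
    rw [Nat.card_zpowers, orderOf_eq_prime (hA.exp a haA) ha1]
    exact Nat.le_self_pow (by norm_num) p)
  obtain ⟨d, hdA, hdac⟩ := hbig (zpowers a ⊔ zpowers c)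
    (sup_le (zpowers_le.mpr haA) (zpowers_le.mpr hcA)) (hA.card_line haA ha1 hcA hca).le
  have hdc : d ∉ zpowers c := fun hd => hdac (mem_sup_right hd)
  have hc1 : c ≠ 1 := fun e => hca (e ▸ one_mem _)
  set B := zpowers c ⊔ zpowers d
  have haB : a ∉ B := by
    intro haB
    have e : zpowers a ⊔ zpowers c = B :=
      eq_of_le_of_card_ge (sup_le (zpowers_le.mpr haB) le_sup_left)
        (by rw [hA.card_line haA ha1 hcA hca, hA.card_line hcA hc1 hdA hdc])
    exact hdac (e ▸ mem_sup_right (mem_zpowers d))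
  have hBA : B ≤ A := sup_le (zpowers_le.mpr hcA) (zpowers_le.mpr hdA)
  haveI : IsMulCommutative B := hA.comm_line hcA hdA
  have hBK : B ≤ normalizer ((U ⊓ Subgroup.centralizer ({a} : Set G) : Subgroup G) : Set G) :=
    le_normalizer_inf (hBA.trans hAU) (by
      rw [← Cx_le_centralizer_singleton]; exact (hBA.trans (hA.le_Cx haA)).trans le_normalizer)
  conv_lhs => rw [← Coprime.fixedGen_eq (hA.noncyclic_line hcA hc1 hdA hdc) hBK
    (((hA.card_coprime hqp hU.member.isP).coprime_dvd_left (card_dvd_of_le hBA)).coprime_dvd_right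
      (card_dvd_of_le inf_le_left))]
  refine iSup₂_le fun b ⟨hbB, hb1⟩ => ?_
  have hbA := hBA hbB
  have hba : b ∉ zpowers a := by
    intro hb
    have e : zpowers b = zpowers a := eq_of_le_of_card_ge (zpowers_le.mpr hb)
      (by rw [Nat.card_zpowers, Nat.card_zpowers, orderOf_eq_prime (hA.exp a haA) ha1,
        orderOf_eq_prime (hA.exp b hbA) hb1])
    exact haB (zpowers_le.mp (e ▸ zpowers_le.mpr hbB))
  set K := Subgroup.centralizer ((zpowers a ⊔ zpowers b : Subgroup G) : Set G)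
  have hxK : x ∈ K :=
    (centralizer_le (sup_le (zpowers_le.mpr haA) (zpowers_le.mpr hbA) :
      (zpowers a ⊔ zpowers b : Subgroup G) ≤ A)) (hA.comm hxA)
  have hK : (U ⊓ Subgroup.centralizer ({a} : Set G)) ⊓ Subgroup.centralizer ({b} : Set G) ≤ U ⊓ K := by
    rintro k ⟨⟨hkU, hka⟩, hkb⟩
    refine ⟨hkU, mem_centralizer_iff.mpr fun u hu => ?_⟩
    have hle : zpowers a ⊔ zpowers b ≤ Subgroup.centralizer ({k} : Set G) := sup_le
      (zpowers_le.mpr (mem_centralizer_singleton_iff.mpr (mem_centralizer_singleton_iff.mp hka).symm))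
      (zpowers_le.mpr (mem_centralizer_singleton_iff.mpr (mem_centralizer_singleton_iff.mp hkb).symm))
    exact mem_centralizer_singleton_iff.mp (hle hu)
  refine hK.trans ((inf_le_part_sup s.order hqp hU.member
    (SecondFitting.zpowers_le_normalizer hxK)).trans (sup_le_sup_right (le_inf
      (h a haA ha1 b hbA hba) (part_spec s.order hqp hU.member
        (SecondFitting.zpowers_le_normalizer hxK)).2.1) _))

end Elem

namespace Setting

variable (s : Setting p x)
include s

/-- There is no elementary abelian subgroup of order `p ^ 3` containing `x`. -/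
theorem false_of_rank_three (hp : p ≠ 2) {A : Subgroup G} (hA : Elem p A) (hxA : x ∈ A)
    (hcard : Nat.card A = p ^ 3) : False := by
  -- two lines meet
  have hmeet : ∀ a ∈ A, a ≠ 1 → ∀ b ∈ A, b ∉ zpowers a → ∀ a' ∈ A, a' ≠ 1 →
      ∀ b' ∈ A, b' ∉ zpowers a' → ∃ t : G, t ≠ 1 ∧ x ∈ Cx t ∧
        Subgroup.centralizer ((zpowers a ⊔ zpowers b : Subgroup G) : Set G) ≤ Cx t ∧
        Subgroup.centralizer ((zpowers a' ⊔ zpowers b' : Subgroup G) : Set G) ≤ Cx t := by
    intro a ha ha1 b hb hba a' ha' ha1' b' hb' hba'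
    set B := zpowers a ⊔ zpowers b
    set B' := zpowers a' ⊔ zpowers b'
    have hBA : B ≤ A := sup_le (zpowers_le.mpr ha) (zpowers_le.mpr hb)
    have hBA' : B' ≤ A := sup_le (zpowers_le.mpr ha') (zpowers_le.mpr hb')
    obtain ⟨t, ht, ht1⟩ : ∃ t ∈ B ⊓ B', t ≠ 1 := by
      refine (B ⊓ B').bot_or_exists_ne_one.resolve_left fun h => ?_
      have h1 := Subgroup.card_le_of_le (sup_le hBA hBA')
      rw [card_sup_of_inf_eq_bot ((hBA'.trans (hA.comm.trans (centralizer_le hBA))).trans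
        (centralizer_le_normalizer _)) h, hA.card_line ha ha1 hb hba,
        hA.card_line ha' ha1' hb' hba', hcard, ← pow_add] at h1
      have := Nat.pow_lt_pow_right (Fact.out : p.Prime).one_lt (show 3 < 2 + 2 by norm_num)
      omega
    exact ⟨t, ht1, hA.le_Cx (hBA ht.1) hxA, centralizer_le (zpowers_le.mpr ht.1),
      centralizer_le (zpowers_le.mpr ht.2)⟩
  have hxK : ∀ a ∈ A, ∀ b ∈ A,
      zpowers x ≤ normalizer ((Subgroup.centralizer ((zpowers a ⊔ zpowers b : Subgroup G) : Set G)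
        : Subgroup G) : Set G) := fun a ha b hb =>
    SecondFitting.zpowers_le_normalizer ((centralizer_le (sup_le (zpowers_le.mpr ha)
      (zpowers_le.mpr hb) : (zpowers a ⊔ zpowers b : Subgroup G) ≤ A)) (hA.comm hxA))
  refine s.false_of_colours fun q r hq hr hqp hrp U V hU hV => ?_
  haveI := Fact.mk hq
  haveI := Fact.mk hr
  by_cases hqr : q = r
  · subst hqr
    suffices e : U = V by rw [e]; exact le_normalizer
    have hex : ∀ W : Subgroup G, Colour x q W → ∃ a ∈ A, a ≠ 1 ∧ ∃ b ∈ A, b ∉ zpowers a ∧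
        part x W (Subgroup.centralizer ((zpowers a ⊔ zpowers b : Subgroup G) : Set G)) ≠ ⊥ := by
      intro W hW
      by_contra hcon
      push Not at hcon
      exact hW.ne_bot (le_bot_iff.mp (hA.colour_le s hp hxA hcard hqp hW
        (by rw [normalizer_eq_top]; exact le_top)
        (fun a ha ha1 b hb hba => (hcon a ha ha1 b hb hba).le)))
    obtain ⟨a, ha, ha1, b, hb, hba, hR⟩ := hex U hU
    obtain ⟨a', ha', ha1', b', hb', hba', hS⟩ := hex V hV
    obtain ⟨t, ht1, hxt, hK, hK'⟩ := hmeet a ha ha1 b hb hba a' ha' ha1' b' hb' hba'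
    obtain ⟨hm, hmU, hmK⟩ := part_spec s.order hqp hU.member (hxK a ha b hb)
    obtain ⟨hm', hmV, hmK'⟩ := part_spec s.order hqp hV.member (hxK a' ha' b' hb')
    exact s.colour_eq_of_common hp hqp (s.Cx_ne_top' ht1) hxt hU hV hm hR hmU (hmK.trans hK)
      hm' hS hmV (hmK'.trans hK')
  refine le_trans (hA.colour_le s hp hxA hcard hqp hU (le_normalizer_centralizer hV.member.norm)
    fun a ha ha1 b hb hba => ?_) (centralizer_le_normalizer _)
  obtain ⟨hm, hmU, hmK⟩ := part_spec s.order hqp hU.member (hxK a ha b hb)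
  refine le_centralizer_iff.mp (hA.colour_le s hp hxA hcard hrp hV
    (le_normalizer_centralizer hm.norm) fun a' ha' ha1' b' hb' hba' => ?_)
  obtain ⟨hm', hmV, hmK'⟩ := part_spec s.order hrp hV.member (hxK a' ha' b' hb')
  obtain ⟨t, ht1, hxt, hK, hK'⟩ := hmeet a ha ha1 b hb hba a' ha' ha1' b' hb' hba'
  exact le_centralizer_iff.mp
    (s.commute hqp hrp hqr (s.Cx_ne_top' ht1) hxt hm (hmK.trans hK) hm' (hmK'.trans hK'))

/-- There is no group `⟨x, t⟩` of order `p ^ 2` in which all `x * t ^ i` are conjugates of `x`. -/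
theorem false_of_line (hp : p ≠ 2) {t : G} (ht : t ^ p = 1) (htx : Commute x t)
    (htX : t ∉ zpowers x) (hconj : ∀ i : ℕ, ∃ g : G, x * t ^ i = g * x * g⁻¹) : False := by
  have hpp : p.Prime := Fact.out
  have hxp : x ^ p = 1 := s.order ▸ pow_orderOf_eq_one x
  have ht1 : t ≠ 1 := fun e => htX (e ▸ one_mem _)
  have hto : orderOf t = p := orderOf_eq_prime ht ht1
  set A := zpowers x ⊔ zpowers t with hAdef
  have htn : zpowers t ≤ normalizer (zpowers x : Set G) :=
    (zpowers_le.mpr (mem_Cx.mpr htx)).trans (Cx_le_normalizer_zpowers x)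
  have hel : ∀ a ∈ A, ∃ i j : ℕ, a = x ^ i * t ^ j := by
    intro a ha
    obtain ⟨u, hu, v, hv, rfl⟩ := (Coprime.mem_sup_of_le_normalizer htn).mp ha
    obtain ⟨i, rfl⟩ := (isOfFinOrder_of_finite x).mem_powers_iff_mem_zpowers.mpr hu
    obtain ⟨j, rfl⟩ := (isOfFinOrder_of_finite t).mem_powers_iff_mem_zpowers.mpr hv
    exact ⟨i, j, rfl⟩
  have hA : Elem p A := by
    refine ⟨fun a ha => mem_centralizer_iff.mpr fun b hb => ?_, fun a ha => ?_⟩
    · obtain ⟨i, j, rfl⟩ := hel a ha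
      obtain ⟨k, l, rfl⟩ := hel b hb
      exact ((((Commute.refl x).pow_pow k i).mul_left (htx.symm.pow_pow l i)).mul_right
        ((htx.pow_pow k j).mul_left ((Commute.refl t).pow_pow l j))).eq
    · obtain ⟨i, j, rfl⟩ := hel a ha
      rw [(htx.pow_pow i j).mul_pow, ← pow_mul, ← pow_mul, mul_comm i, mul_comm j, pow_mul,
        pow_mul, hxp, ht, one_pow, one_pow, one_mul]
  haveI : IsMulCommutative A :=
    ⟨⟨fun u v => Subtype.ext (mem_centralizer_iff.mp (hA.comm v.2) u u.2)⟩⟩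
  have hxA : x ∈ A := mem_sup_left (mem_zpowers x)
  have htA : t ∈ A := mem_sup_right (mem_zpowers t)
  have hAnc : ¬ IsCyclic A := hA.noncyclic_line hxA s.ne_one htA htX
  have hxC : ∀ a ∈ A, zpowers x ≤ normalizer (Cx a : Set G) :=
    fun a ha => SecondFitting.zpowers_le_normalizer (hA.le_Cx ha hxA)
  -- generation by parts
  have hgen : ∀ {q : ℕ} [Fact q.Prime], q ≠ p → ∀ {U N : Subgroup G}, Colour x q U →
      zpowers x ≤ normalizer (N : Set G) → part x U (Cx t) ≤ N →
      (∀ i : ℕ, part x U (Cx (x * t ^ i)) ≤ N) → U ≤ N := by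
    intro q _ hqp U N hU hN h1 h2
    have hAU : A ≤ normalizer (U : Set G) := (hA.le_Cx hxA).trans (s.Cx_le_colour hp hqp hU)
    suffices hle : U ≤ (N ⊓ U) ⊔ (U ⊓ Cx x) by
      exact (hU.member.eq_of_le_sup inf_le_right (le_normalizer_inf hN hU.member.norm)
        hle).ge.trans inf_le_left
    conv_lhs => rw [← Coprime.fixedGen_eq hAnc hAU (hA.card_coprime hqp hU.member.isP)]
    refine iSup₂_le fun a ⟨haA, ha1⟩ => ?_
    rw [← Cx_le_centralizer_singleton]
    refine (inf_le_part_sup s.order hqp hU.member (hxC a haA)).trans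
      (sup_le_sup_right (le_inf ?_ (part_spec s.order hqp hU.member (hxC a haA)).2.1) _)
    obtain ⟨i, j, rfl⟩ := hel a haA
    by_cases hi : p ∣ i
    · obtain ⟨k, rfl⟩ := hi
      rw [pow_mul, hxp, one_pow, one_mul] at ha1 ⊢
      have e : zpowers (t ^ j) = zpowers t := eq_of_le_of_card_ge
        (zpowers_le.mpr (pow_mem (mem_zpowers t) j))
        (by rw [Nat.card_zpowers, Nat.card_zpowers, hto, orderOf_eq_prime
          (by rw [← pow_mul, mul_comm, pow_mul, ht, one_pow]) ha1])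
      unfold Cx; rw [e]; exact h1
    · obtain ⟨k, hk⟩ := exists_pow_eq_self_of_coprime (x := x) (n := i)
        (by rw [s.order]; exact (hpp.coprime_iff_not_dvd.mpr hi).symm)
      have hd : x * t ^ (j * k) = (x ^ i * t ^ j) ^ k := by
        rw [(htx.pow_pow i j).mul_pow, hk, ← pow_mul]
      have hd1 : x * t ^ (j * k) ≠ 1 := fun e => by
        obtain ⟨g, hg⟩ := hconj (j * k)
        exact (s.conj g).ne_one (hg ▸ e)
      have e : zpowers (x ^ i * t ^ j) = zpowers (x * t ^ (j * k)) := (eq_of_le_of_card_ge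
        (zpowers_le.mpr (hd ▸ pow_mem (mem_zpowers _) k))
        (by rw [Nat.card_zpowers, Nat.card_zpowers, orderOf_eq_prime (hA.exp _ haA) ha1,
          orderOf_eq_prime (hA.exp _ (mul_mem hxA (pow_mem htA _))) hd1])).symm
      unfold Cx; rw [e]; exact h2 (j * k)
  have hconjc : ∀ i : ℕ, Commute (x * t ^ i) x := fun i =>
    (Commute.refl x).mul_left ((htx.pow_right i).symm)
  refine s.false_of_colours fun q r hq hr hqp hrp U V hU hV => ?_
  haveI := Fact.mk hq
  haveI := Fact.mk hr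
  by_cases hqr : q = r
  · subst hqr
    suffices e : U = V by rw [e]; exact le_normalizer
    -- a part at a conjugate makes `q` divide the order of the centralizer
    have hdvd : ∀ W : Subgroup G, Colour x q W → ∀ i : ℕ, part x W (Cx (x * t ^ i)) ≠ ⊥ →
        q ∣ Nat.card (Cx x) := by
      intro W hW i h0
      obtain ⟨g, hg⟩ := hconj i
      obtain ⟨hm, -, hmC⟩ := part_spec s.order hqp hW.member (hxC _ (mul_mem hxA (pow_mem htA i)))
      obtain ⟨n, hn⟩ := hm.isP.exists_card_eq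
      have hn0 : n ≠ 0 := fun e => h0 (Subgroup.eq_bot_of_card_eq _ (by rw [hn, e, pow_zero]))
      have := (hn ▸ dvd_pow_self q hn0 : q ∣ Nat.card (part x W (Cx (x * t ^ i)))).trans
        (card_dvd_of_le hmC)
      rwa [hg, Cx_conj, Coprime.card_conj_smul] at this
    have hex : ∀ W : Subgroup G, Colour x q W → ¬ q ∣ Nat.card (Cx x) →
        part x W (Cx t) ≠ ⊥ := fun W hW hnd h0 => hW.ne_bot (le_bot_iff.mp
      (hgen hqp hW (by rw [normalizer_eq_top]; exact le_top) h0.le fun i => by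
        by_contra h; exact hnd (hdvd W hW i fun e => h e.le)))
    by_cases hd : q ∣ Nat.card (Cx x)
    · exact s.colour_unique hp hqp hd hU hV
    obtain ⟨hm, hmU, hmK⟩ := part_spec s.order hqp hU.member (hxC t htA)
    obtain ⟨hm', hmV, hmK'⟩ := part_spec s.order hqp hV.member (hxC t htA)
    exact s.colour_eq_of_common hp hqp (s.Cx_ne_top' ht1) (hA.le_Cx htA hxA) hU hV hm (hex U hU hd)
      hmU hmK hm' (hex V hV hd) hmV hmK'
  refine le_trans (hgen hqp hU (le_normalizer_centralizer hV.member.norm) ?_ fun i => ?_)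
    (centralizer_le_normalizer _)
  · obtain ⟨hm, hmU, hmK⟩ := part_spec s.order hqp hU.member (hxC t htA)
    refine le_centralizer_iff.mp (hgen hrp hV (le_normalizer_centralizer hm.norm) ?_ fun i => ?_)
    · obtain ⟨hm', -, hmK'⟩ := part_spec s.order hrp hV.member (hxC t htA)
      exact le_centralizer_iff.mp
        (s.commute hqp hrp hqr (s.Cx_ne_top' ht1) (hA.le_Cx htA hxA) hm hmK hm' hmK')
    · obtain ⟨g, hg⟩ := hconj i
      obtain ⟨hm', -, hmK'⟩ := part_spec s.order hrp hV.member (hxC _ (mul_mem hxA (pow_mem htA i)))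
      exact (s.centralize_of_le_Cx hp hg (hconjc i) hrp hqp (Ne.symm hqr) hm' hmK' hU).trans
        (centralizer_le hmU)
  · obtain ⟨g, hg⟩ := hconj i
    obtain ⟨hm, -, hmK⟩ := part_spec s.order hqp hU.member (hxC _ (mul_mem hxA (pow_mem htA i)))
    exact s.centralize_of_le_Cx hp hg (hconjc i) hqp hrp hqr hm hmK hV

/-- `x` is central in every `p`-group containing it. -/
theorem central (hp : p ≠ 2) {P : Subgroup G} (hP : IsPGroup p P) (hxP : x ∈ P) : P ≤ Cx x := by
  by_contra hle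
  set C := P ⊓ Cx x
  obtain ⟨t, htP, htC, ht⟩ : ∃ t, t ∈ P ∧ t ∈ normalizer (C : Set G) ∧ t ∉ C := by
    by_contra hcon
    push Not at hcon
    exact hle ((eq_of_normalizer_inf_le hP.isNilpotent inf_le_left
      fun t ht => hcon t ht.1 ht.2).ge.trans inf_le_right)
  have htx : ¬ Commute x t := fun h => ht ⟨htP, mem_Cx.mpr h⟩
  set S : Set G := Set.range fun i : ℕ => t ^ i * x * (t ^ i)⁻¹
  set A := Subgroup.closure S
  have hxC : x ∈ C := ⟨hxP, mem_Cx.mpr rfl⟩
  have hS : ∀ a ∈ S, a ∈ C ⊓ Subgroup.centralizer (C : Set G) ∧ a ^ p = 1 := by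
    rintro _ ⟨i, rfl⟩
    have hti : t ^ i ∈ normalizer (C : Set G) := pow_mem htC i
    refine ⟨⟨(mem_normalizer_iff.mp hti x).mp hxC, mem_centralizer_iff.mpr fun c hc => ?_⟩, ?_⟩
    · have hc' : (t ^ i)⁻¹ * c * t ^ i ∈ C := by
        simpa using (mem_normalizer_iff.mp (inv_mem hti) c).mp hc
      have h := mem_Cx.mp hc'.2
      show c * (t ^ i * x * (t ^ i)⁻¹) = t ^ i * x * (t ^ i)⁻¹ * c
      calc c * (t ^ i * x * (t ^ i)⁻¹) = t ^ i * ((t ^ i)⁻¹ * c * t ^ i * x) * (t ^ i)⁻¹ := by group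
        _ = t ^ i * (x * ((t ^ i)⁻¹ * c * t ^ i)) * (t ^ i)⁻¹ := by rw [h]
        _ = _ := by group
    · rw [← (s.conj (t ^ i)).order]; exact pow_orderOf_eq_one _
  have hAC : A ≤ C ⊓ Subgroup.centralizer (C : Set G) := (closure_le _).mpr fun a ha => (hS a ha).1
  have hA : Elem p A := by
    have hcomm : A ≤ Subgroup.centralizer (A : Set G) :=
      hAC.trans (inf_le_right.trans (centralizer_le (hAC.trans inf_le_left)))
    refine ⟨hcomm, fun a ha => ?_⟩
    induction ha using Subgroup.closure_induction with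
    | mem a ha => exact (hS a ha).2
    | one => exact one_pow _
    | mul a b ha hb e1 e2 =>
      rw [(show Commute a b from (mem_centralizer_iff.mp (hcomm hb) a ha)).mul_pow, e1, e2, one_mul]
    | inv a ha e => rw [inv_pow, e, inv_one]
  have hxA : x ∈ A := subset_closure ⟨0, by simp⟩
  have hAP : A ≤ P := hAC.trans (inf_le_left.trans inf_le_left)
  have htA : zpowers t ≤ normalizer (A : Set G) := by
    rw [zpowers_le, ← Coprime.conj_smul_eq_self_iff]
    refine eq_of_le_of_card_ge ?_ (Coprime.card_conj_smul t A).ge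
    rw [Coprime.conj_smul_eq_map, MonoidHom.map_closure, closure_le]
    rintro _ ⟨_, ⟨i, rfl⟩, rfl⟩
    refine subset_closure ⟨i + 1, ?_⟩
    simp [pow_succ', mul_assoc]
  obtain ⟨n, hn⟩ := (hP.to_le hAP).exists_card_eq
  rcases Nat.lt_or_ge n 3 with hn3 | hn3
  swap
  · obtain ⟨B', hB', hle'⟩ := Sylow.exists_subgroup_card_pow_prime_le p
      (G := A) (n := 1) (m := 3) (hn ▸ pow_dvd_pow p hn3) ((zpowers x).subgroupOf A)
      (by rw [Nat.card_congr (subgroupOfEquivOfLe (zpowers_le.mpr hxA)).toEquiv, Nat.card_zpowers,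
        s.order, pow_one]) (by norm_num)
    refine s.false_of_rank_three hp (A := B'.map A.subtype)
      ⟨((map_subtype_le B').trans hA.comm).trans (centralizer_le (map_subtype_le B')),
        fun a ha => hA.exp a (map_subtype_le B' ha)⟩
      ⟨⟨x, hxA⟩, hle' (mem_zpowers x), rfl⟩ (by rw [card_subtype, hB'])
  set T := A ⊔ zpowers t
  have hT : IsPGroup p T := hP.to_le (sup_le hAP (zpowers_le.mpr htP))
  haveI := hT.isNilpotent
  have hA0 : A ≠ ⊥ := fun h => s.ne_one (mem_bot.mp (h ▸ hxA))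
  set S' := ⁅A, T⁆
  have hTA : T ≤ normalizer (A : Set G) := sup_le le_normalizer htA
  have hS'lt : S' < A := Coprime.commutator_lt_of_isNilpotent le_sup_left hA0 hTA
  set w := t * x * t⁻¹ * x⁻¹
  have hw1 : w ≠ 1 := fun h => htx (by
    have : t * x * t⁻¹ = x := mul_inv_eq_one.mp h
    exact (mul_inv_eq_iff_eq_mul.mp this).symm)
  have hwS : w ∈ S' := by
    show w ∈ ⁅A, T⁆
    rw [commutator_comm]
    exact commutator_mem_commutator (mem_sup_right (mem_zpowers t)) hxA
  have hwA : w ∈ A := hS'lt.le hwS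
  have hwo : orderOf w = p := orderOf_eq_prime (hA.exp w hwA) hw1
  have hwX : w ∉ zpowers x := by
    intro hw
    have hAX : A = zpowers x := by
      refine le_antisymm ((closure_le _).mpr ?_) (zpowers_le.mpr hxA)
      have h1 : t * x * t⁻¹ ∈ zpowers x := by
        have := mul_mem hw (mem_zpowers x)
        rwa [show w * x = t * x * t⁻¹ by simp [w]] at this
      rintro _ ⟨i, rfl⟩
      induction i with
      | zero => simp
      | succ i ih =>
        obtain ⟨k, hk⟩ := mem_zpowers_iff.mp ih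
        replace hk : x ^ k = t ^ i * x * (t ^ i)⁻¹ := hk
        have e : t ^ (i + 1) * x * (t ^ (i + 1))⁻¹ = t * (t ^ i * x * (t ^ i)⁻¹) * t⁻¹ := by
          simp [pow_succ', mul_assoc]
        show t ^ (i + 1) * x * (t ^ (i + 1))⁻¹ ∈ _
        rw [e, ← hk, ← conj_zpow]
        exact zpow_mem h1 k
    have := hS'lt.trans_le hAX.le
    have h2 : S' = ⊥ := by
      by_contra h0
      have hge : zpowers x ≤ zpowers w :=
        (eq_of_le_of_card_ge (zpowers_le.mpr hw) (by rw [Nat.card_zpowers, Nat.card_zpowers, hwo,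
          s.order])).ge
      exact this.not_ge (hge.trans (zpowers_le.mpr hwS))
    exact hw1 (mem_bot.mp (h2 ▸ hwS))
  have hcardA : Nat.card A = p ^ 2 := by
    refine le_antisymm (hn ▸ Nat.pow_le_pow_right (Fact.out : p.Prime).pos (by omega)) ?_
    rw [← hA.card_line hxA s.ne_one hwA hwX]
    exact Subgroup.card_le_of_le (sup_le (zpowers_le.mpr hxA) (zpowers_le.mpr hwA))
  have hS'T : T ≤ normalizer (S' : Set G) :=
    le_normalizer_commutator hTA le_normalizer
  have hS'0 : S' ≠ ⊥ := fun h => hw1 (mem_bot.mp (h ▸ hwS))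
  have hlt2 : ⁅S', T⁆ < S' :=
    Coprime.commutator_lt_of_isNilpotent (hS'lt.le.trans le_sup_left) hS'0 hS'T
  have hpow : ∀ H : Subgroup G, ∀ K : Subgroup G, H < K → Nat.card H < Nat.card K := by
    intro H K h
    by_contra hc
    exact h.ne (eq_of_le_of_card_ge h.le (not_lt.mp hc))
  obtain ⟨a, ha⟩ := (hP.to_le (hS'lt.le.trans hAP)).exists_card_eq
  obtain ⟨b, hb⟩ := (hP.to_le ((hlt2.le.trans hS'lt.le).trans hAP)).exists_card_eq
  have hp1 := (Fact.out : p.Prime).one_lt
  have ha2 : a < 2 := (Nat.pow_lt_pow_iff_right hp1).mp (ha ▸ hcardA ▸ hpow _ _ hS'lt)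
  have hb0 : b < a := (Nat.pow_lt_pow_iff_right hp1).mp (ha ▸ hb ▸ hpow _ _ hlt2)
  have hbot : ⁅S', T⁆ = ⊥ := Subgroup.eq_bot_of_card_eq _ (by rw [hb, show b = 0 by omega, pow_zero])
  have hwt : Commute t w := by
    have := mem_bot.mp (hbot ▸ commutator_mem_commutator hwS (mem_sup_right (mem_zpowers t) : t ∈ T))
    exact (commutatorElement_eq_one_iff_commute.mp this).symm
  refine s.false_of_line hp (t := w) (hA.exp w hwA) (mem_centralizer_iff.mp (hA.comm hwA) x hxA)
    hwX fun i => ⟨t ^ i, ?_⟩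
  induction i with
  | zero => simp
  | succ i ih =>
    have h1 : t * x * t⁻¹ = w * x := by simp [w]
    rw [show t ^ (i + 1) * x * (t ^ (i + 1))⁻¹ = t * (t ^ i * x * (t ^ i)⁻¹) * t⁻¹ by
      simp [pow_succ', mul_assoc], ← ih]
    calc x * w ^ (i + 1) = (x * w) * w ^ i := by rw [pow_succ', ← mul_assoc]
      _ = (t * x * t⁻¹) * w ^ i := by rw [h1, mem_centralizer_iff.mp (hA.comm hwA) x hxA]
      _ = (t * x * t⁻¹) * (t * w ^ i * t⁻¹) := by
        rw [show t * w ^ i * t⁻¹ = w ^ i by rw [(hwt.pow_right i).eq, mul_inv_cancel_right]]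
      _ = _ := by group

end Setting

end Cfsg.Agent.SecondFitting
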