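import Cfsg.Agent.Lib.SecondFitting.SylowBig
import Cfsg.Agent.Lib.SecondFitting.Fours

/-!
Good primes when `x` has no other commuting conjugates: the case `p = 3`, `q = 2`.
-/

set_option autoImplicit false
set_option linter.style.haveILetI false
set_option linter.unusedSectionVars false

namespace Cfsg.Agent.SecondFitting

open Subgroup
open scoped Pointwise commutatorElement

universe u

variable {G : Type u} [Group G] [Finite G] {x : G}

/-- The facts available in the residual case. -/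
structure Residual (x : G) (Q : Subgroup G) (t₀ : G) : Prop where
  setting : Setting 3 x
  good : Good 3 x 2
  isol : ∀ h : G, Commute x (h * x * h⁻¹) → h * x * h⁻¹ ∈ zpowers x
  le_fixer : Q ≤ fixer 3 x
  isP : IsPGroup 2 Q
  sylow : ¬ 2 ∣ Q.relIndex (fixer 3 x)
  mem : t₀ ∈ Q
  card : Nat.card Q = 2
  ne : t₀ ≠ 1
  inv : t₀ * x * t₀⁻¹ = x⁻¹

theorem selfFour_subgroupOf {W R : Subgroup G} (hWR : W ≤ R) (hc : Nat.card W = 4)
    (hcomm : W ≤ Subgroup.centralizer (W : Set G)) (hsq : ∀ a ∈ W, a ^ 2 = 1)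
    (hself : R ⊓ Subgroup.centralizer (W : Set G) ≤ W) : SelfFour (W.subgroupOf R) := by
  refine ⟨by rw [Nat.card_congr (subgroupOfEquivOfLe hWR).toEquiv, hc],
    fun a ha => mem_centralizer_iff.mpr fun b hb =>
      Subtype.ext (mem_centralizer_iff.mp (hcomm ha) b hb),
    fun a ha => Subtype.ext (hsq a ha), fun a ha => mem_subgroupOf.mpr (hself ⟨a.2, ?_⟩)⟩
  refine mem_centralizer_iff.mpr fun b hb => ?_
  exact congrArg Subtype.val (mem_centralizer_iff.mp ha ⟨b, hWR hb⟩ (mem_subgroupOf.mpr hb))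

theorem conj_of_subgroupOf {A B R : Subgroup G} (hA : A ≤ R) (hB : B ≤ R) {g : R}
    (h : MulAut.conj g • A.subgroupOf R = B.subgroupOf R) : MulAut.conj (g : G) • A = B := by
  have h2 := congrArg (Subgroup.map R.subtype) h
  rwa [Coprime.map_conj_smul, map_subgroupOf_eq_of_le hA, map_subgroupOf_eq_of_le hB] at h2

theorem conj_centralizer_le {A W : Subgroup G} (g : G) (h : A ≤ Subgroup.centralizer (W : Set G)) :
    MulAut.conj g • A ≤ Subgroup.centralizer ((MulAut.conj g • W : Subgroup G) : Set G) := by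
  intro a ha
  refine mem_centralizer_iff.mpr fun b hb => ?_
  have h2 := mem_centralizer_iff.mp (h (Coprime.mem_conj_smul.mp ha)) _ (Coprime.mem_conj_smul.mp hb)
  calc b * a = g * (g⁻¹ * b * g * (g⁻¹ * a * g)) * g⁻¹ := by group
    _ = g * (g⁻¹ * a * g * (g⁻¹ * b * g)) * g⁻¹ := by rw [h2]
    _ = _ := by group

namespace Residual

variable {Q : Subgroup G} {t₀ : G} (r : Residual x Q t₀)
include r

theorem mem_Q {d : G} (hd : d ∈ Q) : d = 1 ∨ d = t₀ := by
  have hle : zpowers t₀ ≤ Q := zpowers_le.mpr r.mem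
  have ho : orderOf t₀ = 2 := by
    have h := card_dvd_of_le hle
    rw [r.card, Nat.card_zpowers, Nat.dvd_prime Nat.prime_two] at h
    exact h.resolve_left fun e => r.ne (orderOf_eq_one_iff.mp e)
  have heq : zpowers t₀ = Q := eq_of_le_of_card_ge hle (by rw [r.card, Nat.card_zpowers, ho])
  rw [← heq] at hd
  obtain ⟨i, rfl⟩ := (isOfFinOrder_of_finite t₀).mem_powers_iff_mem_zpowers.mpr hd
  show t₀ ^ i = 1 ∨ t₀ ^ i = t₀
  rw [← pow_mod_orderOf, ho]
  rcases Nat.mod_two_eq_zero_or_one i with h | h <;> simp [h]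

theorem le_normalizer_colour {U : Subgroup G} (hU : Colour x 2 U) :
    Q ≤ normalizer (U : Set G) := by
  haveI : Fact (Nat.Prime 2) := ⟨Nat.prime_two⟩
  exact r.le_fixer.trans (fixer_le (by norm_num) hU)

theorem mem_sup {U : Subgroup G} (hU : Colour x 2 U) {a : G} (ha : a ∈ U ⊔ Q) :
    a ∈ U ∨ ∃ u ∈ U, a = u * t₀ := by
  obtain ⟨u, hu, d, hd, rfl⟩ :=
    (Coprime.mem_sup_of_le_normalizer (r.le_normalizer_colour hU)).mp ha
  rcases r.mem_Q hd with rfl | rfl
  · exact Or.inl (by rw [mul_one]; exact hu)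
  · exact Or.inr ⟨u, hu, rfl⟩

theorem fpf {U : Subgroup G} (hU : Colour x 2 U) : U ⊓ Cx x = ⊥ :=
  haveI : Fact (Nat.Prime 3) := ⟨Nat.prime_three⟩
  haveI : Fact (Nat.Prime 2) := ⟨Nat.prime_two⟩
  r.setting.inf_Cx_eq_bot (by norm_num) r.good hU.member.isP

theorem cube : x ^ 3 = 1 := r.setting.order ▸ pow_orderOf_eq_one x

theorem card_mod {R : Subgroup G} {U : Subgroup G} (hU : Colour x 2 U) (hRU : R ≤ U)
    (hx : zpowers x ≤ normalizer (R : Set G)) : Nat.card R % 3 = 1 := by
  haveI : Fact (Nat.Prime 3) := ⟨Nat.prime_three⟩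
  exact r.setting.card_modEq_one hx
    (le_bot_iff.mp ((inf_le_inf_right _ hRU).trans (r.fpf hU).le))

/-- No invariant subgroup of index two in a colour. -/
theorem false_of_index_two {U K : Subgroup G} (hU : Colour x 2 U) (_hKU : K ≤ U)
    (hxK : zpowers x ≤ normalizer (K : Set G)) (hidx : K.relIndex U = 2) : False := by
  have hle : ⁅U, zpowers x⁆ ≤ K := by
    rw [commutator_le]
    intro a ha b hb
    have hbn := hxK hb
    have hb1 : b * a⁻¹ * b⁻¹ ∈ U := (mem_normalizer_iff.mp (hU.member.norm hb) _).mp (inv_mem ha)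
    have h := (mul_mem_iff_of_index_two (H := K.subgroupOf U) hidx (a := ⟨a, ha⟩)
      (b := ⟨_, hb1⟩)).mpr (by
        rw [mem_subgroupOf, mem_subgroupOf]
        exact (inv_mem_iff (x := a)).symm.trans (mem_normalizer_iff.mp hbn a⁻¹))
    rw [mem_subgroupOf] at h
    simpa [commutatorElement_def, mul_assoc] using h
  rw [hU.member.comm] at hle
  rw [relIndex_eq_one.mpr hle] at hidx
  omega

/-- An element outside `U` acting on a subgroup of index at most two by a power `±1`. -/
theorem card_le_four_of_power {U I : Subgroup G} (hU : Colour x 2 U) (hIU : I ≤ U)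
    (hidx : I.relIndex U ≤ 2) {t : G} (ht : t ∈ U ⊔ Q) (htU : t ∉ U)
    (hact : (∀ a ∈ I, t * a * t⁻¹ = a) ∨ (∀ a ∈ I, t * a * t⁻¹ = a⁻¹)) : Nat.card U ≤ 4 := by
  obtain ⟨u, hu, rfl⟩ := (r.mem_sup hU ht).resolve_left htU
  set xi := MulAut.conj x
  have hx3 : ∀ H : Subgroup G, xi • xi • xi • H = H := fun H => by
    rw [← Coprime.conj_smul_mul, ← Coprime.conj_smul_mul, ← sq, ← pow_succ,
      r.cube, Coprime.conj_smul_one]
  set J := I ⊓ (xi • I ⊓ xi • xi • I)
  have hJx : xi • J = J := by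
    show xi • (I ⊓ (xi • I ⊓ xi • xi • I)) = _
    rw [Subgroup.smul_inf, Subgroup.smul_inf, hx3, ← inf_assoc, inf_comm]
  have hxJ : zpowers x ≤ normalizer (J : Set G) :=
    zpowers_le.mpr (Coprime.conj_smul_eq_self_iff.mp hJx)
  have hJ : ∀ {a}, a ∈ J → ∀ n : ℤ, x ^ n * a * (x ^ n)⁻¹ ∈ J := fun ha n =>
    (mem_normalizer_iff.mp (hxJ (mem_zpowers_iff.mpr ⟨n, rfl⟩)) _).mp ha
  set g := u * x⁻¹ * u⁻¹ * x
  have hg : g ∈ U := by
    have : x⁻¹ * u⁻¹ * x ∈ U := by
      simpa using (mem_normalizer_iff.mp (hU.member.norm (inv_mem (mem_zpowers x))) u⁻¹).mp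
        (inv_mem hu)
    have h := mul_mem hu this
    simpa [g, mul_assoc] using h
  have hconj : u * t₀ * x * (u * t₀)⁻¹ = g * x⁻¹ := by
    calc u * t₀ * x * (u * t₀)⁻¹ = u * (t₀ * x * t₀⁻¹) * u⁻¹ := by group
      _ = _ := by rw [r.inv]; simp [g, mul_assoc]
  have key : ∀ b ∈ J, g * b * g⁻¹ = x⁻¹ * b * x := by
    intro b hb
    -- `b = x⁻¹ a x` with `a ∈ J`
    have hb' := hJ hb 1
    rw [zpow_one] at hb'
    set a := x * b * x⁻¹
    set t := u * t₀
    have hxa : x * a * x⁻¹ ∈ J := by simpa using hJ hb' 1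
    have h1 : t * x * t⁻¹ * a * (t * x * t⁻¹)⁻¹ = x * a * x⁻¹ := by
      rcases hact with h | h
      · have e : t⁻¹ * a * t = a := by
          conv_lhs => rw [← h a hb'.1]
          group
        calc t * x * t⁻¹ * a * (t * x * t⁻¹)⁻¹ = t * (x * (t⁻¹ * a * t) * x⁻¹) * t⁻¹ := by group
          _ = t * (x * a * x⁻¹) * t⁻¹ := by rw [e]
          _ = _ := h _ hxa.1
      · have e : t⁻¹ * a * t = a⁻¹ := by
          conv_lhs => rw [← inv_inv a, ← h a hb'.1]
          group
        calc t * x * t⁻¹ * a * (t * x * t⁻¹)⁻¹ = t * (x * (t⁻¹ * a * t) * x⁻¹) * t⁻¹ := by group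
          _ = t * (x * a * x⁻¹)⁻¹ * t⁻¹ := by rw [e]; group
          _ = _ := by rw [h _ (inv_mem hxa.1), inv_inv]
    rw [hconj] at h1
    calc g * b * g⁻¹ = g * x⁻¹ * a * (g * x⁻¹)⁻¹ := by simp [a, mul_assoc]
      _ = x * a * x⁻¹ := h1
      _ = x * x * b * (x * x)⁻¹ := by simp [a, mul_assoc]
      _ = x⁻¹ * b * x := by
        rw [show x * x = x⁻¹ from eq_inv_of_mul_eq_one_left (by rw [← sq, ← pow_succ]; exact r.cube),
          inv_inv]
  have hpow : ∀ n : ℕ, ∀ b ∈ J, g ^ n * b * (g ^ n)⁻¹ = (x⁻¹) ^ n * b * (x⁻¹ ^ n)⁻¹ := by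
    intro n
    induction n with
    | zero => intro b _; simp
    | succ n ih =>
      intro b hb
      have hb' : x⁻¹ * b * x ∈ J := by simpa using hJ hb (-1)
      calc g ^ (n + 1) * b * (g ^ (n + 1))⁻¹ = g ^ n * (g * b * g⁻¹) * (g ^ n)⁻¹ := by
            rw [pow_succ]; group
        _ = g ^ n * (x⁻¹ * b * x) * (g ^ n)⁻¹ := by rw [key b hb]
        _ = _ := by rw [ih _ hb', pow_succ]; group
  have hJbot : J = ⊥ := by
    refine le_bot_iff.mp fun b hb => ?_
    obtain ⟨k, hk⟩ := hU.member.isP ⟨g, hg⟩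
    have hk' : g ^ 2 ^ k = 1 := congrArg Subtype.val hk
    have h := hpow (2 ^ k) b hb
    rw [hk', one_mul, inv_one, mul_one] at h
    have hcomm : Commute (x⁻¹ ^ 2 ^ k) b := mul_inv_eq_iff_eq_mul.mp h.symm
    obtain ⟨m, hm⟩ := exists_pow_eq_self_of_coprime (x := x⁻¹) (n := 2 ^ k)
      (by rw [orderOf_inv, r.setting.order]; exact Nat.Coprime.pow_left k (by norm_num))
    have hc : Commute x⁻¹ b := hm ▸ hcomm.pow_left m
    exact (r.fpf hU).le ⟨hIU hb.1, mem_Cx.mpr (by simpa using hc.inv_left.eq)⟩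
  have hrel : ∀ n : ℕ, (MulAut.conj (x ^ n) • I).relIndex U = I.relIndex U := fun n => by
    conv_lhs => rw [← Coprime.conj_smul_eq_self_iff.mpr
      (hU.member.norm (npow_mem_zpowers x n))]
    rw [Coprime.conj_smul_eq_map, Coprime.conj_smul_eq_map]
    exact relIndex_map_map_of_injective _ _ (MulAut.conj (x ^ n)).injective
  have h1 : Nat.card U ≤ 8 := by
    have h2 : J.relIndex U ≤ I.relIndex U * ((xi • I).relIndex U * (xi • xi • I).relIndex U) :=
      relIndex_inf_le.trans (Nat.mul_le_mul_left _ relIndex_inf_le)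
    rw [hJbot, relIndex_bot_left] at h2
    have e1 : (xi • I).relIndex U = I.relIndex U := by simpa using hrel 1
    have e2 : (xi • xi • I).relIndex U = I.relIndex U := by
      rw [← Coprime.conj_smul_mul, ← sq]; exact hrel 2
    rw [e1, e2] at h2
    calc Nat.card U ≤ _ := h2
      _ ≤ 2 * (2 * 2) := Nat.mul_le_mul hidx (Nat.mul_le_mul hidx hidx)
  have hmod := r.card_mod hU le_rfl hU.member.norm
  obtain ⟨n, hn⟩ := hU.member.isP.exists_card_eq
  rcases Nat.lt_or_ge n 3 with h | h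
  · rw [hn]
    exact le_trans (Nat.pow_le_pow_right (by norm_num) (show n ≤ 2 by omega)) (by norm_num)
  · have : 8 ≤ Nat.card U := by
      rw [hn]; exact le_trans (by norm_num) (Nat.pow_le_pow_right (by norm_num) h)
    omega

theorem omega_mod {U : Subgroup G} (hU : Colour x 2 U) :
    Nat.card (omegaCenter 2 U) % 3 = 1 ∧ Nat.card (omegaCenter 2 U) ≠ 1 ∧
      Nat.card (omegaCenter 2 U) ∣ Nat.card U := by
  haveI : Fact (Nat.Prime 2) := ⟨Nat.prime_two⟩
  exact ⟨r.card_mod hU (omegaCenter_le 2 U)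
      (hU.member.norm.trans (normalizer_le_omegaCenter U)),
    fun h => omegaCenter_ne_bot hU.member.isP hU.ne_bot (Subgroup.eq_bot_of_card_eq _ h),
    card_dvd_of_le (omegaCenter_le 2 U)⟩

/-- A colour has order four and is elementary or has order more than four. -/
theorem four_or_large {U : Subgroup G} (hU : Colour x 2 U) :
    (Nat.card U = 4 ∧ omegaCenter 2 U = U) ∨ 4 < Nat.card U := by
  obtain ⟨h1, h2, h3⟩ := r.omega_mod hU
  have hle := Subgroup.card_le_of_le (omegaCenter_le 2 U)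
  have hpos : 0 < Nat.card (omegaCenter 2 U) := Nat.card_pos
  rcases Nat.lt_or_ge 4 (Nat.card U) with h | h
  · exact Or.inr h
  · exact Or.inl ⟨by omega, eq_of_le_of_card_ge (omegaCenter_le 2 U) (by omega)⟩

theorem not_centralize {U : Subgroup G} (hU : Colour x 2 U) {V : Subgroup G}
    (hVU : V ≤ omegaCenter 2 U) (hV : Nat.card (omegaCenter 2 U) < Nat.card V * Nat.card V)
    {u : G} (hu : u ∈ U) (hc : V ≤ Cx (u * t₀)) : False := by
  haveI : Fact (Nat.Prime 3) := ⟨Nat.prime_three⟩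
  haveI : Fact (Nat.Prime 2) := ⟨Nat.prime_two⟩
  have hQN := r.le_fixer.trans (r.setting.fixer_le_normalizer_zpowers (by norm_num) r.isol)
  have ht : t₀ ∉ Cx x := fun h => by
    have h2 := mem_Cx'.mp h
    rw [r.inv] at h2
    have h3 : x * x = 1 := by
      conv_lhs => arg 1; rw [← h2]
      exact inv_mul_cancel x
    have h4 := r.cube
    rw [pow_succ, sq, h3, one_mul] at h4
    exact r.setting.ne_one h4
  have h := r.setting.card_inf_sq_le (elem_omegaCenter 2 U).comm
    (hU.member.norm.trans (normalizer_le_omegaCenter U))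
    (le_bot_iff.mp ((inf_le_inf_right _ (omegaCenter_le 2 U)).trans (r.fpf hU).le))
    (hQN r.mem) ht
  have hle : V ≤ omegaCenter 2 U ⊓ Cx t₀ := fun v hv => by
    refine ⟨hVU hv, mem_Cx.mpr ?_⟩
    have e1 : u * t₀ * v = v * (u * t₀) := mem_Cx.mp (hc hv)
    have e2 : u * v = v * u := mem_centralizer_iff.mp (omegaCenter_le_centralizer 2 U (hVU hv)) u hu
    calc t₀ * v = u⁻¹ * (u * t₀ * v) := by group
      _ = u⁻¹ * (v * u * t₀) := by rw [e1, ← mul_assoc v u t₀]
      _ = v * t₀ := by rw [← e2]; group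
  have := Nat.mul_le_mul (Subgroup.card_le_of_le hle) (Subgroup.card_le_of_le hle)
  omega

/-- In `U ⊔ Q` a subgroup of index two with a central four-subgroup is `U`. -/
theorem eq_of_candidate {U U' V' : Subgroup G} (hU : Colour x 2 U) (hbig : 4 < Nat.card U)
    (hV : Nat.card (omegaCenter 2 U) = 4) (hS : U' ≤ U ⊔ Q) (hcard : Nat.card U' = Nat.card U)
    (hV' : V' ≤ U') (hsq : ∀ a ∈ V', a ^ 2 = 1) (hV'card : 4 ≤ Nat.card V')
    (hc : U' ≤ Subgroup.centralizer (V' : Set G)) : U' = U := by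
  haveI : Fact (Nat.Prime 2) := ⟨Nat.prime_two⟩
  haveI : Fact (Nat.Prime 3) := ⟨Nat.prime_three⟩
  set I := U ⊓ U'
  have hUQ : Nat.card ↥(U ⊔ Q) = Nat.card U * 2 := by
    obtain ⟨-, h, -⟩ := r.setting.sylow_normalizer (by norm_num) r.good r.isol hU r.le_fixer r.isP
      r.sylow
    rw [h, r.card]
  have hI : I.relIndex U ≤ 2 := by
    have h1 := CharP.card_mul_le_card_sup_mul_card_inf U U'
    have h2 : Nat.card ↥(U ⊔ U') ≤ Nat.card U * 2 :=
      hUQ ▸ Subgroup.card_le_of_le (sup_le le_sup_left hS)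
    have h3 : Nat.card I * I.relIndex U = Nat.card U := by
      rw [← relIndex_bot_left, ← relIndex_bot_left, relIndex_mul_relIndex ⊥ I U bot_le inf_le_left]
    rw [hcard] at h1
    have h4 : Nat.card U ≤ 2 * Nat.card I := by
      refine Nat.le_of_mul_le_mul_left (h1.trans ?_) (Nat.card_pos (α := U))
      rw [← mul_assoc]
      exact Nat.mul_le_mul_right _ h2
    rw [← h3, mul_comm 2] at h4
    exact Nat.le_of_mul_le_mul_left h4 Nat.card_pos
  have hIc : ∀ a ∈ I, ∀ v ∈ V', v * a = a * v := fun a ha v hv =>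
    mem_centralizer_iff.mp (hc ha.2) v hv
  by_cases hVU : V' ≤ U
  swap
  · obtain ⟨t, ht, htU⟩ := SetLike.not_le_iff_exists.mp hVU
    have := r.card_le_four_of_power hU inf_le_left hI (hS (hV' ht)) htU
      (Or.inl fun a ha => mul_inv_eq_iff_eq_mul.mpr (hIc a ha t ht))
    omega
  set V := omegaCenter 2 U
  by_cases hVV : V' ≤ V
  · have e : V' = V := eq_of_le_of_card_ge hVV (by rw [hV]; exact hV'card)
    refine eq_of_le_of_card_ge ?_ hcard.ge
    intro a ha
    by_contra haU
    obtain ⟨u, hu, rfl⟩ := (r.mem_sup hU (hS ha)).resolve_left haU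
    refine r.not_centralize hU (V := V) le_rfl (by rw [hV]; norm_num) hu ?_
    intro v hv
    exact mem_Cx.mpr (mem_centralizer_iff.mp (hc ha) v (e ▸ hv)).symm
  exfalso
  obtain ⟨t, ht, htV⟩ := SetLike.not_le_iff_exists.mp hVV
  have htU : t ∈ U := hVU ht
  set K := U ⊓ Cx t
  have hIK : I ≤ K := fun a ha => ⟨ha.1, mem_Cx.mpr (hIc a ha t ht)⟩
  have hK2 : K.relIndex U = 2 := by
    have hle : K.relIndex U ≤ 2 := (relIndex_le_of_le_left hIK index_ne_zero_of_finite).trans hI
    have hne : K.relIndex U ≠ 1 := fun h => htV ⟨htU, mem_centralizer_iff.mpr fun b hb =>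
      (mem_Cx.mp (relIndex_eq_one.mp h hb).2).symm, hsq t ht⟩
    have hne0 : K.relIndex U ≠ 0 := index_ne_zero_of_finite
    omega
  have htK : t ∈ K := ⟨htU, mem_Cx.mpr rfl⟩
  obtain ⟨u₀, hu₀, hu₀K⟩ : ∃ u₀ ∈ U, u₀ ∉ K := by
    by_contra hall
    push Not at hall
    rw [relIndex_eq_one.mpr hall] at hK2
    omega
  have hmul : ∀ {a b : G}, a ∈ U → b ∈ U → (a * b ∈ K ↔ (a ∈ K ↔ b ∈ K)) := fun {a b} ha hb => by
    have := mul_mem_iff_of_index_two (H := K.subgroupOf U) hK2 (a := ⟨a, ha⟩) (b := ⟨b, hb⟩)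
    simpa [mem_subgroupOf] using this
  have hKn : ∀ a ∈ U, ∀ k ∈ K, a * k * a⁻¹ ∈ K := fun a ha k hk => by
    rw [hmul (mul_mem ha hk.1) (inv_mem ha), hmul ha hk.1, inv_mem_iff]
    simp [hk]
  set z := t⁻¹ * (u₀ * t * u₀⁻¹)
  have hcls : ∀ a ∈ U, (a ∈ K ∧ a * t * a⁻¹ = t) ∨ (a ∉ K ∧ a * t * a⁻¹ = t * z) := by
    intro a ha
    by_cases haK : a ∈ K
    · exact Or.inl ⟨haK, mul_inv_eq_iff_eq_mul.mpr (mem_Cx.mp haK.2).symm⟩
    refine Or.inr ⟨haK, ?_⟩
    have hk : u₀⁻¹ * a ∈ K := (hmul (inv_mem hu₀) ha).mpr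
      ⟨fun h => absurd (inv_mem_iff.mp h) hu₀K, fun h => absurd h haK⟩
    have e : t * (u₀⁻¹ * a) = u₀⁻¹ * a * t := mem_Cx.mp hk.2
    show a * t * a⁻¹ = t * (t⁻¹ * (u₀ * t * u₀⁻¹))
    rw [mul_inv_cancel_left]
    calc a * t * a⁻¹ = u₀ * (u₀⁻¹ * a * t) * a⁻¹ := by group
      _ = u₀ * (t * (u₀⁻¹ * a)) * a⁻¹ := by rw [e]
      _ = _ := by group
  have hu₀t : u₀ * t * u₀⁻¹ = t * z := by simp [z]
  have hzU : z ∈ U := mul_mem (inv_mem htU) (mul_mem (mul_mem hu₀ htU) (inv_mem hu₀))
  have hz1 : z ≠ 1 := fun e => hu₀K ⟨hu₀, mem_Cx.mpr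
    (mul_inv_eq_iff_eq_mul.mp (hu₀t.trans (by rw [e, mul_one]))).symm⟩
  have ht2 : t * t = 1 := by rw [← sq]; exact hsq t ht
  have hztz : z * z = 1 := by
    have hcom : t * (t * z) = t * z * t := mem_Cx.mp (hu₀t ▸ (hKn u₀ hu₀ t htK)).2
    have hzt : t * z = z * t := mul_left_cancel (hcom.trans (mul_assoc _ _ _))
    have h4 : (t * z) * (t * z) = 1 := by
      rw [← hu₀t, ← sq, conj_pow, hsq t ht, mul_one, mul_inv_cancel]
    calc z * z = (t * t) * (z * z) := by rw [ht2, one_mul]
      _ = t * (t * z) * z := by group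
      _ = t * (z * t) * z := by rw [hzt]
      _ = (t * z) * (t * z) := by group
      _ = 1 := h4
  have hzc : ∀ a ∈ U, a * z = z * a := by
    intro a ha
    have e : a * z * a⁻¹ = (a * t * a⁻¹)⁻¹ * ((a * u₀) * t * (a * u₀)⁻¹) := by
      simp [z, mul_assoc]
    have hne : (a * u₀ ∈ K) ↔ a ∉ K := by rw [hmul ha hu₀]; simp [hu₀K]
    refine mul_inv_eq_iff_eq_mul.mp ?_
    rcases hcls a ha with ⟨haK, e1⟩ | ⟨haK, e1⟩ <;>
      rcases hcls _ (mul_mem ha hu₀) with ⟨hbK, e2⟩ | ⟨hbK, e2⟩
    · exact absurd haK (hne.mp hbK)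
    · rw [e, e1, e2, inv_mul_cancel_left]
    · rw [e, e1, e2, mul_inv_rev, inv_mul_cancel_right]
      exact inv_eq_of_mul_eq_one_right hztz
    · exact absurd (hne.mpr haK) hbK
  -- transport by `x`
  have hxU : ∀ {a}, a ∈ U → x * a * x⁻¹ ∈ U := fun ha =>
    (mem_normalizer_iff.mp (hU.member.norm (mem_zpowers x)) _).mp ha
  have hxU' : ∀ {a}, a ∈ U → x⁻¹ * a * x ∈ U := fun ha => by
    simpa using (mem_normalizer_iff.mp (hU.member.norm (inv_mem (mem_zpowers x))) _).mp ha
  set t1 := x * t * x⁻¹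
  set z1 := x * z * x⁻¹
  set t2 := x * t1 * x⁻¹
  set z2 := x * z1 * x⁻¹
  have hcls1 : ∀ a ∈ U, a * t1 * a⁻¹ = t1 ∨ a * t1 * a⁻¹ = t1 * z1 := fun a ha => by
    rcases hcls _ (hxU' ha) with ⟨-, e⟩ | ⟨-, e⟩
    · exact Or.inl (by
        calc a * t1 * a⁻¹ = x * (x⁻¹ * a * x * t * (x⁻¹ * a * x)⁻¹) * x⁻¹ := by
              simp [t1, mul_assoc]
          _ = t1 := by rw [e])
    · exact Or.inr (by
        calc a * t1 * a⁻¹ = x * (x⁻¹ * a * x * t * (x⁻¹ * a * x)⁻¹) * x⁻¹ := by
              simp [t1, mul_assoc]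
          _ = _ := by rw [e]; simp [t1, z1, mul_assoc])
  have hz1U : z1 ∈ U := hxU hzU
  have ht1U : t1 ∈ U := hxU htU
  have hz12 : z1 ≠ z := fun e => hz1 (mem_bot.mp ((r.fpf hU).le
    ⟨hzU, mem_Cx.mpr (mul_inv_eq_iff_eq_mul.mp (show x * z * x⁻¹ = z from e))⟩))
  have hz12' : z2 ≠ z1 := fun e => hz12 (by
    have h := congrArg (fun a => x⁻¹ * a * x) e
    simpa [z2, z1, mul_assoc] using h)
  have hcom : Commute t t1 := by
    rcases hcls t1 ht1U with ⟨-, e⟩ | ⟨-, e⟩
    · exact (mul_inv_eq_iff_eq_mul.mp e).symm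
    rcases hcls1 t htU with e' | e'
    · exact mul_inv_eq_iff_eq_mul.mp e'
    exfalso
    have h1 : t1 * t = t * z * t1 := mul_inv_eq_iff_eq_mul.mp e
    have h2 : t * t1 = t1 * z1 * t := mul_inv_eq_iff_eq_mul.mp e'
    have hz1c : ∀ a ∈ U, a * z1 = z1 * a := fun a ha => by
      calc a * z1 = x * (x⁻¹ * a * x * z) * x⁻¹ := by simp [z1, mul_assoc]
        _ = x * (z * (x⁻¹ * a * x)) * x⁻¹ := by rw [hzc _ (hxU' ha)]
        _ = _ := by simp [z1, mul_assoc]
    have h3 : t * t1 = t * t1 * (z * z1) := by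
      calc t * t1 = t1 * z1 * t := h2
        _ = t1 * t * z1 := by rw [mul_assoc, ← hz1c t htU, ← mul_assoc]
        _ = t * z * t1 * z1 := by rw [h1]
        _ = _ := by rw [mul_assoc t z t1, ← hzc t1 ht1U]; group
    have h4 : z * z1 = 1 := mul_eq_left.mp h3.symm
    exact hz12 (by rw [← inv_eq_of_mul_eq_one_right h4]; exact inv_eq_of_mul_eq_one_right hztz)
  have hcom' : Commute t1 t2 := by
    have := hcom.map (MulAut.conj x).toMonoidHom
    simpa [t1, t2] using this
  have ht3 : x * t2 * x⁻¹ = t := by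
    have h3 := r.cube
    rw [pow_succ, sq] at h3
    have e : x * t2 * x⁻¹ = (x * x * x) * t * (x * x * x)⁻¹ := by simp [t2, t1, mul_assoc]
    rw [e, h3]; simp
  have hcom'' : Commute t2 t := by
    have := hcom'.map (MulAut.conj x).toMonoidHom
    simpa [t2, ht3] using this
  have hπ : t * t1 * t2 = 1 := by
    refine mem_bot.mp ((r.fpf hU).le ⟨mul_mem (mul_mem htU ht1U) (hxU ht1U), mem_Cx.mpr ?_⟩)
    have e : x * (t * t1 * t2) * x⁻¹ = t * t1 * t2 := by
      calc x * (t * t1 * t2) * x⁻¹ = t1 * t2 * (x * t2 * x⁻¹) := by simp [t1, t2, mul_assoc]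
        _ = t1 * t2 * t := by rw [ht3]
        _ = t1 * (t * t2) := by rw [mul_assoc, hcom''.eq]
        _ = _ := by rw [← mul_assoc, ← hcom.eq]
    exact mul_inv_eq_iff_eq_mul.mp e
  have ht12 : t1 * t1 = 1 := by
    simp only [t1]
    rw [← sq, conj_pow, hsq t ht, mul_one, mul_inv_cancel]
  have et2 : t2 = t * t1 := by
    calc t2 = (t1 * (t * t) * t1) * t2 := by rw [ht2, mul_one, ht12, one_mul]
      _ = t1 * t * (t * t1 * t2) := by group
      _ = _ := by rw [hπ, mul_one, hcom.eq]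
  have hKK : ∀ a ∈ K, x⁻¹ * a * x ∈ K := by
    intro a ha
    by_contra hnot
    have h1 : a * t1 * a⁻¹ = t1 * z1 := by
      rcases hcls _ (hxU' ha.1) with ⟨hk, -⟩ | ⟨-, e⟩
      · exact absurd hk hnot
      calc a * t1 * a⁻¹ = x * (x⁻¹ * a * x * t * (x⁻¹ * a * x)⁻¹) * x⁻¹ := by
            simp [t1, mul_assoc]
        _ = _ := by rw [e]; simp [t1, z1, mul_assoc]
    have h2 : a * t2 * a⁻¹ = t2 * z1 := by
      rw [et2]
      calc a * (t * t1) * a⁻¹ = (a * t * a⁻¹) * (a * t1 * a⁻¹) := by group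
        _ = t * (t1 * z1) := by rw [h1, mul_inv_eq_iff_eq_mul.mpr (mem_Cx.mp ha.2).symm]
        _ = _ := (mul_assoc _ _ _).symm
    rcases hcls1 _ (hxU' ha.1) with e | e
    · have e' : a * t2 * a⁻¹ = t2 := by
        calc a * t2 * a⁻¹ = x * (x⁻¹ * a * x * t1 * (x⁻¹ * a * x)⁻¹) * x⁻¹ := by
              simp [t2, mul_assoc]
          _ = t2 := by rw [e]
      have h3 : z1 = 1 := mul_eq_left.mp (h2.symm.trans e')
      exact hz1 (conj_eq_one_iff.mp (show x * z * x⁻¹ = 1 from h3))
    · have e' : a * t2 * a⁻¹ = t2 * z2 := by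
        calc a * t2 * a⁻¹ = x * (x⁻¹ * a * x * t1 * (x⁻¹ * a * x)⁻¹) * x⁻¹ := by
              simp [t2, mul_assoc]
          _ = t2 * z2 := by rw [e]; simp [t2, z2, mul_assoc]
      exact hz12' (mul_left_cancel (h2.symm.trans e')).symm
  refine r.false_of_index_two hU (inf_le_left : K ≤ U) (zpowers_le.mpr ?_) hK2
  have hle : MulAut.conj x⁻¹ • K ≤ K := by
    intro a ha
    rw [Coprime.mem_conj_smul, inv_inv] at ha
    simpa [mul_assoc] using hKK _ ha
  have h5 : x⁻¹ ∈ normalizer (K : Set G) := Coprime.conj_smul_eq_self_iff.mp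
    (eq_of_le_of_card_ge hle (Coprime.card_conj_smul _ _).ge)
  have h6 := inv_mem h5
  rwa [inv_inv] at h6

/-- A `2`-group centralising a colour of order four lies in it. -/
theorem four_self {U R : Subgroup G} (hU : Colour x 2 U) (h4 : Nat.card U = 4)
    (hR : IsPGroup 2 R) (hRc : R ≤ Subgroup.centralizer (U : Set G)) : R ≤ U := by
  haveI : Fact (Nat.Prime 2) := ⟨Nat.prime_two⟩
  haveI : Fact (Nat.Prime 3) := ⟨Nat.prime_three⟩
  obtain ⟨-, hV⟩ := (r.four_or_large hU).resolve_right (by omega)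
  obtain ⟨hSp, -, hmax⟩ := r.setting.sylow_normalizer (by norm_num) r.good r.isol hU r.le_fixer
    r.isP r.sylow
  set N := normalizer (U : Set G)
  set S := U ⊔ Q
  have hSN : S ≤ N := sup_le le_normalizer (r.le_normalizer_colour hU)
  have hRN : R ≤ N := hRc.trans (centralizer_le_normalizer _)
  obtain ⟨P, hP⟩ := (hSp.comap_subtype (K := N)).exists_le_sylow
  have hPS : (P : Subgroup N).map N.subtype = S := by
    have hle : S ≤ (P : Subgroup N).map N.subtype := by
      rw [← map_subgroupOf_eq_of_le hSN]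
      exact Subgroup.map_mono hP
    exact (eq_of_le_of_card_ge hle (hmax _ (P.2.map _) (map_subtype_le _))).symm
  obtain ⟨P', hP'⟩ := (hR.comap_subtype (K := N)).exists_le_sylow
  obtain ⟨k, hk⟩ := MulAction.exists_smul_eq N P P'
  have hRS : R ≤ MulAut.conj (k : G) • S := by
    rw [← hPS, ← Coprime.sylow_map_smul]
    rw [← map_subgroupOf_eq_of_le hRN]
    refine Subgroup.map_mono (hP'.trans ?_)
    rw [← hk]
    exact le_rfl
  intro a ha
  have h1 : (k : G)⁻¹ * a * k ∈ S := Coprime.mem_conj_smul.mp (hRS ha)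
  have hkinv : MulAut.conj (k : G)⁻¹ • U = U := Coprime.conj_smul_eq_self_iff.mpr (inv_mem k.2)
  have h2 : (k : G)⁻¹ * a * k ∈ Subgroup.centralizer (U : Set G) := by
    have h := conj_centralizer_le (k : G)⁻¹ hRc
      (Coprime.mem_conj_smul.mpr (show (k : G)⁻¹⁻¹ * ((k : G)⁻¹ * a * k) * (k : G)⁻¹ ∈ R by
        simpa [mul_assoc] using ha))
    rwa [hkinv] at h
  have h3 : (k : G)⁻¹ * a * k ∈ U := by
    by_contra hnot
    obtain ⟨u, hu, e⟩ := (r.mem_sup hU h1).resolve_left hnot
    rw [e] at h2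
    refine r.not_centralize hU (V := omegaCenter 2 U) le_rfl (by rw [hV, h4]; norm_num) hu ?_
    exact fun v hv => mem_Cx.mpr (mem_centralizer_iff.mp h2 v (omegaCenter_le 2 U hv)).symm
  have := (mem_normalizer_iff.mp k.2 _).mp h3
  simpa [mul_assoc] using this

/-- The Sylow subgroup of the group from a large colour. -/
theorem sylow_large {U : Subgroup G} (hU : Colour x 2 U) (hbig : 4 < Nat.card U) {T : Subgroup G}
    (hT : IsPGroup 2 T) (hST : U ⊔ Q ≤ T) : T = U ⊔ Q := by
  haveI : Fact (Nat.Prime 2) := ⟨Nat.prime_two⟩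
  haveI : Fact (Nat.Prime 3) := ⟨Nat.prime_three⟩
  obtain ⟨h1, h2, -⟩ := r.omega_mod hU
  by_cases h4 : 4 < Nat.card (omegaCenter 2 U)
  · exact r.setting.sylow_of_big (by norm_num) r.good r.isol hU r.le_fixer r.isP r.sylow
      (Or.inr (by simpa using h4)) hT hST
  obtain ⟨-, -, hmax⟩ := r.setting.sylow_normalizer (by norm_num) r.good r.isol hU r.le_fixer
    r.isP r.sylow
  have hV : Nat.card (omegaCenter 2 U) = 4 := by
    have := Nat.card_pos (α := omegaCenter 2 U)
    omega
  refine r.setting.sylow_of_normalizer hmax (fun g hg _ => ?_)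
    (sup_le le_normalizer (r.le_normalizer_colour hU)) hT hST
  rw [← Coprime.conj_smul_eq_self_iff]
  refine r.eq_of_candidate hU hbig hV (V' := MulAut.conj g • omegaCenter 2 U) ?_
    (Coprime.card_conj_smul g U) (Subgroup.pointwise_smul_le_pointwise_smul_iff.mpr
      (omegaCenter_le 2 U)) ((elem_omegaCenter 2 U).conj g).exp
    (by rw [Coprime.card_conj_smul, hV]) ?_
  · rw [← Coprime.conj_smul_eq_self_iff.mpr hg]
    exact Subgroup.pointwise_smul_le_pointwise_smul_iff.mpr le_sup_left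
  · exact conj_centralizer_le g (le_centralizer_iff.mp (omegaCenter_le_centralizer 2 U))

/-- Two large colours are equal. -/
theorem eq_of_large {U U' : Subgroup G} (hU : Colour x 2 U) (hU' : Colour x 2 U')
    (h : 4 < Nat.card U) (h' : 4 < Nat.card U') : U = U' := by
  haveI : Fact (Nat.Prime 2) := ⟨Nat.prime_two⟩
  haveI : Fact (Nat.Prime 3) := ⟨Nat.prime_three⟩
  have hp : (3 : ℕ) ≠ 2 := by norm_num
  wlog hV : Nat.card (omegaCenter 2 U) = 4 generalizing U U'
  · by_cases hV' : Nat.card (omegaCenter 2 U') = 4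
    · exact (this hU' hU h' h hV').symm
    obtain ⟨a1, a2, -⟩ := r.omega_mod hU
    obtain ⟨b1, b2, -⟩ := r.omega_mod hU'
    have := Nat.card_pos (α := omegaCenter 2 U)
    have := Nat.card_pos (α := omegaCenter 2 U')
    exact r.setting.eq_of_big hp r.good r.isol hU hU' r.le_fixer r.isP r.sylow
      (Or.inr (by norm_num; omega)) (Or.inr (by norm_num; omega))
  obtain ⟨hSp, hScard, -⟩ := r.setting.sylow_normalizer hp r.good r.isol hU r.le_fixer r.isP r.sylow
  obtain ⟨hSp', hScard', -⟩ :=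
    r.setting.sylow_normalizer hp r.good r.isol hU' r.le_fixer r.isP r.sylow
  obtain ⟨T, hT⟩ := hSp.exists_le_sylow
  obtain ⟨T', hT'⟩ := hSp'.exists_le_sylow
  have eT := r.sylow_large hU h T.2 hT
  have eT' := r.sylow_large hU' h' T'.2 hT'
  obtain ⟨g, hg⟩ := MulAction.exists_smul_eq G T' T
  have hS : MulAut.conj g • (U' ⊔ Q) = U ⊔ Q := by
    rw [← eT, ← eT', ← hg, Sylow.coe_subgroup_smul]
  have hcard : Nat.card U' = Nat.card U := by
    have h1 : Nat.card ↥(U ⊔ Q) = Nat.card ↥(U' ⊔ Q) := by rw [← hS, Coprime.card_conj_smul]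
    rw [hScard, hScard'] at h1
    exact (Nat.eq_of_mul_eq_mul_right Nat.card_pos h1).symm
  obtain ⟨a1, a2, -⟩ := r.omega_mod hU'
  have hpos := Nat.card_pos (α := omegaCenter 2 U')
  have e := r.eq_of_candidate hU h hV (U' := MulAut.conj g • U')
    (V' := MulAut.conj g • omegaCenter 2 U')
    (hS ▸ Subgroup.pointwise_smul_le_pointwise_smul_iff.mpr le_sup_left)
    ((Coprime.card_conj_smul g U').trans hcard)
    (Subgroup.pointwise_smul_le_pointwise_smul_iff.mpr (omegaCenter_le 2 U'))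
    ((elem_omegaCenter 2 U').conj g).exp (by rw [Coprime.card_conj_smul]; omega)
    (conj_centralizer_le g (le_centralizer_iff.mp (omegaCenter_le_centralizer 2 U')))
  rw [← e] at hU ⊢
  have hy : g⁻¹ * x * g⁻¹⁻¹ ∈ normalizer (U' : Set G) := by
    have hn : MulAut.conj x • MulAut.conj g • U' = MulAut.conj g • U' :=
      Coprime.conj_smul_eq_self_iff.mpr (hU.member.norm (mem_zpowers x))
    rw [inv_inv, ← Coprime.conj_smul_eq_self_iff, Coprime.conj_smul_mul, Coprime.conj_smul_mul, hn,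
      ← Coprime.conj_smul_mul, inv_mul_cancel, Coprime.conj_smul_one]
  have := r.setting.fix_point hp r.good.ne hU' hy
  exact Coprime.conj_smul_eq_self_iff.mpr (by simpa using inv_mem this)

/-- A large colour excludes colours of order four. -/
theorem false_of_large_four {U U' : Subgroup G} (hU : Colour x 2 U) (hU' : Colour x 2 U')
    (h : 4 < Nat.card U) (h' : Nat.card U' = 4) : False := by
  haveI : Fact (Nat.Prime 2) := ⟨Nat.prime_two⟩
  haveI : Fact (Nat.Prime 3) := ⟨Nat.prime_three⟩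
  have hp : (3 : ℕ) ≠ 2 := by norm_num
  obtain ⟨hSp, hScard, -⟩ := r.setting.sylow_normalizer hp r.good r.isol hU r.le_fixer r.isP r.sylow
  obtain ⟨T, hT⟩ := hSp.exists_le_sylow
  have eT := r.sylow_large hU h T.2 hT
  obtain ⟨T', hT'⟩ := hU'.member.isP.exists_le_sylow
  obtain ⟨g, hg⟩ := MulAction.exists_smul_eq G T' T
  set W := MulAut.conj g • U' with hWdef
  set S := U ⊔ Q
  have hWS : W ≤ S := by
    rw [← eT, ← hg, Sylow.coe_subgroup_smul]
    exact Subgroup.pointwise_smul_le_pointwise_smul_iff.mpr hT'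
  obtain ⟨-, hV'⟩ := (r.four_or_large hU').resolve_right (by omega)
  have hel : Elem 2 W := by
    have := (elem_omegaCenter 2 U').conj g
    rwa [hV', ← hWdef] at this
  have hWcard : Nat.card W = 4 := by rw [Coprime.card_conj_smul, h']
  have hWself : ∀ R : Subgroup G, IsPGroup 2 R → R ≤ Subgroup.centralizer (W : Set G) → R ≤ W := by
    intro R hR hRc
    have h1 := r.four_self hU' h' (R := MulAut.conj g⁻¹ • R)
      (by rw [Coprime.conj_smul_eq_map]; exact hR.map _) (by
        have h2 := conj_centralizer_le g⁻¹ hRc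
        rwa [hWdef, Coprime.conj_inv_smul_smul] at h2)
    have h3 := (Subgroup.pointwise_smul_le_pointwise_smul_iff (a := MulAut.conj g)).mpr h1
    rwa [← Coprime.conj_smul_mul, mul_inv_cancel, Coprime.conj_smul_one] at h3
  have hSQ : Nat.card S = Nat.card U * 2 := by rw [hScard, r.card]
  have hU16 : 8 < Nat.card U := by
    obtain ⟨n, hn⟩ := hU.member.isP.exists_card_eq
    have hmod := r.card_mod hU le_rfl hU.member.norm
    rcases Nat.lt_or_ge n 4 with hn4 | hn4
    · interval_cases n <;> simp [hn] at h hmod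
    · rw [hn]; exact lt_of_lt_of_le (by norm_num) (Nat.pow_le_pow_right (by norm_num) hn4)
  by_cases hWU : W ≤ U
  · let xi : Fin 3 → G := fun i => x ^ (i : ℕ)
    have hxi : ∀ i, MulAut.conj (xi i) • U = U := fun i =>
      Coprime.conj_smul_eq_self_iff.mpr (hU.member.norm (npow_mem_zpowers x (i : ℕ)))
    have hle : ∀ i, MulAut.conj (xi i) • W ≤ U := fun i =>
      (Subgroup.pointwise_smul_le_pointwise_smul_iff.mpr hWU).trans (hxi i).le
    have hsf : ∀ i, SelfFour ((MulAut.conj (xi i) • W).subgroupOf U) := fun i => by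
      refine selfFour_subgroupOf (hle i) (by rw [Coprime.card_conj_smul, hWcard]) (hel.conj _).comm
        (hel.conj _).exp ?_
      intro a ha
      rw [Coprime.mem_conj_smul]
      refine hWself (U ⊓ Subgroup.centralizer (W : Set G)) (hU.member.isP.to_le inf_le_left)
        inf_le_right ⟨?_, ?_⟩
      · exact Coprime.mem_conj_smul.mp ((hxi i).ge ha.1)
      · have h2 := conj_centralizer_le (xi i)⁻¹ (A := Subgroup.centralizer
          ((MulAut.conj (xi i) • W : Subgroup G) : Set G)) le_rfl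
          (Coprime.mem_conj_smul.mpr (show (xi i)⁻¹⁻¹ * ((xi i)⁻¹ * a * xi i) * (xi i)⁻¹ ∈
            Subgroup.centralizer ((MulAut.conj (xi i) • W : Subgroup G) : Set G) by
              simpa [mul_assoc] using ha.2))
        rwa [Coprime.conj_inv_smul_smul] at h2
    obtain ⟨i, j, hij, ⟨v, hv⟩⟩ := exists_conj_of_three hU.member.isP (by omega) _ hsf
    have hv' := conj_of_subgroupOf (hle i) (hle j) hv
    -- `u • W = x • W`
    obtain ⟨u, hu, hux⟩ : ∃ u ∈ U, MulAut.conj u • W = MulAut.conj x • W := by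
      have h3 : x * x * x = 1 := by rw [← sq, ← pow_succ]; exact r.cube
      obtain ⟨k, hk, hxk⟩ : ∃ k ∈ U, MulAut.conj (k * xi i) • W = MulAut.conj (xi j) • W :=
        ⟨v, v.2, by rw [Coprime.conj_smul_mul]; exact hv'⟩
      have hkx : ∀ a : G, a ∈ zpowers x → a⁻¹ * k * a ∈ U := fun a ha => by
        simpa using (mem_normalizer_iff.mp (hU.member.norm (inv_mem ha)) k).mp hk
      have e : MulAut.conj ((xi i)⁻¹ * k * xi i) • W = MulAut.conj ((xi i)⁻¹ * xi j) • W := by
        rw [mul_assoc, Coprime.conj_smul_mul, hxk, ← Coprime.conj_smul_mul]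
      have hk1 := hkx (xi i) (npow_mem_zpowers x _)
      have hd : (xi i)⁻¹ * xi j = x ∨ (xi i)⁻¹ * xi j = x * x := by
        have hinv : x⁻¹ = x * x := inv_eq_of_mul_eq_one_right (by rw [← mul_assoc]; exact h3)
        fin_cases i <;> fin_cases j <;> simp [xi, sq] at hij ⊢ <;>
          simp [hinv, mul_assoc] <;> simp [← mul_assoc, h3]
      rcases hd with hd | hd
      · exact ⟨_, hk1, by rw [e, hd]⟩
      · refine ⟨x * ((xi i)⁻¹ * k * xi i)⁻¹ * x⁻¹,
          (mem_normalizer_iff.mp (hU.member.norm (mem_zpowers x)) _).mp (inv_mem hk1), ?_⟩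
        rw [hd] at e
        have e2 := congrArg (MulAut.conj (x * ((xi i)⁻¹ * k * xi i)⁻¹) • ·) e
        simp only [← Coprime.conj_smul_mul] at e2
        rw [inv_mul_cancel_right] at e2
        rw [e2, show x⁻¹ = x * x from inv_eq_of_mul_eq_one_right (by rw [← mul_assoc]; exact h3)]
    haveI := hU.member.isP.isNilpotent
    set D := ⁅U, U⁆
    have hDU : D ≤ U := Coprime.commutator_le_of_le_normalizer le_normalizer
    set N' := W ⊔ D
    have hN'U : N' ≤ U := sup_le hWU hDU
    have hUD : U ≤ normalizer (D : Set G) := le_normalizer_commutator le_normalizer le_normalizer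
    have hUN : U ≤ normalizer (N' : Set G) := by
      refine le_normalizer_iff.mpr fun a ha b hb => ?_
      rw [show a * b * a⁻¹ = ⁅a, b⁆ * b by rw [commutatorElement_def]; group]
      exact mul_mem (mem_sup_right (commutator_mem_commutator ha (hN'U hb))) hb
    have hxD : MulAut.conj x • D = D := Coprime.conj_smul_eq_self_iff.mpr
      ((le_normalizer_commutator hU.member.norm hU.member.norm) (mem_zpowers x))
    have hxN : zpowers x ≤ normalizer (N' : Set G) := by
      rw [zpowers_le, ← Coprime.conj_smul_eq_self_iff, Subgroup.smul_sup, hxD, ← hux]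
      conv_lhs => rw [← Coprime.conj_smul_eq_self_iff.mpr (hUD hu)]
      rw [← Subgroup.smul_sup]
      exact Coprime.conj_smul_eq_self_iff.mpr (hUN hu)
    have hW0 := hsf 0
    have hxi0 : MulAut.conj (xi 0) • W = W := by simp [xi]
    rw [hxi0] at hW0
    obtain ⟨t, htW, htc⟩ : ∃ t ∈ W.subgroupOf U, t ∉ Subgroup.center U := by
      by_contra hall
      push Not at hall
      exact hW0.ne_center (by omega) hall
    obtain ⟨-, hDcard, htD, -⟩ := hW0.class_coset hU.member.isP (by omega) htW htc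
    have hDmap : (commutator U).map U.subtype = D := Subgroup.map_subtype_commutator U
    have hDcard' : Nat.card D * 4 = Nat.card U := by rw [← hDmap, card_subtype, hDcard]
    have hlt1 : D < N' := lt_of_le_of_ne le_sup_right fun e => htD (by
      have : (t : G) ∈ (commutator U).map U.subtype := by
        rw [hDmap, e]; exact mem_sup_left htW
      obtain ⟨t', ht', e'⟩ := this
      exact Subtype.ext e' ▸ ht')
    have hlt2 : N' < U := lt_of_le_of_ne hN'U fun e => by
      have := Coprime.eq_of_le_of_sup_commutator_eq hWU e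
      rw [this] at hWcard
      omega
    have h1 : D.relIndex N' * N'.relIndex U = 4 := by
      rw [relIndex_mul_relIndex D N' U hlt1.le hlt2.le]
      have h3 : Nat.card D * D.relIndex U = Nat.card U := by
        rw [← relIndex_bot_left, ← relIndex_bot_left, relIndex_mul_relIndex ⊥ D U bot_le hDU]
      exact Nat.eq_of_mul_eq_mul_left Nat.card_pos (h3.trans hDcard'.symm)
    have h2 : D.relIndex N' ≠ 1 := fun e => hlt1.not_ge (relIndex_eq_one.mp e)
    have h3 : N'.relIndex U ≠ 1 := fun e => hlt2.not_ge (relIndex_eq_one.mp e)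
    have h4 : N'.relIndex U = 2 := by
      have hd : N'.relIndex U ∈ Nat.divisors 4 := Nat.mem_divisors.mpr ⟨h1 ▸ dvd_mul_left _ _,
        by norm_num⟩
      rw [show Nat.divisors 4 = {1, 2, 4} by decide] at hd
      simp only [Finset.mem_insert, Finset.mem_singleton] at hd
      rcases hd with hd | hd | hd
      · exact absurd hd h3
      · exact hd
      · rw [hd] at h1; omega
    exact r.false_of_index_two hU hN'U hxN h4
  · obtain ⟨t, htW, htU⟩ := SetLike.not_le_iff_exists.mp hWU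
    have hsf : SelfFour (W.subgroupOf S) := selfFour_subgroupOf hWS hWcard hel.comm hel.exp
      (hWself _ (hSp.to_le inf_le_left) inf_le_right)
    set t' : S := ⟨t, hWS htW⟩
    by_cases htc : t' ∈ Subgroup.center S
    · have h4 := r.card_le_four_of_power hU le_rfl (by simp) (hWS htW) htU
        (Or.inl fun a ha => mul_inv_eq_iff_eq_mul.mpr
          (congrArg Subtype.val (mem_center_iff.mp htc ⟨a, mem_sup_left ha⟩).symm))
      omega
    obtain ⟨-, hDcard, -, hcos⟩ := hsf.class_coset hSp (by omega) (mem_subgroupOf.mpr htW :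
      t' ∈ W.subgroupOf S) htc
    set D := ⁅S, S⁆
    have hDmap : (commutator S).map S.subtype = D := Subgroup.map_subtype_commutator S
    have hDU : D ≤ U := by
      rw [commutator_le]
      have hQU := r.le_normalizer_colour hU
      have hU2 : U.relIndex S = 2 := by
        have h3 : Nat.card U * U.relIndex S = Nat.card S := by
          rw [← relIndex_bot_left, ← relIndex_bot_left,
            relIndex_mul_relIndex ⊥ U S bot_le le_sup_left]
        exact Nat.eq_of_mul_eq_mul_left Nat.card_pos (h3.trans hSQ)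
      intro a ha b hb
      have hm := fun c d : S => mul_mem_iff_of_index_two (H := U.subgroupOf S) hU2 (a := c) (b := d)
      have h6 : (⟨a, ha⟩ * ⟨b, hb⟩ * ⟨a, ha⟩⁻¹ * ⟨b, hb⟩⁻¹ : S) ∈ U.subgroupOf S := by
        rw [hm, hm, hm, inv_mem_iff, inv_mem_iff]
        tauto
      simpa [commutatorElement_def, mem_subgroupOf] using h6
    have hDcard' : Nat.card D * 4 = Nat.card S := by rw [← hDmap, card_subtype, hDcard]
    have hidx : D.relIndex U ≤ 2 := by
      have h3 : Nat.card D * D.relIndex U = Nat.card U := by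
        rw [← relIndex_bot_left, ← relIndex_bot_left, relIndex_mul_relIndex ⊥ D U bot_le hDU]
      refine le_of_eq (Nat.eq_of_mul_eq_mul_left (Nat.card_pos (α := D)) ?_)
      rw [h3]; omega
    have h4 := r.card_le_four_of_power hU hDU hidx (hWS htW) htU (Or.inr fun c hc => by
      rw [← hDmap] at hc
      obtain ⟨c', hc', rfl⟩ := hc
      obtain ⟨v, hv⟩ := hcos c' hc'
      have h5 : (t * c') * (t * c') = 1 := by
        have h6 : (v * t' * v⁻¹) * (v * t' * v⁻¹) = 1 := by
          rw [← sq, conj_pow, show t' ^ 2 = 1 from Subtype.ext (hel.exp t htW), mul_one,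
            mul_inv_cancel]
        rw [hv] at h6
        exact congrArg Subtype.val h6
      have ht2 : t⁻¹ = t := inv_eq_of_mul_eq_one_right (by rw [← sq]; exact hel.exp t htW)
      show t * (c' : G) * t⁻¹ = (c' : G)⁻¹
      rw [ht2]
      exact eq_inv_of_mul_eq_one_left (by simpa [mul_assoc] using h5))
    omega

/-- At most two colours of order four. -/
theorem false_of_three_fours {U : Fin 3 → Subgroup G} (hU : ∀ i, Colour x 2 (U i))
    (h4 : ∀ i, Nat.card (U i) = 4) (hinj : Function.Injective U) : False := by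
  haveI : Fact (Nat.Prime 2) := ⟨Nat.prime_two⟩
  haveI : Fact (Nat.Prime 3) := ⟨Nat.prime_three⟩
  have hp : (3 : ℕ) ≠ 2 := by norm_num
  obtain ⟨hSp, hScard, -⟩ :=
    r.setting.sylow_normalizer hp r.good r.isol (hU 0) r.le_fixer r.isP r.sylow
  obtain ⟨T, hT⟩ := hSp.exists_le_sylow
  have hT8 : 4 < Nat.card (T : Subgroup G) := by
    have := Subgroup.card_le_of_le hT
    rw [hScard, h4 0, r.card] at this
    omega
  have hex : ∀ i, ∃ g : G, MulAut.conj g • U i ≤ T := fun i => by
    obtain ⟨T', hT'⟩ := (hU i).member.isP.exists_le_sylow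
    obtain ⟨g, hg⟩ := MulAction.exists_smul_eq G T' T
    refine ⟨g, ?_⟩
    rw [← hg, Sylow.coe_subgroup_smul]
    exact Subgroup.pointwise_smul_le_pointwise_smul_iff.mpr hT'
  choose g hg using hex
  have hsf : ∀ i, SelfFour ((MulAut.conj (g i) • U i).subgroupOf (T : Subgroup G)) := fun i => by
    obtain ⟨-, hV⟩ := (r.four_or_large (hU i)).resolve_right (by have := h4 i; omega)
    have hel : Elem 2 (MulAut.conj (g i) • U i) := by
      have := (elem_omegaCenter 2 (U i)).conj (g i)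
      rwa [hV] at this
    refine selfFour_subgroupOf (hg i) (by rw [Coprime.card_conj_smul, h4]) hel.comm hel.exp ?_
    intro a ha
    rw [Coprime.mem_conj_smul]
    refine r.four_self (hU i) (h4 i) (R := MulAut.conj (g i)⁻¹ •
      ((T : Subgroup G) ⊓ Subgroup.centralizer ((MulAut.conj (g i) • U i : Subgroup G) : Set G)))
      ?_ ?_ ?_
    · rw [Coprime.conj_smul_eq_map]
      exact (T.2.to_le inf_le_left).map _
    · have h := conj_centralizer_le (g i)⁻¹ (A := (T : Subgroup G) ⊓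
        Subgroup.centralizer ((MulAut.conj (g i) • U i : Subgroup G) : Set G)) inf_le_right
      rwa [Coprime.conj_inv_smul_smul] at h
    · rw [Coprime.mem_conj_smul]
      simpa [mul_assoc] using ha
  obtain ⟨i, j, hij, ⟨v, hv⟩⟩ := exists_conj_of_three T.2 hT8 _ hsf
  have hv' := conj_of_subgroupOf (hg i) (hg j) hv
  set c := (g j)⁻¹ * (v : G) * g i
  have hc : MulAut.conj c • U i = U j := by
    simp only [c, Coprime.conj_smul_mul]
    rw [hv', Coprime.conj_inv_smul_smul]
  refine hij (hinj ?_)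
  have hy : c⁻¹ * x * c⁻¹⁻¹ ∈ normalizer (U i : Set G) := by
    have hn : MulAut.conj x • U j = U j :=
      Coprime.conj_smul_eq_self_iff.mpr ((hU j).member.norm (mem_zpowers x))
    rw [inv_inv, ← Coprime.conj_smul_eq_self_iff, Coprime.conj_smul_mul, Coprime.conj_smul_mul, hc,
      hn, ← hc, Coprime.conj_inv_smul_smul]
  have hfix := r.setting.fix_point hp r.good.ne (hU i) hy
  rw [← hc]
  exact (Coprime.conj_smul_eq_self_iff.mpr (by simpa using inv_mem hfix)).symm

end Residual

namespace Setting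

variable {p : ℕ} [Fact p.Prime] (s : Setting p x)
include s

/-- Without other commuting conjugates there are fewer than `p` normalizers of good colours. -/
theorem card_goodNorms_of_isolated (hp : p ≠ 2)
    (hI : ∀ h : G, Commute x (h * x * h⁻¹) → h * x * h⁻¹ ∈ zpowers x) :
    Nat.card (goodNorms p x) ≤ p - 1 := by
  have hpp : p.Prime := Fact.out
  have key : ∀ (q : ℕ), Good p x q → p = 3 ∧ q = 2 ∧ ∀ W : Fin 3 → Subgroup G,
      (∀ i, Colour x 2 (W i)) → ¬ Function.Injective W := by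
    intro q hq
    haveI := Fact.mk hq.prime
    obtain ⟨P⟩ : Nonempty (Sylow q (fixer p x)) := inferInstance
    set Q := (P : Subgroup (fixer p x)).map (fixer p x).subtype
    have hQH : Q ≤ fixer p x := map_subtype_le _
    have hQ : IsPGroup q Q := P.2.map _
    have hQs : ¬ q ∣ Q.relIndex (fixer p x) := by
      have e : Q.relIndex (fixer p x) = (P : Subgroup (fixer p x)).index := by
        rw [Subgroup.relIndex, ← comap_subtype, comap_map_eq_self_of_injective
          (subtype_injective _)]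
      rw [e]
      exact P.not_dvd_index
    obtain ⟨hQN, hQC, hQcyc, hQdvd⟩ := s.sylow_fixer hp hq hI hQH hQ
    obtain ⟨U, U', hU, hU', hne⟩ := hq.two
    have hQ0 : Q ≠ ⊥ := fun h =>
      hne (s.eq_of_big hp hq hI hU hU' hQH hQ hQs (Or.inl h) (Or.inl h))
    have hqd : q ∣ p - 1 := (dvd_card_of_ne_bot hQ hQ0).trans hQdvd
    have hqlt : q < p := lt_of_le_of_lt (Nat.le_of_dvd (by have := hpp.two_le; omega) hqd)
      (by have := hpp.two_le; omega)
    have hsmall : ∀ W : Subgroup G, Colour x q W → ¬ q ^ 2 < Nat.card (omegaCenter q W) →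
        p = 3 ∧ q = 2 := by
      intro W hW hn
      obtain ⟨n, hn'⟩ := (hW.member.isP.to_le (omegaCenter_le q W)).exists_card_eq
      have hmod := s.card_modEq_one (hW.member.norm.trans (normalizer_le_omegaCenter (q := q) W))
        (le_bot_iff.mp ((inf_le_inf_right _ (omegaCenter_le q W)).trans
          (s.inf_Cx_eq_bot hp hq hW.member.isP).le))
      rw [hn'] at hmod hn
      have hn2 : n ≤ 2 := by
        by_contra h2
        exact hn (Nat.pow_lt_pow_right hq.prime.one_lt (by omega))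
      have hn0 : n ≠ 0 := fun e => omegaCenter_ne_bot hW.member.isP hW.ne_bot
        (Subgroup.eq_bot_of_card_eq _ (by rw [hn', e, pow_zero]))
      have hd : p ∣ q ^ n - 1 :=
        (Nat.modEq_iff_dvd' (Nat.one_le_pow _ _ hq.prime.pos)).mp hmod.symm
      obtain rfl | rfl : n = 1 ∨ n = 2 := by omega
      · rw [pow_one] at hd
        have := Nat.le_of_dvd (by have := hq.prime.two_le; omega) hd
        omega
      · have e : q ^ 2 - 1 = (q + 1) * (q - 1) := by
          simpa using Nat.sq_sub_sq q 1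
        rw [e] at hd
        rcases hpp.dvd_mul.mp hd with h | h
        · have := Nat.le_of_dvd (by omega) h
          obtain rfl : p = q + 1 := by omega
          have hq2 : q = 2 := by
            by_contra h2
            have ho : Even (q + 1) := (hq.prime.odd_of_ne_two h2).add_one
            exact hp ((hpp.even_iff).mp ho)
          exact ⟨by omega, hq2⟩
        · have := Nat.le_of_dvd (by have := hq.prime.two_le; omega) h
          omega
    obtain ⟨rfl, rfl⟩ : p = 3 ∧ q = 2 := by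
      by_cases h1 : q ^ 2 < Nat.card (omegaCenter q U)
      · by_cases h2 : q ^ 2 < Nat.card (omegaCenter q U')
        · exact absurd (s.eq_of_big hp hq hI hU hU' hQH hQ hQs (Or.inr h1) (Or.inr h2)) hne
        · exact hsmall U' hU' h2
      · exact hsmall U hU h1
    refine ⟨rfl, rfl, fun W hW hinj => ?_⟩
    have hQ2 : Nat.card Q = 2 := by
      rcases (Nat.dvd_prime Nat.prime_two).mp hQdvd with h | h
      · exact absurd (Subgroup.eq_bot_of_card_eq _ h) hQ0
      · exact h
    obtain ⟨t₀, ht₀, ht1⟩ := Q.bot_or_exists_ne_one.resolve_left hQ0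
    have hinv : t₀ * x * t₀⁻¹ = x⁻¹ := by
      have h3 : x ^ 3 = 1 := s.order ▸ pow_orderOf_eq_one x
      obtain ⟨i, hi⟩ := (isOfFinOrder_of_finite x).mem_powers_iff_mem_zpowers.mpr
        ((mem_normalizer_iff.mp (hQN ht₀) x).mp (mem_zpowers x))
      replace hi : x ^ i = t₀ * x * t₀⁻¹ := hi
      rw [← pow_mod_orderOf, s.order] at hi
      have : i % 3 = 0 ∨ i % 3 = 1 ∨ i % 3 = 2 := by omega
      rcases this with h | h | h <;> rw [h] at hi
      · rw [pow_zero] at hi
        exact absurd (conj_eq_one_iff.mp hi.symm) s.ne_one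
      · rw [pow_one] at hi
        exact absurd (mem_bot.mp (hQC ▸ mem_inf.mpr ⟨ht₀, mem_Cx'.mpr hi.symm⟩)) ht1
      · rw [← hi]
        refine eq_inv_of_mul_eq_one_left ?_
        rw [← pow_succ, h3]
    have r : Residual x Q t₀ := ⟨s, hq, hI, hQH, hQ, hQs, ht₀, hQ2, ht1, hinv⟩
    by_cases hlarge : ∃ i, 4 < Nat.card (W i)
    · obtain ⟨i, hi⟩ := hlarge
      obtain ⟨j, hj⟩ : ∃ j, j ≠ i := exists_ne i
      rcases r.four_or_large (hW j) with ⟨h4, -⟩ | h4
      · exact r.false_of_large_four (hW i) (hW j) hi h4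
      · exact hj (hinj (r.eq_of_large (hW j) (hW i) h4 hi))
    · push Not at hlarge
      exact r.false_of_three_fours hW
        (fun i => ((r.four_or_large (hW i)).resolve_right (not_lt.mpr (hlarge i))).1) hinj
  by_contra hlt
  obtain ⟨N, hN⟩ : ∃ N, N ∈ goodNorms p x := by
    by_contra hno
    push Not at hno
    rw [Set.eq_empty_iff_forall_notMem.mpr hno] at hlt
    simp at hlt
  obtain ⟨q, -, hq, -, -⟩ := hN
  obtain ⟨rfl, -, -⟩ := key q hq
  obtain ⟨⟨f, hf⟩⟩ : Nonempty (Fin 3 ↪ goodNorms 3 x) := by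
    classical
    haveI := Fintype.ofFinite (goodNorms 3 x)
    exact Function.Embedding.nonempty_of_card_le
      (by rw [Fintype.card_fin, ← Nat.card_eq_fintype_card]; omega)
  choose q' U' hgood hcol hnorm using fun i => (f i).2
  have hq2 : ∀ i, q' i = 2 := fun i => (key _ (hgood i)).2.1
  refine (key q hq).2.2 U' (fun i => hq2 i ▸ hcol i) fun i j e => hf (Subtype.ext ?_)
  rw [hnorm i, hnorm j, e]

end Setting

end Cfsg.Agent.SecondFitting
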