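import Cfsg.Agent.Lib.SecondFitting.Local
import Cfsg.Agent.Lib.Coprime.OmegaDetect
import Cfsg.Agent.Lib.Involutions.BaerSuzuki

/-!
No minimal counterexample has all its members inside one nilpotent subgroup.
-/

set_option autoImplicit false
set_option linter.style.haveILetI false
set_option linter.unusedSectionVars false

namespace Cfsg.Agent.SecondFitting

open Subgroup
open scoped Pointwise commutatorElement

universe u

variable {G : Type u} [Group G]

/-- The join of all members. -/
def wall (p : ℕ) (x : G) : Subgroup G :=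
  ⨆ q : {q : ℕ // q.Prime ∧ q ≠ p}, ⨆ R : {R : Subgroup G // Member x (q : ℕ) R}, (R : Subgroup G)

variable [Finite G] {p : ℕ} [Fact p.Prime] {x : G}

theorem member_le_wall {q : ℕ} (hq : q.Prime) (hqp : q ≠ p) {R : Subgroup G} (hR : Member x q R) :
    R ≤ wall p x :=
  le_trans (le_iSup (fun S : {S : Subgroup G // Member x q S} => (S : Subgroup G)) ⟨R, hR⟩)
    (le_iSup (fun r : {q : ℕ // q.Prime ∧ q ≠ p} =>
      ⨆ S : {S : Subgroup G // Member x (r : ℕ) S}, (S : Subgroup G)) ⟨q, hq, hqp⟩)

theorem wall_le {K : Subgroup G}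
    (h : ∀ q : ℕ, q.Prime → q ≠ p → ∀ R : Subgroup G, Member x q R → R ≤ K) : wall p x ≤ K :=
  iSup_le fun q => iSup_le fun R => h q q.2.1 q.2.2 R R.2

theorem conj_wall (g : G) : MulAut.conj g • wall p x = wall p (g * x * g⁻¹) := by
  have hle : ∀ (g y : G), MulAut.conj g • wall p y ≤ wall p (g * y * g⁻¹) := by
    intro g y
    rw [Subgroup.pointwise_smul_subset_iff]
    refine wall_le fun q hq hqp R hR => ?_
    haveI := Fact.mk hq
    rw [← Subgroup.pointwise_smul_subset_iff]
    exact member_le_wall hq hqp (hR.conj g)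
  refine le_antisymm (hle g x) ?_
  rw [Subgroup.subset_pointwise_smul_iff, ← map_inv]
  refine (hle g⁻¹ (g * x * g⁻¹)).trans_eq ?_
  congr 1; group

theorem wall_congr {y : G} (h : zpowers x = zpowers y) : wall p x = wall p y :=
  le_antisymm (wall_le fun _ hq hqp _ hR => haveI := Fact.mk hq; member_le_wall hq hqp (hR.of_zpowers h))
    (wall_le fun _ hq hqp _ hR => haveI := Fact.mk hq; member_le_wall hq hqp (hR.of_zpowers h.symm))

theorem Cx_le_normalizer_wall : Cx x ≤ normalizer (wall p x : Set G) := by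
  intro c hc
  rw [← Coprime.conj_smul_eq_self_iff, conj_wall, mem_Cx'.mp hc]

instance pCore_characteristic {H : Type u} [Group H] (q : ℕ) : (Cfsg.pCore q H).Characteristic :=
  characteristic_iff_map_le.2 fun φ => Cores.map_pCore_le φ.surjective q

/-- A nilpotent subgroup of order prime to `p` normalised by `x` normalises the join of the
members. -/
theorem le_normalizer_wall (hx : orderOf x = p) {V : Subgroup G} (hV : Group.IsNilpotent V)
    (hVp : (Nat.card V).Coprime p) (hxV : zpowers x ≤ normalizer (V : Set G)) :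
    V ≤ normalizer (wall p x : Set G) := by
  haveI := hV
  have h1 : V ≤ ((Cfsg.fittingSubgroup V).map V.subtype) := by
    rw [Cores.fittingSubgroup_eq_top_iff.mpr hV, ← MonoidHom.range_eq_map, range_subtype]
  refine h1.trans ?_
  rw [Cores.fittingSubgroup_eq_iSup, Subgroup.map_iSup, iSup_le_iff]
  rintro ⟨q, hq⟩
  have hqP := Nat.prime_of_mem_primeFactors hq
  haveI := Fact.mk hqP
  have hqp : q ≠ p := by
    rintro rfl
    exact (hqP.coprime_iff_not_dvd.mp hVp.symm) (Nat.dvd_of_mem_primeFactors hq)
  set K := (Cfsg.pCore q V).map V.subtype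
  have hKn : zpowers x ≤ normalizer (K : Set G) :=
    hxV.trans (Cfsg.Agent.Coprime.OmegaDetect.normalizer_le_normalizer_char V (Cfsg.pCore q V))
  have hKq : IsPGroup q K := (Cores.pCore_isPGroup q).map _
  refine (Coprime.commutator_sup_inf_centralizer hKn (coprime_card hx hqp hKq)
    (Or.inl (LocalFlavell.CommutatorFixed.solvable_zpowers x))).ge.trans (sup_le ?_ ?_)
  · exact (member_le_wall hqP hqp (member_commutator hx hqp hKq hKn)).trans le_normalizer
  · exact inf_le_right.trans Cx_le_normalizer_wall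

/-- Mutually normalising nilpotent subgroups of order prime to `p` generate such a subgroup. -/
theorem nilpotent_join {ι : Sort*} (S : ι → Subgroup G)
    (hn : ∀ i, Group.IsNilpotent (S i)) (hc : ∀ i, (Nat.card (S i)).Coprime p)
    (hm : ∀ i j, S i ≤ normalizer (S j : Set G)) :
    Group.IsNilpotent ↥(⨆ i, S i) ∧ (Nat.card ↥(⨆ i, S i)).Coprime p := by
  set V := ⨆ i, S i with hV
  have hnorm : ∀ i, ((S i).subgroupOf V).Normal := fun i =>
    (normal_subgroupOf_iff_le_normalizer (le_iSup S i)).mpr (iSup_le fun j => hm j i)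
  have key : ∀ (M : Subgroup V), (∀ i, (S i).subgroupOf V ≤ M) → M = ⊤ := by
    intro M hM
    refine eq_top_iff.mpr ?_
    rw [← map_subtype_le_map_subtype, ← MonoidHom.range_eq_map, range_subtype]
    refine iSup_le fun i => ?_
    rw [← map_subgroupOf_eq_of_le (le_iSup S i)]
    exact Subgroup.map_mono (hM i)
  constructor
  · refine Cores.fittingSubgroup_eq_top_iff.mp (key _ fun i => ?_)
    haveI := hnorm i
    exact Cores.le_fittingSubgroup (Cores.isNilpotent_subgroupOf (hn i) V)
  · have h := Cores.pPrimeCore_card_coprime (G := V) p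
    rw [key (Cfsg.pPrimeCore p V) fun i => ?_, card_top] at h
    · exact h
    · haveI := hnorm i
      refine Cores.le_pPrimeCore ?_
      rw [Nat.card_congr (subgroupOfEquivOfLe (le_iSup S i)).toEquiv]
      exact hc i

theorem coprime_wall (hn : Group.IsNilpotent (wall p x)) : (Nat.card (wall p x)).Coprime p := by
  have h := Cores.pPrimeCore_card_coprime (G := wall p x) p
  suffices e : Cfsg.pPrimeCore p (wall p x) = ⊤ by rwa [e, card_top] at h
  refine eq_top_iff.mpr ?_
  rw [← map_subtype_le_map_subtype, ← MonoidHom.range_eq_map, range_subtype]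
  refine wall_le fun q hq hqp R hR => ?_
  haveI := Fact.mk hq
  rw [← map_subgroupOf_eq_of_le (member_le_wall hq hqp hR)]
  refine Subgroup.map_mono ((le_pCore_of_le_fitting hR.isP.comap_subtype ?_).trans
    (Cores.le_pPrimeCore ?_))
  · rw [Cores.fittingSubgroup_eq_top_iff.mpr hn]; exact le_top
  · obtain ⟨n, hn'⟩ := (Cores.pCore_isPGroup (G := wall p x) q).exists_card_eq
    rw [hn']
    exact ((Nat.coprime_primes Fact.out Fact.out).mpr hqp).pow_left n

namespace Setting

variable (s : Setting p x)
include s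

theorem wall_nilpotent_conj (hn : Group.IsNilpotent (wall p x)) (g : G) :
    Group.IsNilpotent (wall p (g * x * g⁻¹)) := by
  rw [← conj_wall, Coprime.conj_smul_eq_map]
  exact Cores.isNilpotent_map _ _ hn

/-- Within a `p`-group the joins of members of conjugates normalise each other. -/
theorem wall_le_normalizer (hn : Group.IsNilpotent (wall p x)) :
    ∀ (P : Subgroup G), IsPGroup p P → ∀ g₁ g₂ : G, g₁ * x * g₁⁻¹ ∈ P → g₂ * x * g₂⁻¹ ∈ P →
      wall p (g₂ * x * g₂⁻¹) ≤ normalizer (wall p (g₁ * x * g₁⁻¹) : Set G) := by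
  intro P
  induction hk : Nat.card P using Nat.strong_induction_on generalizing P with
  | _ k ih =>
  intro hP g₁ g₂ h1 h2
  set y := g₁ * x * g₁⁻¹ with hy
  set z := g₂ * x * g₂⁻¹ with hz
  have hyo : orderOf y = p := (s.conj g₁).order
  have hzo : orderOf z = p := (s.conj g₂).order
  haveI := hP.isNilpotent
  rcases eq_top_or_exists_le_coatom (zpowers (⟨z, h2⟩ : P)) with htop | ⟨M, hM, hzM⟩
  · have hPz : P = zpowers z := by
      have := congrArg (Subgroup.map P.subtype) htop
      rw [MonoidHom.map_zpowers, ← MonoidHom.range_eq_map, range_subtype] at this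
      exact this.symm
    have : zpowers y = zpowers z := eq_of_le_of_card_ge (zpowers_le.mpr (hPz ▸ h1))
      (by rw [Nat.card_zpowers, Nat.card_zpowers, hyo, hzo])
    rw [wall_congr this]
    exact le_normalizer
  · haveI hMn : M.Normal :=
      NormalizerCondition.normal_of_coatom M Group.normalizerCondition_of_isNilpotent hM
    set P₂ := M.map P.subtype with hP₂
    have hzP₂ : z ∈ P₂ := ⟨⟨z, h2⟩, hzM (mem_zpowers _), rfl⟩
    have hlt : Nat.card P₂ < k := by
      rw [← hk]
      refine lt_of_le_of_ne (card_dvd_of_le (map_subtype_le M) |> Nat.le_of_dvd Nat.card_pos)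
        fun e => hM.1 ?_
      refine eq_top_of_card_eq _ ?_
      rwa [hP₂, card_subtype] at e
    have hP₂p : IsPGroup p P₂ := hP.to_le (map_subtype_le M)
    by_cases hyP₂ : y ∈ P₂
    · exact ih _ hlt P₂ rfl hP₂p g₁ g₂ hyP₂ hzP₂
    let ι := {g : G // g * x * g⁻¹ ∈ P₂}
    set V := ⨆ g : ι, wall p ((g : G) * x * (g : G)⁻¹)
    obtain ⟨hVn, hVp⟩ : Group.IsNilpotent V ∧ (Nat.card V).Coprime p :=
      nilpotent_join _ (fun g => s.wall_nilpotent_conj hn g)
        (fun g => coprime_wall (s.wall_nilpotent_conj hn g))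
        (fun i j => ih _ hlt P₂ rfl hP₂p (j : G) (i : G) j.2 i.2)
    have hyV : zpowers y ≤ normalizer (V : Set G) := by
      rw [zpowers_le, ← Coprime.conj_smul_eq_self_iff]
      refine eq_of_le_of_card_ge ?_ (Coprime.card_conj_smul y V).ge
      rw [Subgroup.pointwise_smul_subset_iff]
      refine iSup_le fun g => ?_
      rw [← Subgroup.pointwise_smul_subset_iff, conj_wall]
      have hg : y * ((g : G) * x * (g : G)⁻¹) * y⁻¹ ∈ P₂ := by
        obtain ⟨m, hm, hme⟩ := g.2
        exact ⟨⟨y, h1⟩ * m * ⟨y, h1⟩⁻¹, hMn.conj_mem m hm _, by simp [← hme]⟩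
      have hg' : y * (g : G) * x * (y * (g : G))⁻¹ ∈ P₂ := by simpa [mul_assoc] using hg
      refine le_trans (le_of_eq ?_) (le_iSup (fun g : ι => wall p ((g : G) * x * (g : G)⁻¹))
        ⟨y * (g : G), hg'⟩)
      congr 1; simp [mul_assoc]
    exact (le_iSup (fun g : ι => wall p ((g : G) * x * (g : G)⁻¹)) ⟨g₂, hzP₂⟩).trans
      (le_normalizer_wall hyo hVn hVp hyV)

/-- The contradiction. -/
theorem false_of_wall_nilpotent (hn : Group.IsNilpotent (wall p x)) : False := by
  set W := wall p x with hW
  have hK : ∀ g : G, ∃ K : Subgroup G, K ≠ ⊤ ∧ x ∈ K ∧ g * x * g⁻¹ ∈ K ∧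
      K = Subgroup.closure ({x, g * x * g⁻¹} : Set G) := by
    intro g
    refine ⟨_, fun h => s.two g (eq_top_iff.mpr (h ▸ (closure_le _).mpr ?_)),
      subset_closure (Set.mem_insert _ _), subset_closure (Set.mem_insert_of_mem _ (Set.mem_singleton _)), rfl⟩
    have hx : x ∈ Subgroup.closure ({x, g} : Set G) := subset_closure (Set.mem_insert _ _)
    have hg : g ∈ Subgroup.closure ({x, g} : Set G) := subset_closure (Set.mem_insert_of_mem _ rfl)
    intro a ha
    rcases ha with rfl | rfl
    · exact hx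
    · exact mul_mem (mul_mem hg hx) (inv_mem hg)
  by_cases hmem : ∃ q : ℕ, q.Prime ∧ q ≠ p ∧ ∃ R : Subgroup G, Member x q R ∧ R ≠ ⊥
  · obtain ⟨q, hq, hqp, R, hR, hR0⟩ := hmem
    haveI := Fact.mk hq
    have hpair : ∀ g : G, Group.IsNilpotent ↥(W ⊔ wall p (g * x * g⁻¹)) := by
      intro g
      obtain ⟨K, hK, hxK, hyK, hKc⟩ := hK g
      set y := g * x * g⁻¹
      have hQ : IsPGroup p (↥K ⧸ Cfsg.fittingSubgroup ↥K) := by
        refine isPGroup_quotient_fitting ({⟨x, hxK⟩, ⟨y, hyK⟩} : Set K) ?_ ?_
        · refine Subgroup.map_injective K.subtype_injective ?_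
          rw [MonoidHom.map_closure, ← MonoidHom.range_eq_map, range_subtype, Set.image_insert_eq,
            Set.image_singleton]
          exact hKc.symm
        · intro a ha
          rcases ha with rfl | rfl
          · exact ⟨isPGroup_zpowers (a := 1) (by rw [pow_one, orderOf_mk, s.order]),
              (s.loc' hK hxK).2⟩
          · exact ⟨isPGroup_zpowers (a := 1) (by rw [pow_one, orderOf_mk, (s.conj g).order]),
              (s.loc g K hK hyK).2⟩
      obtain ⟨P, hP⟩ := (isPGroup_zpowers (p := p) (x := (⟨x, hxK⟩ : K)) (a := 1)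
        (by rw [pow_one, orderOf_mk, s.order])).exists_le_sylow
      obtain ⟨f, hf, hfy⟩ := exists_conj_mem_sylow (y := (⟨y, hyK⟩ : K))
        (isPGroup_zpowers (a := 1) (by rw [pow_one, orderOf_mk, (s.conj g).order])) hQ P
      have hf' : (f : G) ∈ normalizer (W : Set G) := by
        refine le_normalizer_wall s.order (V := (primeCores p ↥K).map K.subtype) ?_ ?_ ?_
          ⟨f, hf, rfl⟩
        · exact Cores.isNilpotent_map _ _ (Cores.isNilpotent_to_le (iSup_le fun q =>
            haveI := Fact.mk q.2.1; Cores.pCore_le_fitting _) Cores.fittingSubgroup_isNilpotent)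
        · rw [card_subtype]
          refine (Cores.pPrimeCore_card_coprime (G := ↥K) p).coprime_dvd_left (card_dvd_of_le ?_)
          refine iSup_le fun q => ?_
          haveI := Fact.mk q.2.1
          refine Cores.le_pPrimeCore ?_
          obtain ⟨n, hn'⟩ := (Cores.pCore_isPGroup (G := ↥K) (q : ℕ)).exists_card_eq
          rw [hn']
          exact ((Nat.coprime_primes Fact.out Fact.out).mpr q.2.2).pow_left n
        · refine (zpowers_le.mpr hxK).trans (le_trans ?_ (le_normalizer_map K.subtype))
          rw [normalizer_eq_top, ← MonoidHom.range_eq_map, range_subtype]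
      set h := (f : G)⁻¹ * g
      have hx'' : h * x * h⁻¹ ∈ (P : Subgroup K).map K.subtype :=
        ⟨f⁻¹ * ⟨y, hyK⟩ * f, hfy, by simp [h, y, mul_assoc]⟩
      have hx1 : (1 : G) * x * (1 : G)⁻¹ ∈ (P : Subgroup K).map K.subtype :=
        ⟨⟨x, hxK⟩, hP (mem_zpowers _), by simp⟩
      have hPp : IsPGroup p ↥((P : Subgroup K).map K.subtype) := P.2.map _
      have a1 := s.wall_le_normalizer hn _ hPp 1 h hx1 hx''
      have a2 := s.wall_le_normalizer hn _ hPp h 1 hx'' hx1
      rw [one_mul, inv_one, mul_one] at a1 a2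
      have e1 : MulAut.conj (f : G) • wall p (h * x * h⁻¹) = wall p y := by
        rw [conj_wall]; congr 1; simp [h, y, mul_assoc]
      have e2 : MulAut.conj (f : G) • W = W := Coprime.conj_smul_eq_self_iff.mpr hf'
      have b1 : wall p y ≤ normalizer (W : Set G) := by
        rw [← e1, ← e2, ← Coprime.conj_smul_normalizer]
        exact Subgroup.pointwise_smul_le_pointwise_smul_iff.mpr a1
      have b2 : W ≤ normalizer (wall p y : Set G) := by
        rw [← e1, ← e2, ← Coprime.conj_smul_normalizer]
        exact Subgroup.pointwise_smul_le_pointwise_smul_iff.mpr a2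
      have hj := (nilpotent_join (p := p) (fun i : Bool => if i then W else wall p y)
        (fun i => by cases i; exacts [s.wall_nilpotent_conj hn g, hn])
        (fun i => by cases i; exacts [coprime_wall (s.wall_nilpotent_conj hn g), coprime_wall hn])
        (fun i j => by cases i <;> cases j; exacts [le_normalizer, b1, b2, le_normalizer])).1
      rw [iSup_bool_eq] at hj
      exact hj
    obtain ⟨N, hN, hNp, hle⟩ := Involutions.BaerSuzuki.baer_suzuki R hR.isP (fun g => by
      set V := W ⊔ wall p (g * x * g⁻¹)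
      rw [← Coprime.conj_smul_eq_map]
      have hsub : ∀ T : Subgroup G, IsPGroup q T → T ≤ V →
          T ≤ (Cfsg.pCore q ↥V).map V.subtype := by
        intro T hT hTV
        rw [← map_subgroupOf_eq_of_le hTV]
        refine Subgroup.map_mono (le_pCore_of_le_fitting hT.comap_subtype ?_)
        rw [Cores.fittingSubgroup_eq_top_iff.mpr (hpair g)]
        exact le_top
      exact ((Cores.pCore_isPGroup q).map _).to_le (sup_le
        (hsub R hR.isP ((member_le_wall hq hqp hR).trans le_sup_left))
        (hsub _ (hR.conj g).isP ((member_le_wall hq hqp (hR.conj g)).trans le_sup_right))))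
    exact hR0 (le_bot_iff.mp (s.fit ▸ hle.trans (haveI := hN; Cores.le_fittingSubgroup hNp.isNilpotent)))
  · push Not at hmem
    obtain ⟨N, hN, hNp, hle⟩ := Involutions.BaerSuzuki.baer_suzuki (zpowers x) s.isP (fun g => by
      obtain ⟨K, hK, hxK, hyK, hKc⟩ := hK g
      have hmemc : ∀ g₀ : G, g₀ * x * g₀⁻¹ ∈ K → g₀ * x * g₀⁻¹ ∈ (Cfsg.pCore p ↥K).map K.subtype := by
        intro g₀ hzK
        set z := g₀ * x * g₀⁻¹
        refine ⟨⟨z, hzK⟩, mem_pCore_of_centralize ?_ (s.loc g₀ K hK hzK).2 fun q hq hqp => ?_, rfl⟩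
        · exact isPGroup_zpowers (a := 1) (by rw [pow_one, orderOf_mk, (s.conj g₀).order])
        · haveI := Fact.mk hq
          have hm : Member z q (ecore z q K) := member_ecore (s.conj g₀).order hqp hzK
          have hm' := hm.conj g₀⁻¹
          rw [show g₀⁻¹ * z * g₀⁻¹⁻¹ = x by simp [z, mul_assoc]] at hm'
          have h0 : ecore z q K = ⊥ := by
            rw [← Coprime.conj_inv_smul_smul g₀⁻¹ (ecore z q K), hmem q hq hqp _ hm', Subgroup.smul_bot]
          refine mem_centralizer_iff.mpr fun a ha => Subtype.ext ?_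
          exact (mem_centralizer_iff.mp
            (Coprime.commutator_eq_bot_iff_le_centralizer'.mp h0 (mem_zpowers z)) a ⟨a, ha, rfl⟩)
      refine ((Cores.pCore_isPGroup (G := ↥K) p).map K.subtype).to_le (sup_le ?_ ?_)
      · simpa using hmemc 1 (by simpa using hxK)
      · rw [MonoidHom.map_zpowers]; exact zpowers_le.mpr (hmemc g hyK))
    exact s.ne_one (mem_bot.mp (s.fit ▸ (haveI := hN; Cores.le_fittingSubgroup hNp.isNilpotent)
      (hle (mem_zpowers x))))

end Setting

end Cfsg.Agent.SecondFitting
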