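import Cfsg.Agent.Lib.SecondFitting.Good
import Cfsg.Agent.Lib.CharP.Basic

/-!
Good primes when `x` has no other commuting conjugates: colours with large central socle.
-/

set_option autoImplicit false
set_option linter.style.haveILetI false
set_option linter.unusedSectionVars false

namespace Cfsg.Agent.SecondFitting

open Subgroup
open scoped Pointwise commutatorElement

universe u

variable {G : Type u} [Group G] [Finite G] {p q : ℕ} [Fact p.Prime] [Fact q.Prime] {x : G}

/-- The central elements of exponent `q` of `U`. -/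
def omegaCenter (q : ℕ) (U : Subgroup G) : Subgroup G where
  carrier := {u | u ∈ U ∧ u ∈ Subgroup.centralizer (U : Set G) ∧ u ^ q = 1}
  one_mem' := ⟨one_mem _, one_mem _, one_pow _⟩
  mul_mem' {a b} ha hb := ⟨mul_mem ha.1 hb.1, mul_mem ha.2.1 hb.2.1, by
    rw [(show Commute a b from (mem_centralizer_iff.mp ha.2.1 b hb.1).symm).mul_pow, ha.2.2, hb.2.2,
      one_mul]⟩
  inv_mem' {a} ha := ⟨inv_mem ha.1, inv_mem ha.2.1, by rw [inv_pow, ha.2.2, inv_one]⟩

theorem omegaCenter_le (q : ℕ) (U : Subgroup G) : omegaCenter q U ≤ U := fun _ h => h.1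

theorem omegaCenter_le_centralizer (q : ℕ) (U : Subgroup G) :
    omegaCenter q U ≤ Subgroup.centralizer (U : Set G) := fun _ h => h.2.1

theorem elem_omegaCenter (q : ℕ) (U : Subgroup G) : Elem q (omegaCenter q U) :=
  ⟨(omegaCenter_le_centralizer q U).trans (centralizer_le (omegaCenter_le q U)), fun _ h => h.2.2⟩

theorem normalizer_le_omegaCenter (U : Subgroup G) :
    normalizer (U : Set G) ≤ normalizer (omegaCenter q U : Set G) := by
  intro g hg
  rw [← Coprime.conj_smul_eq_self_iff]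
  refine eq_of_le_of_card_ge ?_ (Coprime.card_conj_smul g _).ge
  intro a ha
  rw [Coprime.mem_conj_smul] at ha
  obtain ⟨h1, h2, h3⟩ := ha
  have e : a = g * (g⁻¹ * a * g) * g⁻¹ := by group
  have hU : ∀ b, b ∈ U → g⁻¹ * b * g ∈ U := fun b hb => by
    simpa using (mem_normalizer_iff.mp (inv_mem hg) b).mp hb
  refine ⟨e ▸ (mem_normalizer_iff.mp hg _).mp h1, mem_centralizer_iff.mpr fun b hb => ?_, ?_⟩
  · calc b * a = g * ((g⁻¹ * b * g) * (g⁻¹ * a * g)) * g⁻¹ := by group
      _ = g * ((g⁻¹ * a * g) * (g⁻¹ * b * g)) * g⁻¹ := by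
        rw [mem_centralizer_iff.mp h2 _ (hU b hb)]
      _ = a * b := by group
  · rw [e, conj_pow, h3, mul_one, mul_inv_cancel]

theorem omegaCenter_ne_bot {U : Subgroup G} (hU : IsPGroup q U) (h0 : U ≠ ⊥) :
    omegaCenter q U ≠ ⊥ := by
  haveI : Nontrivial U := (Subgroup.nontrivial_iff_ne_bot U).mpr h0
  haveI := hU.center_nontrivial
  have hdvd : q ∣ Nat.card (Subgroup.center U) := by
    obtain ⟨n, hn⟩ := (hU.to_subgroup (Subgroup.center U)).exists_card_eq
    have hn0 : n ≠ 0 := by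
      intro e
      have := Finite.one_lt_card (α := Subgroup.center U)
      rw [hn, e, pow_zero] at this
      omega
    exact hn ▸ dvd_pow_self q hn0
  obtain ⟨⟨⟨c, hc⟩, hcz⟩, ho⟩ := exists_prime_orderOf_dvd_card' q hdvd
  rw [orderOf_mk, orderOf_mk] at ho
  intro h
  have : c ∈ omegaCenter q U := ⟨hc, mem_centralizer_iff.mpr fun b hb =>
    congrArg Subtype.val (mem_center_iff.mp hcz ⟨b, hb⟩), ho ▸ pow_orderOf_eq_one c⟩
  rw [h, mem_bot] at this
  rw [this, orderOf_one] at ho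
  exact (Fact.out : q.Prime).ne_one ho.symm

/-- The join of the elementary abelian subgroups of maximal order. -/
def elemSup (q : ℕ) (S : Subgroup G) : Subgroup G :=
  ⨆ A : {A : Subgroup G // A ≤ S ∧ Elem q A ∧
    ∀ B : Subgroup G, B ≤ S → Elem q B → Nat.card B ≤ Nat.card A}, (A : Subgroup G)

theorem Elem.conj {A : Subgroup G} (hA : Elem q A) (g : G) : Elem q (MulAut.conj g • A) := by
  refine ⟨fun a ha => mem_centralizer_iff.mpr fun b hb => ?_, fun a ha => ?_⟩
  · have ha' := Coprime.mem_conj_smul.mp ha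
    have hb' := Coprime.mem_conj_smul.mp hb
    calc b * a = g * ((g⁻¹ * b * g) * (g⁻¹ * a * g)) * g⁻¹ := by group
      _ = g * ((g⁻¹ * a * g) * (g⁻¹ * b * g)) * g⁻¹ := by
        rw [mem_centralizer_iff.mp (hA.comm ha') _ hb']
      _ = a * b := by group
  · have h := hA.exp _ (Coprime.mem_conj_smul.mp ha)
    rw [show a = g * (g⁻¹ * a * g) * g⁻¹ by group, conj_pow, h, mul_one, mul_inv_cancel]

theorem conj_elemSup (q : ℕ) [Fact q.Prime] (S : Subgroup G) (g : G) :
    elemSup q (MulAut.conj g • S) = MulAut.conj g • elemSup q S := by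
  have key : ∀ (S : Subgroup G) (g : G),
      MulAut.conj g • elemSup q S ≤ elemSup q (MulAut.conj g • S) := by
    intro S g
    rw [Subgroup.pointwise_smul_subset_iff, elemSup]
    refine iSup_le fun ⟨A, hAS, hA, hmax⟩ => ?_
    rw [← Subgroup.pointwise_smul_subset_iff]
    refine le_trans le_rfl (le_iSup (fun A : {A : Subgroup G // A ≤ MulAut.conj g • S ∧ Elem q A ∧
      ∀ B : Subgroup G, B ≤ MulAut.conj g • S → Elem q B → Nat.card B ≤ Nat.card A} =>
        (A : Subgroup G)) ⟨MulAut.conj g • A,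
        Subgroup.pointwise_smul_le_pointwise_smul_iff.mpr hAS, hA.conj g, fun B hB hBe => ?_⟩)
    rw [Coprime.card_conj_smul]
    refine le_of_eq_of_le (Coprime.card_conj_smul g⁻¹ B).symm (hmax _ ?_ (hBe.conj g⁻¹))
    rw [← Coprime.conj_inv_smul_smul g S]
    exact Subgroup.pointwise_smul_le_pointwise_smul_iff.mpr hB
  refine le_antisymm ?_ (key S g)
  have h := key (MulAut.conj g • S) g⁻¹
  rw [Coprime.conj_inv_smul_smul] at h
  have h2 := (Subgroup.pointwise_smul_le_pointwise_smul_iff (a := MulAut.conj g)).mpr h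
  rwa [← Coprime.conj_smul_mul, mul_inv_cancel, Coprime.conj_smul_one] at h2

theorem exists_max_elem (q : ℕ) (S : Subgroup G) : ∃ A : Subgroup G, A ≤ S ∧ Elem q A ∧
    ∀ B : Subgroup G, B ≤ S → Elem q B → Nat.card B ≤ Nat.card A := by
  obtain ⟨A, hA, hmax⟩ := Set.exists_max_image {A : Subgroup G | A ≤ S ∧ Elem q A}
    (fun A => Nat.card A) (Set.toFinite _)
    ⟨⊥, bot_le, bot_le, fun a ha => by rw [mem_bot.mp ha, one_pow]⟩
  exact ⟨A, hA.1, hA.2, fun B hB hBe => hmax B ⟨hB, hBe⟩⟩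

theorem isCyclic_of_inf_Cx {Q : Subgroup G} (hx : orderOf x = p)
    (hQ : Q ≤ normalizer (zpowers x : Set G)) (h0 : Q ⊓ Cx x = ⊥) :
    IsCyclic Q ∧ Nat.card Q ∣ p - 1 := by
  haveI hc : IsCyclic (zpowers x) := inferInstance
  have hcard : Nat.card (zpowers x) = p := by rw [Nat.card_zpowers, hx]
  let f : Q →* MulAut (zpowers x) :=
    (normalizerMonoidHom (zpowers x)).comp (Subgroup.inclusion hQ)
  have hf : Function.Injective f := by
    rw [← MonoidHom.ker_eq_bot_iff]
    refine le_bot_iff.mp fun a ha => Subtype.ext ?_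
    refine mem_bot.mp (h0 ▸ mem_inf.mpr ⟨a.2, mem_Cx'.mpr ?_⟩)
    exact congrArg Subtype.val (MulEquiv.congr_fun (MonoidHom.mem_ker.mp ha) ⟨x, mem_zpowers x⟩)
  haveI : Fact (Nat.card (zpowers x)).Prime := ⟨hcard ▸ Fact.out⟩
  haveI : IsCyclic (ZMod (Nat.card (zpowers x)))ˣ := ZMod.isCyclic_units_prime Fact.out
  haveI : IsCyclic (MulAut (zpowers x)) :=
    isCyclic_of_surjective (IsCyclic.mulAutMulEquiv (zpowers x)).symm.toMonoidHom
      (IsCyclic.mulAutMulEquiv (zpowers x)).symm.surjective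
  refine ⟨isCyclic_of_injective f hf, ?_⟩
  refine (card_dvd_of_injective f hf).trans ?_
  rw [IsCyclic.card_mulAut, hcard, Nat.totient_prime Fact.out]

namespace Setting

variable (s : Setting p x)
include s

theorem card_modEq_one {R : Subgroup G} (hx : zpowers x ≤ normalizer (R : Set G))
    (h0 : R ⊓ Cx x = ⊥) : Nat.card R ≡ 1 [MOD p] := by
  let f : zpowers x →* MulAut R := (normalizerMonoidHom R).comp (Subgroup.inclusion hx)
  letI : MulAction (zpowers x) R := MulAction.compHom R f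
  have h := s.isP.card_modEq_card_fixedPoints R
  have e : Nat.card (MulAction.fixedPoints (zpowers x) R) = 1 := by
    refine Nat.card_eq_one_iff_unique.mpr ⟨⟨fun a b => Subtype.ext ?_⟩,
      ⟨⟨1, fun g => map_one (f g)⟩⟩⟩
    have key : ∀ c : MulAction.fixedPoints (zpowers x) R, (c : R) = 1 := fun c => Subtype.ext (by
      refine mem_bot.mp (h0 ▸ mem_inf.mpr ⟨(c : R).2, mem_Cx.mpr ?_⟩)
      have h2 : x * ((c : R) : G) * x⁻¹ = ((c : R) : G) :=
        congrArg Subtype.val (c.2 ⟨x, mem_zpowers x⟩)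
      exact mul_inv_eq_iff_eq_mul.mp h2)
    rw [key a, key b]
  rwa [e] at h

theorem fixer_le_normalizer_zpowers (hp : p ≠ 2)
    (hI : ∀ h : G, Commute x (h * x * h⁻¹) → h * x * h⁻¹ ∈ zpowers x) :
    fixer p x ≤ normalizer (zpowers x : Set G) := by
  intro g hg
  obtain ⟨K, hK, hxK, hyK, hKc, f, hf, h, hh, rfl⟩ := s.decompose hp g
  have hxH : x ∈ fixer p x := s.Cx_le_fixer hp (mem_Cx.mpr rfl)
  have hKH : K ≤ fixer p x := hKc ▸ (closure_le _).mpr (by
    intro a ha
    rcases ha with rfl | rfl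
    · exact hxH
    · exact mul_mem (mul_mem hg hxH) (inv_mem hg))
  have hCN : Cx x ≤ normalizer (zpowers x : Set G) := Cx_le_normalizer_zpowers x
  refine mul_mem ?_ ?_
  · rw [primeCores, Subgroup.map_iSup] at hf
    refine (iSup_le fun l => ?_ : (⨆ l : {l : ℕ // l.Prime ∧ l ≠ p}, core (l : ℕ) K) ≤ _) hf
    haveI := Fact.mk l.2.1
    refine (Coprime.commutator_sup_inf_centralizer
      ((zpowers_le.mpr hxK).trans (le_normalizer_core _ K))
      (coprime_card s.order l.2.2 (core_isPGroup _ K))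
      (Or.inl (LocalFlavell.CommutatorFixed.solvable_zpowers x))).ge.trans
      (sup_le ?_ (inf_le_right.trans hCN))
    by_cases h0 : ecore x l K = ⊥
    · exact h0.le.trans bot_le
    have hR : Member x l (ecore x l K) := member_ecore s.order l.2.2 hxK
    obtain ⟨W, hW, hRW⟩ := exists_colour hR h0
    refine (le_trans (le_inf hRW ((ecore_le hxK).trans hKH)) ?_).trans hCN
    refine s.inf_fixer_le hp l.2.2 hW (SecondFitting.zpowers_le_normalizer hxH) ?_
    intro r hr hrp V hV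
    haveI := Fact.mk hr
    exact fixer_le hrp hV
  · rw [← Coprime.conj_smul_eq_self_iff]
    refine eq_of_le_of_card_ge ?_ (Coprime.card_conj_smul h _).ge
    rw [Coprime.conj_smul_eq_map, MonoidHom.map_zpowers, zpowers_le]
    exact hI h hh

/-- Fixed points of an element inverting or moving `x` are few. -/
theorem card_inf_sq_le {V : Subgroup G} (hV : V ≤ Subgroup.centralizer (V : Set G))
    (hx : zpowers x ≤ normalizer (V : Set G)) (h0 : V ⊓ Cx x = ⊥) {d : G}
    (hd : d ∈ normalizer (zpowers x : Set G)) (hdx : d ∉ Cx x) :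
    Nat.card ↥(V ⊓ Cx d) * Nat.card ↥(V ⊓ Cx d) ≤ Nat.card V := by
  set D := V ⊓ Cx d
  have hxV : MulAut.conj x • V = V := Coprime.conj_smul_eq_self_iff.mpr (hx (mem_zpowers x))
  have hle : MulAut.conj x • D ≤ V :=
    (Subgroup.pointwise_smul_le_pointwise_smul_iff.mpr inf_le_left).trans hxV.le
  have hbot : D ⊓ MulAut.conj x • D = ⊥ := by
    refine le_bot_iff.mp fun a ha => ?_
    obtain ⟨haD, haD'⟩ := mem_inf.mp ha
    rw [Coprime.mem_conj_smul] at haD'
    set w := x * (d * x⁻¹ * d⁻¹)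
    have hwa : Commute w a := by
      have h1 : d * a = a * d := mem_Cx.mp (haD : a ∈ D).2
      have h2 : d * (x⁻¹ * a * x) = x⁻¹ * a * x * d := mem_Cx.mp (haD' : _ ∈ D).2
      have h1' : d⁻¹ * a = a * d⁻¹ := (show Commute d a from h1).inv_left.eq
      show x * (d * x⁻¹ * d⁻¹) * a = a * (x * (d * x⁻¹ * d⁻¹))
      calc x * (d * x⁻¹ * d⁻¹) * a = x * d * x⁻¹ * (d⁻¹ * a) := by group
        _ = x * (d * (x⁻¹ * a * x)) * x⁻¹ * d⁻¹ := by rw [h1']; group
        _ = x * (x⁻¹ * a * x * d) * x⁻¹ * d⁻¹ := by rw [h2]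
        _ = _ := by group
    have hwX : w ∈ zpowers x :=
      mul_mem (mem_zpowers x) ((mem_normalizer_iff.mp hd x⁻¹).mp (inv_mem (mem_zpowers x)))
    have hw1 : w ≠ 1 := by
      intro e
      refine hdx (mem_Cx'.mpr (inv_injective ?_))
      have e' : d * x⁻¹ * d⁻¹ = x⁻¹ := eq_inv_of_mul_eq_one_right e
      rw [← e']
      group
    have hwo : zpowers w = zpowers x := eq_of_le_of_card_ge (zpowers_le.mpr hwX) (by
      rw [Nat.card_zpowers, Nat.card_zpowers, s.order]
      refine le_of_eq (orderOf_eq_prime ?_ hw1).symm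
      obtain ⟨i, hi⟩ := mem_zpowers_iff.mp hwX
      rw [← hi, ← zpow_natCast, ← zpow_mul, mul_comm, zpow_mul, zpow_natCast,
        ← s.order, pow_orderOf_eq_one, one_zpow])
    have hxa : x ∈ Cx a := by
      have hwC : w ∈ Cx a := mem_Cx.mpr hwa.symm.eq
      exact (zpowers_le.mpr hwC) (hwo.symm ▸ mem_zpowers x)
    exact h0 ▸ mem_inf.mpr ⟨(haD : a ∈ D).1, mem_Cx.mpr (mem_Cx.mp hxa).symm⟩
  have hn : MulAut.conj x • D ≤ normalizer (D : Set G) :=
    ((hle.trans hV).trans (centralizer_le inf_le_left)).trans (centralizer_le_normalizer _)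
  have h := Subgroup.card_le_of_le (sup_le (inf_le_left : D ≤ V) hle)
  rwa [card_sup_of_inf_eq_bot hn hbot, Coprime.card_conj_smul] at h

/-- The facts about a Sylow subgroup of the stabilizer. -/
theorem sylow_fixer (hp : p ≠ 2) (hq : Good p x q)
    (hI : ∀ h : G, Commute x (h * x * h⁻¹) → h * x * h⁻¹ ∈ zpowers x) {Q : Subgroup G}
    (hQH : Q ≤ fixer p x) (hQ : IsPGroup q Q) :
    Q ≤ normalizer (zpowers x : Set G) ∧ Q ⊓ Cx x = ⊥ ∧ IsCyclic Q ∧ Nat.card Q ∣ p - 1 :=
  have h1 := hQH.trans (s.fixer_le_normalizer_zpowers hp hI)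
  have h2 := s.inf_Cx_eq_bot hp hq hQ
  ⟨h1, h2, isCyclic_of_inf_Cx s.order h1 h2⟩

/-- The elementary subgroups of maximal order of `U ⊔ Q` are in `U`. -/
theorem elemSup_spec (hp : p ≠ 2) (hq : Good p x q)
    (hI : ∀ h : G, Commute x (h * x * h⁻¹) → h * x * h⁻¹ ∈ zpowers x) {U Q : Subgroup G}
    (hU : Colour x q U) (hQH : Q ≤ fixer p x) (hQ : IsPGroup q Q)
    (hbig : Q = ⊥ ∨ q ^ 2 < Nat.card (omegaCenter q U)) :
    elemSup q (U ⊔ Q) ≤ U ∧ elemSup q (U ⊔ Q) ≠ ⊥ ∧
      zpowers x ≤ normalizer (elemSup q (U ⊔ Q) : Set G) := by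
  have hqq : q.Prime := Fact.out
  obtain ⟨hQN, hQC, hQcyc, -⟩ := s.sylow_fixer hp hq hI hQH hQ
  set S := U ⊔ Q
  set V := omegaCenter q U
  have hQU : Q ≤ normalizer (U : Set G) := hQH.trans (fixer_le hq.ne hU)
  have hVU : V ≤ U := omegaCenter_le q U
  have hmaxU : ∀ A : Subgroup G, A ≤ S → Elem q A →
      (∀ B : Subgroup G, B ≤ S → Elem q B → Nat.card B ≤ Nat.card A) → A ≤ U := by
    intro A hAS hA hmax
    rcases hbig with rfl | hV
    · simpa [S] using hAS
    by_contra hAU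
    obtain ⟨a, haA, haU⟩ := SetLike.not_le_iff_exists.mp hAU
    obtain ⟨u, hu, d, hdQ, rfl⟩ := (Coprime.mem_sup_of_le_normalizer hQU).mp (hAS haA)
    have hd1 : d ≠ 1 := fun e => haU (by rw [e, mul_one]; exact hu)
    have hdx : d ∉ Cx x := fun h => hd1 (mem_bot.mp (hQC ▸ mem_inf.mpr ⟨hdQ, h⟩))
    -- `A` meets `U` in a subgroup of index at most `q`
    set R := (U ⊔ A) ⊓ Q
    have hAN : A ≤ normalizer (U : Set G) := hAS.trans (sup_le le_normalizer hQU)
    have hR : ∀ r ∈ R, r ^ q = 1 := by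
      rintro r ⟨hr, hrQ⟩
      obtain ⟨v, hv, b, hb, rfl⟩ := (Coprime.mem_sup_of_le_normalizer hAN).mp hr
      obtain ⟨v', hv', e⟩ : ∃ v' ∈ U, (v * b) ^ q = v' * b ^ q := by
        clear * - hv hb hAN
        generalize q = m
        induction m with
        | zero => exact ⟨1, one_mem _, by simp⟩
        | succ m ih =>
          obtain ⟨v', hv', e⟩ := ih
          refine ⟨v' * (b ^ m * v * (b ^ m)⁻¹), mul_mem hv'
            ((mem_normalizer_iff.mp (hAN (pow_mem hb m)) v).mp hv), ?_⟩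
          rw [pow_succ, e, pow_succ]
          group
      rw [hA.exp b hb, mul_one] at e
      have hbot : U ⊓ Q = ⊥ := le_bot_iff.mp
        ((inf_le_inf_left U hQH).trans (s.inf_fixer_eq_bot hp hq hU).le)
      exact mem_bot.mp (hbot ▸ mem_inf.mpr ⟨e ▸ hv', pow_mem hrQ q⟩)
    have hRq : Nat.card R ≤ q := by
      haveI : IsCyclic R := isCyclic_of_injective (Subgroup.inclusion (inf_le_right : R ≤ Q))
        (Subgroup.inclusion_injective _)
      obtain ⟨⟨g, hg⟩, hgen⟩ := IsCyclic.exists_generator (α := R)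
      rw [← orderOf_eq_card_of_forall_mem_zpowers hgen, orderOf_mk]
      exact Nat.le_of_dvd hqq.pos (orderOf_dvd_of_pow_eq_one (hR g hg))
    have hsup : Nat.card ↥(U ⊔ A) ≤ Nat.card U * Nat.card R := by
      have hle : U ⊔ A ≤ U ⊔ R := by
        intro k hk
        have hk' : k ∈ U ⊔ Q := sup_le le_sup_left hAS hk
        obtain ⟨v, hv, r, hr, rfl⟩ := (Coprime.mem_sup_of_le_normalizer hQU).mp hk'
        refine mul_mem (mem_sup_left hv) (mem_sup_right ⟨?_, hr⟩)
        have := mul_mem (mem_sup_left (inv_mem hv) : v⁻¹ ∈ U ⊔ A) hk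
        rwa [inv_mul_cancel_left] at this
      refine (Subgroup.card_le_of_le hle).trans (le_of_eq ?_)
      refine card_sup_of_inf_eq_bot (inf_le_right.trans hQU) (le_bot_iff.mp ?_)
      exact ((inf_le_inf_left U (inf_le_right.trans hQH)).trans (s.inf_fixer_eq_bot hp hq hU).le)
    have h1 := CharP.card_mul_le_card_sup_mul_card_inf U A
    have h1' : Nat.card A ≤ q * Nat.card ↥(U ⊓ A) := by
      refine Nat.le_of_mul_le_mul_left (h1.trans ?_) Nat.card_pos
      rw [← mul_assoc]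
      exact Nat.mul_le_mul_right _ (hsup.trans (Nat.mul_le_mul_left _ hRq))
    -- a bigger elementary subgroup in `U`
    set W := U ⊓ A
    have hWV : ∀ w ∈ W, ∀ v ∈ V, Commute w v := fun w hw v hv =>
      mem_centralizer_iff.mp ((omegaCenter_le_centralizer q U) hv) w hw.1
    have hWle : W ≤ normalizer (V : Set G) :=
      (inf_le_left.trans le_normalizer).trans (normalizer_le_omegaCenter U)
    have hel : Elem q (V ⊔ W) := by
      refine ⟨fun c hc => mem_centralizer_iff.mpr fun b hb => ?_, fun c hc => ?_⟩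
      · obtain ⟨v, hv, w, hw, rfl⟩ := (Coprime.mem_sup_of_le_normalizer hWle).mp hc
        obtain ⟨v', hv', w', hw', rfl⟩ := (Coprime.mem_sup_of_le_normalizer hWle).mp hb
        have e1 : Commute v' v := mem_centralizer_iff.mp ((elem_omegaCenter q U).comm hv) v' hv'
        have e2 : Commute w' w := mem_centralizer_iff.mp (hA.comm hw.2) w' hw'.2
        exact ((e1.mul_left (hWV w' hw' v hv)).mul_right ((hWV w hw v' hv').symm.mul_left e2)).eq
      · obtain ⟨v, hv, w, hw, rfl⟩ := (Coprime.mem_sup_of_le_normalizer hWle).mp hc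
        rw [(hWV w hw v hv).symm.mul_pow, hA.exp w hw.2, (elem_omegaCenter q U).exp v hv, one_mul]
    have hcard := hmax _ (sup_le (hVU.trans le_sup_left) (inf_le_left.trans le_sup_left)) hel
    have h2 := CharP.card_mul_le_card_sup_mul_card_inf V W
    have h3 : Nat.card ↥(V ⊓ W) * Nat.card ↥(V ⊓ W) ≤ Nat.card V := by
      have hxU := hU.member.norm.trans (normalizer_le_omegaCenter (q := q) U)
      refine le_trans (Nat.mul_le_mul ?_ ?_) (s.card_inf_sq_le (elem_omegaCenter q U).comm hxU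
        (le_bot_iff.mp ((inf_le_inf_right _ hVU).trans
          (s.inf_Cx_eq_bot hp hq hU.member.isP).le)) (hQN hdQ) hdx)
      all_goals
        refine Subgroup.card_le_of_le ?_
        rintro v ⟨hv, hvW⟩
        refine ⟨hv, mem_Cx.mpr ?_⟩
        have e1 : (u * d) * v = v * (u * d) := (mem_centralizer_iff.mp (hA.comm haA) v hvW.2).symm
        have e2 : u * v = v * u := mem_centralizer_iff.mp ((omegaCenter_le_centralizer q U) hv) u hu
        calc d * v = u⁻¹ * (u * d * v) := by group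
          _ = u⁻¹ * (v * u * d) := by rw [e1, ← mul_assoc v u d]
          _ = v * d := by rw [← e2]; group
    -- `|V| ≤ q |V ∩ W|`
    have h4 : Nat.card V * Nat.card W ≤ q * Nat.card W * Nat.card ↥(V ⊓ W) :=
      h2.trans (Nat.mul_le_mul_right _ (hcard.trans h1'))
    have h5 : Nat.card V ≤ q * Nat.card ↥(V ⊓ W) := by
      refine Nat.le_of_mul_le_mul_right ?_ (Nat.card_pos (α := W))
      linarith
    have h6 : Nat.card ↥(V ⊓ W) ≤ q :=
      Nat.le_of_mul_le_mul_right (h3.trans h5) Nat.card_pos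
    exact absurd (h5.trans (Nat.mul_le_mul_left q h6)) (by rw [← sq]; exact not_le.mpr hV)
  have hJU : elemSup q S ≤ U := iSup_le fun ⟨A, h1, h2, h3⟩ => hmaxU A h1 h2 h3
  obtain ⟨A, hAS, hA, hmax⟩ := exists_max_elem q S
  have hJ : elemSup q S = elemSup q U := by
    refine le_antisymm (iSup_le fun ⟨B, h1, h2, h3⟩ => ?_) (iSup_le fun ⟨B, h1, h2, h3⟩ => ?_)
    · exact le_iSup (fun A : {A : Subgroup G // A ≤ U ∧ Elem q A ∧
        ∀ B : Subgroup G, B ≤ U → Elem q B → Nat.card B ≤ Nat.card A} => (A : Subgroup G))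
        ⟨B, hmaxU B h1 h2 h3, h2, fun C hC hCe => h3 C (hC.trans le_sup_left) hCe⟩
    · exact le_iSup (fun A : {A : Subgroup G // A ≤ S ∧ Elem q A ∧
        ∀ B : Subgroup G, B ≤ S → Elem q B → Nat.card B ≤ Nat.card A} => (A : Subgroup G))
        ⟨B, h1.trans le_sup_left, h2, fun C hC hCe =>
          (hmax C hC hCe).trans (h3 A (hmaxU A hAS hA hmax) hA)⟩
  refine ⟨hJU, fun h => ?_, ?_⟩
  · have hA0 : A ≤ ⊥ := h ▸ le_iSup (fun A : {A : Subgroup G // A ≤ S ∧ Elem q A ∧
        ∀ B : Subgroup G, B ≤ S → Elem q B → Nat.card B ≤ Nat.card A} => (A : Subgroup G))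
        ⟨A, hAS, hA, hmax⟩
    have h1 := hmax V (hVU.trans le_sup_left) (elem_omegaCenter q U)
    rw [le_bot_iff.mp hA0, Subgroup.card_bot] at h1
    exact omegaCenter_ne_bot hU.member.isP hU.ne_bot (Subgroup.eq_bot_of_card_le _ h1)
  · rw [hJ]
    intro g hg
    rw [← Coprime.conj_smul_eq_self_iff, ← conj_elemSup,
      Coprime.conj_smul_eq_self_iff.mpr (hU.member.norm hg)]

/-- The order of the normalizer of a good colour. -/
theorem card_normalizer_dvd (hp : p ≠ 2) (hq : Good p x q)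
    (hI : ∀ h : G, Commute x (h * x * h⁻¹) → h * x * h⁻¹ ∈ zpowers x) {U : Subgroup G}
    (hU : Colour x q U) : ∃ m : ℕ, m.Coprime q ∧
      Nat.card (normalizer (U : Set G)) ∣ Nat.card U * m * Nat.card (fixer p x) := by
  set L := normalizer (U : Set G)
  have hxL : x ∈ L := hU.member.norm (mem_zpowers x)
  have hL : L ≠ ⊤ := s.normalizer_ne_top_of_isPGroup hU.ne_bot hU.member.isP
  have hHX := s.fixer_le_normalizer_zpowers hp hI
  let ι := {l : ℕ // l.Prime ∧ l ≠ p ∧ l ≠ q}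
  set W := ⨆ l : ι, ecore x (l : ℕ) L
  obtain ⟨-, hWq⟩ : Group.IsNilpotent W ∧ (Nat.card W).Coprime q := by
    refine nilpotent_join (p := q) (fun l : ι => ecore x (l : ℕ) L) (fun l => ?_) (fun l => ?_)
      (fun l l' => ?_)
    all_goals haveI := Fact.mk l.2.1
    · exact (member_ecore s.order l.2.2.1 hxL : Member x (l : ℕ) _).isP.isNilpotent
    · exact coprime_of_isPGroup l.2.2.2 (member_ecore s.order l.2.2.1 hxL : Member x (l : ℕ) _).isP
    · haveI := Fact.mk l'.2.1
      by_cases h : (l : ℕ) = l'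
      · rw [h]; exact le_normalizer
      exact (s.commute l.2.2.1 l'.2.2.1 h hL hxL (member_ecore s.order l.2.2.1 hxL) (ecore_le hxL)
        (member_ecore s.order l'.2.2.1 hxL) (ecore_le hxL)).trans (centralizer_le_normalizer _)
  have hWU : W ≤ normalizer (U : Set G) := iSup_le fun l => haveI := Fact.mk l.2.1; ecore_le hxL
  have hHL : fixer p x ≤ L := fixer_le hq.ne hU
  have hHn : fixer p x ≤ normalizer ((U ⊔ W : Subgroup G) : Set G) :=
    le_normalizer_sup hHL (le_normalizer_iSup _ fun l =>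
      le_normalizer_commutator (hHL.trans (le_normalizer_core _ L)) hHX)
  have htop : L = (U ⊔ W) ⊔ fixer p x := by
    refine le_antisymm (fun g hg => ?_) (sup_le (sup_le le_normalizer hWU) hHL)
    obtain ⟨K, hK, hxK, hyK, hKc, e, he, h, hh, rfl⟩ := s.decompose_parts hp g
    have hKL : K ≤ L := hKc ▸ (closure_le _).mpr (by
      intro a ha
      rcases ha with rfl | rfl
      · exact hxL
      · exact mul_mem (mul_mem hg hxL) (inv_mem hg))
    refine mul_mem (mem_sup_left ?_) (mem_sup_right hh)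
    refine (iSup_le fun l => ?_ :
      (⨆ l : {l : ℕ // l.Prime ∧ l ≠ p}, ecore x (l : ℕ) K) ≤ _) he
    obtain ⟨l, hl, hlp⟩ := l
    haveI := Fact.mk hl
    have hR : Member x l (ecore x l K) := member_ecore s.order hlp hxK
    have hRL : ecore x l K ≤ L := (ecore_le hxK).trans hKL
    by_cases h0 : ecore x l K = ⊥
    · exact h0.le.trans bot_le
    by_cases hlq : l = q
    · subst hlq
      obtain ⟨V, hV, hRV⟩ := exists_colour hR h0
      rw [s.colour_eq_of_common hp hlp hL hxL hV hU hR h0 hRV hRL hU.member hU.ne_bot le_rfl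
        le_normalizer] at hRV
      exact hRV.trans le_sup_left
    · exact (s.le_ecore hlp hL hxL hR hRL).trans
        ((le_iSup (fun l : ι => ecore x (l : ℕ) L) ⟨l, hl, hlp, hlq⟩).trans le_sup_right)
  refine ⟨Nat.card W, hWq, ?_⟩
  have hd : ∀ {A B : Subgroup G}, B ≤ normalizer (A : Set G) →
      Nat.card ↥(A ⊔ B) ∣ Nat.card A * Nat.card B := by
    intro A B h
    haveI : (A.subgroupOf (A ⊔ B)).Normal :=
      normal_subgroupOf_of_le_normalizer (sup_le le_normalizer h)
    have htop : B.subgroupOf (A ⊔ B) ⊔ A.subgroupOf (A ⊔ B) = ⊤ := by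
      rw [← subgroupOf_sup le_sup_right le_sup_left, sup_comm B A, subgroupOf_self]
    have h1 : A.relIndex (A ⊔ B) = A.relIndex B := by
      rw [← relIndex_subgroupOf (H := A) (le_refl (A ⊔ B)), subgroupOf_self, ← htop,
        relIndex_sup_right, relIndex_subgroupOf (le_sup_right : B ≤ A ⊔ B)]
    rw [← relIndex_bot_left (A ⊔ B), ← relIndex_mul_relIndex ⊥ A (A ⊔ B) bot_le le_sup_left,
      relIndex_bot_left, h1]
    exact mul_dvd_mul_left _ (relIndex_dvd_card A B)
  rw [htop]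
  exact (hd hHn).trans (mul_dvd_mul_right (hd hWU) _)

/-- `U ⊔ Q` is a Sylow subgroup of the normalizer. -/
theorem sylow_normalizer (hp : p ≠ 2) (hq : Good p x q)
    (hI : ∀ h : G, Commute x (h * x * h⁻¹) → h * x * h⁻¹ ∈ zpowers x) {U Q : Subgroup G}
    (hU : Colour x q U) (hQH : Q ≤ fixer p x) (hQ : IsPGroup q Q)
    (hQs : ¬ q ∣ Q.relIndex (fixer p x)) :
    IsPGroup q ↥(U ⊔ Q) ∧ Nat.card ↥(U ⊔ Q) = Nat.card U * Nat.card Q ∧
      ∀ R : Subgroup G, IsPGroup q R → R ≤ normalizer (U : Set G) →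
        Nat.card R ≤ Nat.card ↥(U ⊔ Q) := by
  have hQU : Q ≤ normalizer (U : Set G) := hQH.trans (fixer_le hq.ne hU)
  have hcard : Nat.card ↥(U ⊔ Q) = Nat.card U * Nat.card Q :=
    card_sup_of_inf_eq_bot hQU (le_bot_iff.mp
      ((inf_le_inf_left U hQH).trans (s.inf_fixer_eq_bot hp hq hU).le))
  refine ⟨hU.member.isP.to_sup_of_normal_left' hQ hQU, hcard, fun R hR hRN => ?_⟩
  obtain ⟨m, hm, hdvd⟩ := s.card_normalizer_dvd hp hq hI hU
  have h1 := (card_dvd_of_le hRN).trans hdvd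
  have hQH' : Nat.card (fixer p x) = Nat.card Q * Q.relIndex (fixer p x) := by
    rw [← relIndex_bot_left, ← relIndex_bot_left Q, relIndex_mul_relIndex ⊥ Q _ bot_le hQH]
  obtain ⟨n, hn⟩ := hR.exists_card_eq
  have hco : (Nat.card R).Coprime (m * Q.relIndex (fixer p x)) := by
    rw [hn]
    exact Nat.Coprime.pow_left n (hm.symm.mul_right
      ((Fact.out : q.Prime).coprime_iff_not_dvd.mpr hQs))
  have h2 : Nat.card R ∣ Nat.card U * Nat.card Q := by
    refine hco.dvd_of_dvd_mul_right ?_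
    rw [hQH'] at h1
    exact h1.trans (dvd_of_eq (by ring))
  exact hcard ▸ Nat.le_of_dvd (Nat.mul_pos Nat.card_pos Nat.card_pos) h2

/-- A Sylow subgroup of the normalizer with normalizer inside it is one of the group. -/
theorem sylow_of_normalizer {U S : Subgroup G}
    (hS : ∀ R : Subgroup G, IsPGroup q R → R ≤ normalizer (U : Set G) → Nat.card R ≤ Nat.card S)
    (hN : ∀ g : G, g ∈ normalizer (S : Set G) → IsPGroup q ↥(S ⊔ zpowers g) →
      g ∈ normalizer (U : Set G))
    (_hSU : S ≤ normalizer (U : Set G)) {T : Subgroup G} (hT : IsPGroup q T) (hST : S ≤ T) :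
    T = S := by
  refine (eq_of_normalizer_inf_le hT.isNilpotent hST ?_).symm
  set R := T ⊓ normalizer (S : Set G)
  have hRN : R ≤ normalizer (U : Set G) := fun g hg =>
    hN g hg.2 (hT.to_le (sup_le hST (zpowers_le.mpr hg.1)))
  exact (eq_of_le_of_card_ge (le_inf hST le_normalizer : S ≤ R)
    (hS R (hT.to_le inf_le_left) hRN)).ge

/-- For a colour with large central socle `U ⊔ Q` is a Sylow subgroup. -/
theorem sylow_of_big (hp : p ≠ 2) (hq : Good p x q)
    (hI : ∀ h : G, Commute x (h * x * h⁻¹) → h * x * h⁻¹ ∈ zpowers x) {U Q : Subgroup G}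
    (hU : Colour x q U) (hQH : Q ≤ fixer p x) (hQ : IsPGroup q Q)
    (hQs : ¬ q ∣ Q.relIndex (fixer p x))
    (hbig : Q = ⊥ ∨ q ^ 2 < Nat.card (omegaCenter q U)) {T : Subgroup G} (hT : IsPGroup q T)
    (hST : U ⊔ Q ≤ T) : T = U ⊔ Q := by
  obtain ⟨-, -, hmax⟩ := s.sylow_normalizer hp hq hI hU hQH hQ hQs
  obtain ⟨hJU, hJ0, hxJ⟩ := s.elemSup_spec hp hq hI hU hQH hQ hbig
  refine s.sylow_of_normalizer hmax (fun g hg _ => ?_)
    (sup_le le_normalizer (hQH.trans (fixer_le hq.ne hU))) hT hST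
  refine s.normalizer_part_le hp hq hU hJU hJ0 hxJ ?_
  rw [← Coprime.conj_smul_eq_self_iff, ← conj_elemSup, Coprime.conj_smul_eq_self_iff.mpr hg]

/-- Two colours with large central socle are equal. -/
theorem eq_of_big (hp : p ≠ 2) (hq : Good p x q)
    (hI : ∀ h : G, Commute x (h * x * h⁻¹) → h * x * h⁻¹ ∈ zpowers x) {U U' Q : Subgroup G}
    (hU : Colour x q U) (hU' : Colour x q U') (hQH : Q ≤ fixer p x) (hQ : IsPGroup q Q)
    (hQs : ¬ q ∣ Q.relIndex (fixer p x))
    (hbig : Q = ⊥ ∨ q ^ 2 < Nat.card (omegaCenter q U))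
    (hbig' : Q = ⊥ ∨ q ^ 2 < Nat.card (omegaCenter q U')) : U = U' := by
  obtain ⟨hSp, -, -⟩ := s.sylow_normalizer hp hq hI hU hQH hQ hQs
  obtain ⟨hSp', -, -⟩ := s.sylow_normalizer hp hq hI hU' hQH hQ hQs
  obtain ⟨T, hT⟩ := hSp.exists_le_sylow
  obtain ⟨T', hT'⟩ := hSp'.exists_le_sylow
  have eT := s.sylow_of_big hp hq hI hU hQH hQ hQs hbig T.2 hT
  have eT' := s.sylow_of_big hp hq hI hU' hQH hQ hQs hbig' T'.2 hT'
  obtain ⟨g, hg⟩ := MulAction.exists_smul_eq G T T'
  have hS : MulAut.conj g • (U ⊔ Q) = U' ⊔ Q := by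
    rw [← eT, ← eT', ← hg, Sylow.coe_subgroup_smul]
  obtain ⟨hJU, hJ0, hxJ⟩ := s.elemSup_spec hp hq hI hU hQH hQ hbig
  obtain ⟨hJU', hJ0', hxJ'⟩ := s.elemSup_spec hp hq hI hU' hQH hQ hbig'
  rw [← hS, conj_elemSup] at hJU' hJ0' hxJ'
  have hy : g⁻¹ * x * g ∈ normalizer (elemSup q (U ⊔ Q) : Set G) := by
    have h := Coprime.conj_smul_eq_self_iff.mpr (hxJ' (mem_zpowers x))
    rw [← Coprime.conj_smul_eq_self_iff, Coprime.conj_smul_mul, Coprime.conj_smul_mul, h,
      ← Coprime.conj_smul_mul, inv_mul_cancel, Coprime.conj_smul_one]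
  have hgU : g ∈ normalizer (U : Set G) := by
    have := s.fix_point hp hq.ne hU (g := g⁻¹)
      (by rw [inv_inv]; exact s.normalizer_part_le hp hq hU hJU hJ0 hxJ hy)
    simpa using inv_mem this
  refine s.colour_eq_of_le hp hq.ne hU hU'
    (s.member_of_le hp hq (hU'.member.isP.to_le hJU') hxJ') hJ0' ?_ hJU'
  exact (Subgroup.pointwise_smul_le_pointwise_smul_iff.mpr hJU).trans
    (Coprime.conj_smul_eq_self_iff.mpr hgU).le

end Setting

end Cfsg.Agent.SecondFitting
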