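import Cfsg.Agent.Lib.SecondFitting.Cover
import Cfsg.Agent.Lib.Coprime.CommGen.Statement
import Cfsg.Agent.Lib.Coprime.Generation
import Cfsg.Agent.Lib.ZStar.Consequences
import Cfsg.Agent.S0205

/-!
There is no minimal counterexample for the prime two.
-/

set_option autoImplicit false
set_option linter.style.haveILetI false
set_option linter.unusedSectionVars false

namespace Cfsg.Agent.SecondFitting

open Subgroup
open scoped Pointwise commutatorElement

universe u

variable {G : Type u} [Group G] [Finite G]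

theorem mem_zpowers_two {a b : G} (ha : orderOf a = 2) (hb : b ∈ zpowers a) : b = 1 ∨ b = a := by
  obtain ⟨i, rfl⟩ := (isOfFinOrder_of_finite a).mem_powers_iff_mem_zpowers.mpr hb
  show a ^ i = 1 ∨ a ^ i = a
  rw [← pow_mod_orderOf, ha]
  rcases Nat.mod_two_eq_zero_or_one i with h | h <;> simp [h]

/-- If `b` lies in a group `{1, a, b, ab}` and `a` centralises `K` then commutators come from `b`. -/
theorem commutator_le_of_line {A K : Subgroup G} {a b : G} (hab : Commute a b)
    (hA : ∀ c ∈ A, c = 1 ∨ c = a ∨ c = b ∨ c = a * b) (hK : K ≤ Cx a) :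
    ⁅K, A⁆ ≤ ⁅K, zpowers b⁆ := by
  rw [commutator_le]
  intro k hk c hc
  have hka : a * k = k * a := mem_Cx.mp (hK hk)
  rcases hA c hc with rfl | rfl | rfl | rfl
  · simp
  · rw [commutatorElement_eq_one_iff_commute.mpr (show Commute k c from hka.symm)]
    exact one_mem _
  · exact commutator_mem_commutator hk (mem_zpowers _)
  · have e : ⁅k, a * b⁆ = ⁅k, b⁆ := by
      rw [commutatorElement_def, commutatorElement_def, hab.eq]
      calc k * (b * a) * k⁻¹ * (b * a)⁻¹ = k * b * (a * k⁻¹) * a⁻¹ * b⁻¹ := by group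
        _ = k * b * (k⁻¹ * a) * a⁻¹ * b⁻¹ := by
          rw [(show Commute a k from hka).inv_right.eq]
        _ = _ := by group
    rw [e]
    exact commutator_mem_commutator hk (mem_zpowers _)

theorem inf_le_core {q : ℕ} {L L' : Subgroup G} (h : L' ≤ L) : core q L ⊓ L' ≤ core q L' := by
  conv_lhs => rw [← map_subgroupOf_eq_of_le (inf_le_right : core q L ⊓ L' ≤ L')]
  refine Subgroup.map_mono ?_
  haveI : ((core q L ⊓ L').subgroupOf L').Normal :=
    (normal_subgroupOf_iff_le_normalizer inf_le_right).mpr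
      (le_normalizer_inf (h.trans (le_normalizer_core q L)) le_normalizer)
  exact Cores.le_pCore ((core_isPGroup q L).to_le inf_le_left).comap_subtype

variable {x y : G}

/-- The elements `h⁻¹ x h x` are inverted by `x` and generate `D x h`. -/
theorem Dx_eq_zpowers (hx : orderOf x = 2) (h : G) :
    Dx x h = zpowers (h⁻¹ * x * h * x⁻¹) ∧
      x * (h⁻¹ * x * h * x⁻¹) * x⁻¹ = (h⁻¹ * x * h * x⁻¹)⁻¹ := by
  have hxx : x * x = 1 := by rw [← sq, ← hx, pow_orderOf_eq_one]
  have hxi : x⁻¹ = x := inv_eq_of_mul_eq_one_right hxx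
  refine ⟨le_antisymm ((closure_le _).mpr ?_) (zpowers_le.mpr
    (LocalFlavell.CommutatorFixed.mem_D_one x h)), ?_⟩
  · rintro _ ⟨i, rfl⟩
    rcases mem_zpowers_two hx (npow_mem_zpowers x i) with e | e
    · simp [e]
    · simp only [e]; exact mem_zpowers _
  · simp [hxi, mul_assoc, hxx]

/-- An element of odd order inverted by an involution is self-contained. -/
theorem inverted_selfC (hx : orderOf x = 2) {i : G} (hi : x * i * x⁻¹ = i⁻¹)
    (hodd : (orderOf i).Coprime 2) : i ∈ Dx x i ∧ Dx x i = zpowers i := by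
  have hxx : x * x = 1 := by rw [← sq, ← hx, pow_orderOf_eq_one]
  have hxi : x⁻¹ = x := inv_eq_of_mul_eq_one_right hxx
  have e : i⁻¹ * x * i * x⁻¹ = (i ^ 2)⁻¹ := by
    rw [show i⁻¹ * x * i * x⁻¹ = i⁻¹ * (x * i * x⁻¹) by group, hi, sq, mul_inv_rev]
  obtain ⟨hD, -⟩ := Dx_eq_zpowers hx i
  rw [e, zpowers_inv] at hD
  obtain ⟨m, hm⟩ := exists_pow_eq_self_of_coprime (x := i) (n := 2) hodd.symm
  have heq : zpowers (i ^ 2) = zpowers i :=
    le_antisymm (zpowers_le.mpr (pow_mem (mem_zpowers i) 2))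
      (zpowers_le.mpr (mem_zpowers_iff.mpr ⟨m, by rw [zpow_natCast]; exact hm⟩))
  rw [heq] at hD
  exact ⟨hD ▸ mem_zpowers i, hD⟩

theorem exists_inverted (hx : orderOf x = 2) {q : ℕ} {R : Subgroup G} (hR : Member x q R)
    (h0 : R ≠ ⊥) : ∃ i ∈ R, i ≠ 1 ∧ x * i * x⁻¹ = i⁻¹ := by
  by_contra hall
  push Not at hall
  refine h0 (le_bot_iff.mp (hR.comm ▸ LocalFlavell.CommutatorFixed.commutator_le_of_D fun h hh => ?_))
  obtain ⟨hD, hinv⟩ := Dx_eq_zpowers hx h
  have hmem : h⁻¹ * x * h * x⁻¹ ∈ R :=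
    LocalFlavell.CommutatorFixed.D_le (hR.norm (mem_zpowers x)) hh
      (LocalFlavell.CommutatorFixed.mem_D_one x h)
  show Dx x h ≤ ⊥
  rw [hD, zpowers_le, mem_bot]
  by_contra h1
  exact hall _ hmem h1 hinv

/-- The data of two commuting conjugates. -/
theorem false_of_commuting (s : Setting 2 x) {g : G} (hy : y = g * x * g⁻¹) (hc : Commute x y)
    (hne : y ≠ x) : False := by
  haveI : Fact (Nat.Prime 2) := ⟨Nat.prime_two⟩
  have sy : Setting 2 y := hy ▸ s.conj g
  have hxx : x * x = 1 := by rw [← sq, ← s.order, pow_orderOf_eq_one]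
  have hyy : y * y = 1 := by rw [← sq, ← sy.order, pow_orderOf_eq_one]
  set t := x * y with ht
  have hxt : x * t = y := by rw [ht, ← mul_assoc, hxx, one_mul]
  have hty : t * y = x := by rw [ht, mul_assoc, hyy, mul_one]
  have hct : Commute x t := (Commute.refl x).mul_right hc
  have hcty : Commute t y := hc.mul_left (Commute.refl y)
  have ht1 : t ≠ 1 := fun h => hne (by rw [← hxt, h, mul_one])
  set A := zpowers x ⊔ zpowers y with hA
  have hYn : zpowers y ≤ normalizer (zpowers x : Set G) :=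
    (zpowers_le.mpr (mem_Cx.mpr hc)).trans (Cx_le_normalizer_zpowers x)
  have hAel : ∀ c ∈ A, c = 1 ∨ c = x ∨ c = y ∨ c = t := by
    intro c hc'
    obtain ⟨i, hi, j, hj, rfl⟩ := (Coprime.mem_sup_of_le_normalizer hYn).mp hc'
    rcases mem_zpowers_two s.order hi with rfl | rfl <;>
      rcases mem_zpowers_two sy.order hj with rfl | rfl <;> simp [ht]
  have hxA : x ∈ A := mem_sup_left (mem_zpowers x)
  have hyA : y ∈ A := mem_sup_right (mem_zpowers y)
  have hAc : ∀ a : G, Commute a x → Commute a y → A ≤ Cx a := fun a h1 h2 =>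
    sup_le (zpowers_le.mpr (mem_Cx.mpr h1)) (zpowers_le.mpr (mem_Cx.mpr h2))
  have hAx : A ≤ Cx x := hAc x (Commute.refl x) hc
  have hAy : A ≤ Cx y := hAc y hc.symm (Commute.refl y)
  have hAt : A ≤ Cx t := hAc t hct.symm hcty
  have hAA : A ≤ Subgroup.centralizer (A : Set G) := by
    refine le_centralizer_iff.mp fun c hc' => mem_centralizer_iff.mpr fun d hd => ?_
    rcases hAel c hc' with rfl | rfl | rfl | rfl
    · simp
    · exact (mem_Cx.mp (hAx hd)).symm
    · exact (mem_Cx.mp (hAy hd)).symm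
    · exact (mem_Cx.mp (hAt hd)).symm
  haveI hAcomm : IsMulCommutative A :=
    ⟨⟨fun a b => Subtype.ext (mem_centralizer_iff.mp (hAA b.2) a a.2)⟩⟩
  have hA2 : IsPGroup 2 A := s.isP.to_sup_of_normal_left' sy.isP hYn
  have hAnc : ¬ IsCyclic A := by
    intro hcy
    obtain ⟨⟨a, haA⟩, hgen⟩ := hcy.exists_generator
    have hsub : ∀ c ∈ A, c ∈ zpowers a := fun c hc' => by
      obtain ⟨i, hi⟩ := mem_zpowers_iff.mp (hgen ⟨c, hc'⟩)
      exact mem_zpowers_iff.mpr ⟨i, congrArg Subtype.val hi⟩
    rcases hAel a haA with h | h | h | h <;> subst h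
    · exact s.ne_one (by simpa using hsub x hxA)
    · rcases mem_zpowers_two s.order (hsub y hyA) with h | h
      · exact sy.ne_one h
      · exact hne h
    · rcases mem_zpowers_two sy.order (hsub x hxA) with h | h
      · exact s.ne_one h
      · exact hne h.symm
    · have ho : orderOf t = 2 := orderOf_eq_prime (by
        rw [sq, ht, show x * y * (x * y) = x * (y * x) * y by group, ← hc.eq,
          show x * (x * y) * y = x * x * (y * y) by group, hxx, hyy, one_mul]) ht1
      rcases mem_zpowers_two ho (hsub x hxA) with h | h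
      · exact s.ne_one h
      · exact sy.ne_one (mul_left_cancel (h.symm.trans (mul_one x).symm))
  -- fixed points of members
  have hline : ∀ (q : ℕ) [Fact q.Prime], q ≠ 2 → ∀ R : Subgroup G, IsPGroup q R →
      A ≤ normalizer (R : Set G) → ∀ a ∈ A, a ≠ 1 →
        ⁅R ⊓ Cx a, A⁆ ≤ core q (Cx a) := by
    intro q _ hqp R hR hRA a ha ha1
    have key : ∀ a b : G, ∀ (_ : Setting 2 b), a ≠ 1 → Commute a b → b ∈ A →
        A ≤ Cx a → (∀ c ∈ A, c = 1 ∨ c = a ∨ c = b ∨ c = a * b) →
        ⁅R ⊓ Cx a, A⁆ ≤ core q (Cx a) := by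
      intro a b sb ha1 hab hbA hAa hel
      set K := R ⊓ Cx a
      have hbn : zpowers b ≤ normalizer (K : Set G) :=
        (zpowers_le.mpr hbA).trans (le_normalizer_inf hRA (hAa.trans le_normalizer))
      have hm : Member b q ⁅K, zpowers b⁆ :=
        member_commutator sb.order hqp (hR.to_le inf_le_left) hbn
      have hL : Cx a ≠ ⊤ := by
        rw [Cx_le_centralizer_singleton]; exact s.centralizer_ne_top ha1
      exact (commutator_le_of_line hab hel inf_le_right).trans ((sb.le_ecore hqp hL (hAa hbA) hm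
        ((Coprime.commutator_le_of_le_normalizer hbn).trans inf_le_right)).trans
        (Coprime.commutator_le_of_le_normalizer
          ((zpowers_le.mpr (hAa hbA)).trans (le_normalizer_core q _))))
    rcases hAel a ha with rfl | rfl | rfl | rfl
    · exact absurd rfl ha1
    · exact key _ y sy ha1 hc hyA hAx (fun c hc' => hAel c hc')
    · refine key _ x s ha1 hc.symm hxA hAy fun c hc' => ?_
      rcases hAel c hc' with h | h | h | h
      · exact Or.inl h
      · exact Or.inr (Or.inr (Or.inl h))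
      · exact Or.inr (Or.inl h)
      · exact Or.inr (Or.inr (Or.inr (by rw [h, ht, hc.eq])))
    · refine key _ x s ha1 hct.symm hxA hAt fun c hc' => ?_
      rcases hAel c hc' with h | h | h | h
      · exact Or.inl h
      · exact Or.inr (Or.inr (Or.inl h))
      · exact Or.inr (Or.inr (Or.inr (by rw [h, hct.symm.eq, hxt])))
      · exact Or.inr (Or.inl h)
  have hfix : ∀ (q : ℕ) [Fact q.Prime], q ≠ 2 → Fix x A q := by
    intro q _ hqp
    set CA := Subgroup.centralizer (A : Set G)
    have hCAx : CA ≤ Cx x := centralizer_le (zpowers_le.mpr hxA)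
    refine ⟨core q (Cx x) ⊔ core q CA, ?_, sup_le (core_le q _) ((core_le q _).trans hCAx),
      le_normalizer_sup (hAx.trans (le_normalizer_core q _)) (hAA.trans (le_normalizer_core q _)), ?_⟩
    · exact (core_isPGroup q _).to_sup_of_normal_left' (core_isPGroup q _)
        (((core_le q CA).trans hCAx).trans (le_normalizer_core q _))
    intro R hR hRA
    set C₁ := R ⊓ Cx x
    have hC₁A : A ≤ normalizer (C₁ : Set G) := le_normalizer_inf hRA (hAx.trans le_normalizer)
    have hC₁y : zpowers y ≤ normalizer (C₁ : Set G) := (zpowers_le.mpr hyA).trans hC₁A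
    refine (Coprime.commutator_sup_inf_centralizer hC₁y
      (coprime_card sy.order hqp (hR.isP.to_le inf_le_left))
      (Or.inl (LocalFlavell.CommutatorFixed.solvable_zpowers y))).ge.trans (sup_le ?_ ?_)
    · have hL : Cx x ≠ ⊤ := by
        rw [Cx_le_centralizer_singleton]; exact s.centralizer_ne_top s.ne_one
      exact ((sy.le_ecore hqp hL (hAx hyA) (member_commutator sy.order hqp
        (hR.isP.to_le inf_le_left) hC₁y) ((Coprime.commutator_le_of_le_normalizer hC₁y).trans
        inf_le_right)).trans (Coprime.commutator_le_of_le_normalizer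
          ((zpowers_le.mpr (hAx hyA)).trans (le_normalizer_core q _)))).trans le_sup_left
    · have hle : C₁ ⊓ Cx y ≤ R ⊓ CA := by
        intro c hc'
        obtain ⟨⟨hcR, hcx⟩, hcy⟩ := hc'
        refine ⟨hcR, (?_ : A ≤ Subgroup.centralizer ({c} : Set G)) |> fun h =>
          mem_centralizer_iff.mpr fun a ha => mem_centralizer_singleton_iff.mp (h ha)⟩
        exact sup_le
          (zpowers_le.mpr (mem_centralizer_singleton_iff.mpr (mem_Cx.mp hcx)))
          (zpowers_le.mpr (mem_centralizer_singleton_iff.mpr (mem_Cx.mp hcy)))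
      refine hle.trans ?_
      have hodd : Odd (Nat.card R) := by
        obtain ⟨n, hn⟩ := hR.isP.exists_card_eq
        rw [hn]
        exact (Nat.Prime.odd_of_ne_two Fact.out hqp).pow
      rw [Coprime.CommGen.generation A A R hA2 hAcomm le_rfl hodd
        (haveI := hR.isP.isNilpotent; inferInstance) hRA (le_antisymm
          (Coprime.commutator_le_of_le_normalizer hRA)
          (hR.comm.ge.trans (commutator_mono le_rfl (zpowers_le.mpr hxA))))]
      refine iSup_le fun B => ?_
      obtain ⟨a, haB, ha1⟩ : ∃ a ∈ (B : Subgroup G), a ≠ 1 := by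
        refine (B : Subgroup G).bot_or_exists_ne_one.resolve_left fun h => hAnc ?_
        have hb : ((B : Subgroup G).subgroupOf A) = ⊥ := by rw [h, bot_subgroupOf]
        haveI hn : ((B : Subgroup G).subgroupOf A).Normal := by rw [hb]; infer_instance
        haveI := @B.2.2 hn
        exact isCyclic_of_surjective
          ((QuotientGroup.quotientMulEquivOfEq hb).trans QuotientGroup.quotientBot).toMonoidHom
          ((QuotientGroup.quotientMulEquivOfEq hb).trans QuotientGroup.quotientBot).surjective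
      have haA : a ∈ A := B.2.1 haB
      have hKa : R ⊓ Subgroup.centralizer ((B : Subgroup G) : Set G) ≤ R ⊓ Cx a :=
        inf_le_inf_left _ (centralizer_le (zpowers_le.mpr haB))
      refine le_sup_of_le_right (le_trans ?_ (inf_le_core (L := Cx a) (centralizer_le (zpowers_le.mpr haA))))
      exact le_inf (inf_le_right.trans ((commutator_mono hKa le_rfl).trans
        (hline q hqp R hR.isP hRA a haA ha1))) (inf_le_left.trans inf_le_right)
  -- the lines
  have hCy : Cx y ≠ ⊤ := by rw [Cx_le_centralizer_singleton]; exact s.centralizer_ne_top sy.ne_one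
  have hCt : Cx t ≠ ⊤ := by rw [Cx_le_centralizer_singleton]; exact s.centralizer_ne_top ht1
  have hpair : ∀ {q r : ℕ} [Fact q.Prime] [Fact r.Prime], q ≠ 2 → r ≠ 2 →
      ∀ u v : G, IsPGroup q (zpowers u) → x * u * x⁻¹ = u⁻¹ → u ∈ Cx y →
      IsPGroup r (zpowers v) → x * v * x⁻¹ = v⁻¹ → v ∈ Cx t →
      ∃ L : Subgroup G, L ≠ ⊤ ∧ A ≤ L ∧ u ∈ L ∧ v ∈ L ∧
        Member x q (zpowers u) ∧ A ≤ normalizer (zpowers u : Set G) ∧
        Member x r (zpowers v) ∧ A ≤ normalizer (zpowers v : Set G) := by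
    intro q r _ _ hqp hrp u v hu hux huy hv hvx hvt
    have hvy : y * v * y⁻¹ = v⁻¹ := by
      have h1 : t * v * t⁻¹ = v := mem_Cx'.mp (mem_Cx.mpr (show t * v = v * t from mem_Cx.mp hvt)) |> fun _ => by
        rw [mem_Cx.mp hvt, mul_inv_cancel_right]
      calc y * v * y⁻¹ = x * (t * v * t⁻¹) * x⁻¹ := by rw [← hxt]; group
        _ = _ := by rw [h1, hvx]
    have ho : ∀ {l : ℕ} [Fact l.Prime], l ≠ 2 → ∀ w : G, IsPGroup l (zpowers w) →
        (orderOf w).Coprime 2 := by
      intro l _ hl w hw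
      obtain ⟨n, hn⟩ := hw.exists_card_eq
      rw [← Nat.card_zpowers, hn]
      exact ((Nat.coprime_primes Fact.out Nat.prime_two).mpr hl).pow_left n
    obtain ⟨hvD, -⟩ := inverted_selfC sy.order hvy (ho hrp v hv)
    obtain ⟨-, hvL, huL⟩ := selfC_mem_closure hvD huy
    set L := Subgroup.closure ({y, v * u} : Set G)
    have hyL : y ∈ L := subset_closure (Set.mem_insert _ _)
    have hxL : zpowers x ≤ normalizer (L : Set G) := by
      rw [zpowers_le, ← Coprime.conj_smul_eq_self_iff]
      refine eq_of_le_of_card_ge ?_ (Coprime.card_conj_smul x L).ge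
      rw [Subgroup.pointwise_smul_subset_iff]
      refine (closure_le _).mpr ?_
      intro a ha
      rw [SetLike.mem_coe, ← map_inv, Coprime.mem_conj_smul, inv_inv]
      rcases ha with rfl | rfl
      · rwa [show x * a * x⁻¹ = a by rw [hc.eq, mul_inv_cancel_right]]
      · rw [show x * (v * u) * x⁻¹ = (x * v * x⁻¹) * (x * u * x⁻¹) by group, hvx, hux]
        exact mul_mem (inv_mem hvL) (inv_mem huL)
    refine ⟨L ⊔ zpowers x, fun htop => ?_, sup_le le_sup_right ((zpowers_le.mpr hyL).trans le_sup_left),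
      mem_sup_left huL, mem_sup_left hvL, ?_⟩
    · haveI : L.Normal := normalizer_eq_top_iff.mp
        (eq_top_iff.mpr (htop ▸ sup_le le_normalizer hxL))
      exact sy.two (v * u) (eq_top_iff.mpr (sy.gen ▸
        normalClosure_le_normal (Set.singleton_subset_iff.mpr hyL)))
    have hfixy : y * u * y⁻¹ = u := by rw [mem_Cx.mp huy, mul_inv_cancel_right]
    have hnorm : ∀ w a : G, (a * w * a⁻¹ = w ∨ a * w * a⁻¹ = w⁻¹) →
        zpowers a ≤ normalizer (zpowers w : Set G) := by
      intro w a haw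
      rw [zpowers_le, ← Coprime.conj_smul_eq_self_iff, Coprime.conj_smul_eq_map,
        MonoidHom.map_zpowers]
      show zpowers (a * w * a⁻¹) = _
      rcases haw with h | h
      · rw [h]
      · rw [h, zpowers_inv]
    obtain ⟨-, hDu⟩ := inverted_selfC s.order hux (ho hqp u hu)
    obtain ⟨-, hDv⟩ := inverted_selfC s.order hvx (ho hrp v hv)
    exact ⟨hDu ▸ member_Dx s.order hqp (hDu.symm ▸ hu), sup_le (hnorm u x (Or.inr hux))
      (hnorm u y (Or.inl hfixy)), hDv ▸ member_Dx s.order hrp (hDv.symm ▸ hv),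
      sup_le (hnorm v x (Or.inr hvx)) (hnorm v y (Or.inr hvy))⟩
  have hUm : ∀ (q : ℕ) [Fact q.Prime], q ≠ 2 →
      (Member x q (ecore x q (Cx y)) ∧ A ≤ normalizer (ecore x q (Cx y) : Set G)) ∧
      (Member x q (ecore x q (Cx t)) ∧ A ≤ normalizer (ecore x q (Cx t) : Set G)) :=
    fun q _ hqp => ⟨⟨member_ecore s.order hqp (hAy hxA), le_normalizer_ecore hAy hAx⟩,
      ⟨member_ecore s.order hqp (hAt hxA), le_normalizer_ecore hAt hAx⟩⟩
  -- a colour is generated by its parts in the lines
  have hgen : ∀ (q : ℕ) [Fact q.Prime], q ≠ 2 → ∀ W : Subgroup G, Member x q W →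
      A ≤ normalizer (W : Set G) →
      W ≤ ecore x q (Cx y) ⊔ ecore x q (Cx t) ∧
      W = ⁅W ⊓ Cx y, zpowers x⁆ ⊔ ⁅W ⊓ Cx t, zpowers x⁆ := by
    intro q _ hqp W hW hWA
    have hn : ∀ a : G, A ≤ Cx a → zpowers x ≤ normalizer ((W ⊓ Cx a : Subgroup G) : Set G) :=
      fun a ha => (zpowers_le.mpr hxA).trans (le_normalizer_inf hWA (ha.trans le_normalizer))
    set N := ⁅W ⊓ Cx y, zpowers x⁆ ⊔ ⁅W ⊓ Cx t, zpowers x⁆
    have hNW : N ≤ W := sup_le
      ((Coprime.commutator_le_of_le_normalizer (hn y hAy)).trans inf_le_left)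
      ((Coprime.commutator_le_of_le_normalizer (hn t hAt)).trans inf_le_left)
    have hNn : zpowers x ≤ normalizer (N : Set G) :=
      le_normalizer_sup (le_normalizer_commutator (hn y hAy) le_normalizer)
        (le_normalizer_commutator (hn t hAt) le_normalizer)
    have hcov : W ≤ N ⊔ (W ⊓ Cx x) := by
      conv_lhs => rw [← Coprime.fixedGen_eq hAnc hWA (by
        obtain ⟨m, hm⟩ := hA2.exists_card_eq
        rw [hm]
        exact (coprime_of_isPGroup hqp hW.isP).symm.pow_left m)]
      refine iSup₂_le fun a ha => ?_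
      rw [← Cx_le_centralizer_singleton]
      rcases hAel a ha.1 with rfl | rfl | rfl | rfl
      · exact absurd rfl ha.2
      · exact le_sup_right
      all_goals
        refine (Coprime.commutator_sup_inf_centralizer (hn _ (by assumption))
          (coprime_card s.order hqp (hW.isP.to_le inf_le_left))
          (Or.inl (LocalFlavell.CommutatorFixed.solvable_zpowers x))).ge.trans (sup_le ?_ ?_)
      · exact le_sup_left.trans le_sup_left
      · exact (inf_le_inf_right _ inf_le_left).trans le_sup_right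
      · exact le_sup_right.trans le_sup_left
      · exact (inf_le_inf_right _ inf_le_left).trans le_sup_right
    have hWN : N = W := hW.eq_of_le_sup hNW hNn hcov
    refine ⟨?_, hWN.symm⟩
    conv_lhs => rw [← hWN]
    exact sup_le_sup
      (s.le_ecore hqp hCy (hAy hxA) (member_commutator s.order hqp (hW.isP.to_le inf_le_left)
        (hn y hAy)) ((Coprime.commutator_le_of_le_normalizer (hn y hAy)).trans inf_le_right))
      (s.le_ecore hqp hCt (hAt hxA) (member_commutator s.order hqp (hW.isP.to_le inf_le_left)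
        (hn t hAt)) ((Coprime.commutator_le_of_le_normalizer (hn t hAt)).trans inf_le_right))
  have huniq : ∀ (q : ℕ) [Fact q.Prime], q ≠ 2 → ∀ W₁ W₂ : Subgroup G,
      AColour x A q W₁ → AColour x A q W₂ → W₁ = W₂ := by
    intro q _ hqp
    set U := ecore x q (Cx y)
    set V := ecore x q (Cx t)
    obtain ⟨⟨hUmem, hUA⟩, hVmem, hVA⟩ := hUm q hqp
    have meet := fun {W₁ W₂ R : Subgroup G} => AColour.eq_of_le (W₁ := W₁) (W₂ := W₂) (R := R)
      s hqp hxA hAx (hfix q hqp)
    have hcol : ∀ W, AColour x A q W → (U ≠ ⊥ ∧ ∀ W', AColour x A q W' → U ≤ W' → W = W') ∨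
        (V ≠ ⊥ ∧ ∀ W', AColour x A q W' → V ≤ W' → W = W') := by
      intro W hW
      obtain ⟨-, hWeq⟩ := hgen q hqp W hW.member hW.inv
      have hn : ∀ a : G, A ≤ Cx a → A ≤ normalizer ((W ⊓ Cx a : Subgroup G) : Set G) :=
        fun a ha => le_normalizer_inf hW.inv (ha.trans le_normalizer)
      have hpart : ∀ a : G, A ≤ Cx a → Cx a ≠ ⊤ → ⁅W ⊓ Cx a, zpowers x⁆ ≠ ⊥ →
          ecore x q (Cx a) ≠ ⊥ ∧ ∀ W', AColour x A q W' → ecore x q (Cx a) ≤ W' → W = W' := by
        intro a ha hL h0
        have hxn := (zpowers_le.mpr hxA).trans (hn a ha)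
        have hm := member_commutator s.order hqp (hW.member.isP.to_le inf_le_left) hxn
        have hle := s.le_ecore hqp hL (ha hxA) hm
          ((Coprime.commutator_le_of_le_normalizer hxn).trans inf_le_right)
        refine ⟨fun h => h0 (le_bot_iff.mp (h ▸ hle)), fun W' hW' hW'a => ?_⟩
        exact meet hW hW' hm (le_normalizer_commutator (hn a ha)
          (hAx.trans (Cx_le_normalizer_zpowers x))) h0
          ((Coprime.commutator_le_of_le_normalizer hxn).trans inf_le_left) (hle.trans hW'a)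
      by_cases h1 : ⁅W ⊓ Cx y, zpowers x⁆ = ⊥
      · refine Or.inr (hpart t hAt hCt fun h2 => hW.ne_bot ?_)
        rw [hWeq, h1, h2, sup_bot_eq]
      · exact Or.inl (hpart y hAy hCy h1)
    have hUV : U ≠ ⊥ → V ≠ ⊥ → ∀ W W', AColour x A q W → AColour x A q W' → U ≤ W → V ≤ W' →
        W = W' := by
      intro hU0 hV0 W W' hW hW' hUW hVW'
      obtain ⟨u, huU, hu1, hux⟩ := exists_inverted s.order hUmem hU0
      obtain ⟨v, hvV, hv1, hvx⟩ := exists_inverted s.order hVmem hV0
      obtain ⟨L, hL, hAL, huL, hvL, hum, huA, hvm, hvA⟩ := hpair hqp hqp u v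
        (hUmem.isP.to_le (zpowers_le.mpr huU)) hux (ecore_le (hAy hxA) huU)
        (hVmem.isP.to_le (zpowers_le.mpr hvV)) hvx (ecore_le (hAt hxA) hvV)
      have huE := s.le_ecore hqp hL (hAL hxA) hum (zpowers_le.mpr huL)
      have hvE := s.le_ecore hqp hL (hAL hxA) hvm (zpowers_le.mpr hvL)
      obtain ⟨W₃, hW₃, hEW⟩ := exists_acolour (member_ecore s.order hqp (hAL hxA))
        (le_normalizer_ecore hAL hAx)
        (fun h => hu1 (mem_bot.mp (h ▸ huE (mem_zpowers u))))
      rw [meet hW hW₃ hum huA (zpowers_ne_bot.mpr hu1) ((zpowers_le.mpr huU).trans hUW)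
        (huE.trans hEW)]
      exact meet hW₃ hW' hvm hvA (zpowers_ne_bot.mpr hv1) (hvE.trans hEW)
        ((zpowers_le.mpr hvV).trans hVW')
    intro W₁ W₂ hW₁ hW₂
    rcases hcol W₁ hW₁ with ⟨a0, a⟩ | ⟨a0, a⟩ <;> rcases hcol W₂ hW₂ with ⟨b0, b⟩ | ⟨b0, b⟩
    · obtain ⟨W', hW', hUW'⟩ := exists_acolour hUmem hUA a0
      exact (a W' hW' hUW').trans (b W' hW' hUW').symm
    · obtain ⟨W', hW', hUW'⟩ := exists_acolour hUmem hUA a0
      obtain ⟨W'', hW'', hVW''⟩ := exists_acolour hVmem hVA b0
      exact ((a W' hW' hUW').trans (hUV a0 b0 W' W'' hW' hW'' hUW' hVW'')).trans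
        (b W'' hW'' hVW'').symm
    · obtain ⟨W', hW', hUW'⟩ := exists_acolour hUmem hUA b0
      obtain ⟨W'', hW'', hVW''⟩ := exists_acolour hVmem hVA a0
      exact ((a W'' hW'' hVW'').trans (hUV b0 a0 W' W'' hW' hW'' hUW' hVW'').symm).trans
        (b W' hW' hUW').symm
    · obtain ⟨W', hW', hVW'⟩ := exists_acolour hVmem hVA a0
      exact (a W' hW' hVW').trans (b W' hW' hVW').symm
  refine s.false_of_cover
    (fun W : {W : Subgroup G // ∃ q : ℕ, q.Prime ∧ q ≠ 2 ∧ AColour x A q W} => (W : Subgroup G))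
    (fun W => ?_) (fun W W' => ?_) ?_
  · obtain ⟨q, hq, hqp, hW⟩ := W.2
    exact ⟨q, hq, hqp, hW.member⟩
  · obtain ⟨q, hq, hqp, hW⟩ := W.2
    obtain ⟨r, hr, hrp, hW'⟩ := W'.2
    haveI := Fact.mk hq
    haveI := Fact.mk hr
    by_cases hqr : q = r
    · subst hqr
      rw [huniq q hqp _ _ hW hW']
      exact le_normalizer
    refine le_trans (le_centralizer_iff.mpr ?_) (centralizer_le_normalizer _)
    obtain ⟨⟨hUq, -⟩, hVq, -⟩ := hUm q hqp
    obtain ⟨⟨hUr, -⟩, hVr, -⟩ := hUm r hrp
    have hcross : ∀ {l m : ℕ} [Fact l.Prime] [Fact m.Prime], l ≠ 2 → m ≠ 2 → l ≠ m →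
        ecore x l (Cx y) ≤ Subgroup.centralizer (ecore x m (Cx t) : Set G) := by
      intro l m _ _ hl hm hlm
      obtain ⟨⟨hU, -⟩, -⟩ := hUm l hl
      obtain ⟨-, hV, -⟩ := hUm m hm
      refine hU.comm.ge.trans (LocalFlavell.CommutatorFixed.commutator_le_of_D fun a ha => ?_)
      refine le_centralizer_iff.mp (hV.comm.ge.trans
        (LocalFlavell.CommutatorFixed.commutator_le_of_D fun b hb => ?_))
      obtain ⟨hDa, hia⟩ := Dx_eq_zpowers s.order a
      obtain ⟨hDb, hib⟩ := Dx_eq_zpowers s.order b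
      have ha' := LocalFlavell.CommutatorFixed.D_le (hU.norm (mem_zpowers x)) ha
        (LocalFlavell.CommutatorFixed.mem_D_one x a)
      have hb' := LocalFlavell.CommutatorFixed.D_le (hV.norm (mem_zpowers x)) hb
        (LocalFlavell.CommutatorFixed.mem_D_one x b)
      obtain ⟨L, hL, hAL, huL, hvL, hum, -, hvm, -⟩ := hpair hl hm _ _
        (hU.isP.to_le (zpowers_le.mpr ha')) hia (ecore_le (hAy hxA) ha')
        (hV.isP.to_le (zpowers_le.mpr hb')) hib (ecore_le (hAt hxA) hb')
      refine le_centralizer_iff.mp ?_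
      rw [show LocalFlavell.CommutatorFixed.D x a = _ from hDa,
        show LocalFlavell.CommutatorFixed.D x b = _ from hDb]
      exact s.commute hl hm hlm hL (hAL hxA) hum (zpowers_le.mpr huL) hvm (zpowers_le.mpr hvL)
    refine (hgen r hrp _ hW'.member hW'.inv).1.trans (sup_le ?_ ?_) <;>
      refine le_centralizer_iff.mp ((hgen q hqp _ hW.member hW.inv).1.trans (sup_le ?_ ?_))
    · exact s.commute hqp hrp hqr hCy (hAy hxA) hUq (ecore_le (hAy hxA)) hUr (ecore_le (hAy hxA))
    · exact le_centralizer_iff.mp (hcross hrp hqp (Ne.symm hqr))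
    · exact hcross hqp hrp hqr
    · exact s.commute hqp hrp hqr hCt (hAt hxA) hVq (ecore_le (hAt hxA)) hVr (ecore_le (hAt hxA))
  · intro q hq hqp R hR
    haveI := Fact.mk hq
    refine hR.comm.ge.trans (LocalFlavell.CommutatorFixed.commutator_le_of_D fun h hh => ?_)
    set i := h⁻¹ * x * h * x⁻¹
    obtain ⟨hD, hinv⟩ := Dx_eq_zpowers s.order h
    show Dx x h ≤ _
    rw [hD]
    by_cases hi1 : i = 1
    · rw [show h⁻¹ * x * h * x⁻¹ = 1 from hi1, zpowers_one_eq_bot]; exact bot_le
    have hiR : i ∈ R := LocalFlavell.CommutatorFixed.D_le (hR.norm (mem_zpowers x)) hh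
      (LocalFlavell.CommutatorFixed.mem_D_one x h)
    have hiq : IsPGroup q (zpowers i) := hR.isP.to_le (zpowers_le.mpr hiR)
    obtain ⟨hiD, hDi⟩ := inverted_selfC s.order hinv (by
      obtain ⟨n, hn⟩ := hiq.exists_card_eq
      rw [← Nat.card_zpowers, hn]
      exact ((Nat.coprime_primes Fact.out Nat.prime_two).mpr hqp).pow_left n)
    obtain ⟨-, hiL, hyL⟩ := selfC_mem_closure hiD (mem_Cx.mpr hc : y ∈ Cx x)
    set L := Subgroup.closure ({x, i * y} : Set G)
    have hxL : x ∈ L := subset_closure (Set.mem_insert _ _)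
    have hAL : A ≤ L := sup_le (zpowers_le.mpr hxL) (zpowers_le.mpr hyL)
    have hm : Member x q (zpowers i) := hDi ▸ member_Dx s.order hqp (hDi.symm ▸ hiq)
    have hiE := s.le_ecore hqp (s.two _) hxL hm (zpowers_le.mpr hiL)
    obtain ⟨W, hW, hEW⟩ := exists_acolour (member_ecore s.order hqp hxL)
      (le_normalizer_ecore hAL hAx) (fun h => hi1 (mem_bot.mp (h ▸ hiE (mem_zpowers i))))
    exact (hiE.trans hEW).trans (le_iSup
      (fun W : {W : Subgroup G // ∃ q : ℕ, q.Prime ∧ q ≠ 2 ∧ AColour x A q W} => (W : Subgroup G))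
      ⟨W, q, hq, hqp, hW⟩)

/-- No minimal counterexample for `p = 2`. -/
theorem false_of_two (s : Setting 2 x) : False := by
  haveI : Fact (Nat.Prime 2) := ⟨Nat.prime_two⟩
  by_cases h : ∀ g : G, Commute x (g * x * g⁻¹) → g * x * g⁻¹ = x
  · have hO : Cfsg.oddCore G = ⊥ := ZStar.Consequences.oddCore_eq_bot fun N hN hodd => by
      by_contra hne
      haveI : Group.IsSolvable N := S0205.result hodd
      haveI : Nontrivial N := (Subgroup.nontrivial_iff_ne_bot N).mpr hne
      haveI := hN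
      refine Cores.fittingSubgroup_ne_bot (G := N) (Subgroup.map_eq_bot_iff_of_injective _
        N.subtype_injective |>.mp (le_bot_iff.mp ?_))
      exact s.fit ▸ Cores.map_fittingSubgroup_subtype_le N
    exact s.ne_one (mem_bot.mp (s.center_eq_bot ▸
      ZStar.Main.mem_center_of_isolated hO ⟨s.order, h⟩))
  · push Not at h
    obtain ⟨g, hc, hne⟩ := h
    exact false_of_commuting s rfl hc hne

end Cfsg.Agent.SecondFitting
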